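import Cfsg.Agent.Lib.LargeExtra.Trichotomy

/-!
A group with a central kernel over a group with a large extraspecial subgroup whose central
involution has non-commuting conjugates: the layer meets the coset above that involution.
-/

set_option autoImplicit false

namespace Cfsg.Agent.LargeExtra.MonsterCent

open Subgroup

variable {C D : Type*} [Group C] [Group D] [Finite C] [Finite D]

theorem exists_mem_layer (π : C →* D) (hπ : Function.Surjective π) (hker : π.ker ≤ Subgroup.center C)
    {R : Subgroup D} {z : D} (H : Ctr R z) (hL : Cfsg.IsLargeExtraspecial R) {zC : C} (hzC : π zC = z)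
    (hnc : ∃ g h : D, g * z * g⁻¹ * (h * z * h⁻¹) ≠ h * z * h⁻¹ * (g * z * g⁻¹)) :
    ∃ u ∈ Cfsg.layer C, π u = z := by
  obtain ⟨g, h, hgh⟩ := hnc
  have hO : Cfsg.pCore 2 D = ⊥ := by
    by_contra hne
    obtain ⟨hcomm, -⟩ := Trichotomy.abelian_case H hL hne
    have hm : ∀ x : D, x * z * x⁻¹ ∈ Subgroup.normalClosure ({z} : Set D) := fun x =>
      (Subgroup.normalClosure_normal (s := ({z} : Set D))).conj_mem z (Subgroup.subset_normalClosure (Set.mem_singleton z)) x
    exact hgh (congrArg Subtype.val (hcomm.is_comm.comm ⟨_, hm g⟩ ⟨_, hm h⟩))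
  have hF : Cfsg.fittingSubgroup C ≤ π.ker := by
    haveI : ((Cfsg.fittingSubgroup C).map π).Normal := Subgroup.Normal.map inferInstance π hπ
    haveI : Group.IsNilpotent ↥((Cfsg.fittingSubgroup C).map π) :=
      Group.nilpotent_of_surjective (π.subgroupMap (Cfsg.fittingSubgroup C)) (π.subgroupMap_surjective _)
    have h1 := Components.Fitting.le_fitting (N := (Cfsg.fittingSubgroup C).map π) inferInstance
    rw [Trichotomy.fitting_eq_bot H hL hO] at h1
    intro x hx
    exact Subgroup.mem_bot.1 (h1 ⟨x, hx, rfl⟩)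
  have hne : (Cfsg.layer C).map π ≠ ⊥ := by
    intro h1
    have hEB : Cfsg.layer C ≤ π.ker := fun x hx =>
      Subgroup.mem_bot.1 (h1 ▸ Subgroup.mem_map_of_mem π hx)
    have hFs : Cfsg.generalizedFittingSubgroup C ≤ Subgroup.center C := (sup_le hEB hF).trans hker
    have hall : Subgroup.centralizer (Cfsg.generalizedFittingSubgroup C : Set C) = ⊤ := by
      rw [eq_top_iff]
      intro x _
      exact Subgroup.mem_centralizer_iff.2 fun y hy => (Subgroup.mem_center_iff.1 (hFs hy) x).symm
    have h2 := Components.Fitting.centralizer_genFitting_le (G := C)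
    rw [hall] at h2
    have h3 : zC ∈ π.ker := sup_le hEB hF (h2 (Subgroup.mem_top _))
    rw [MonoidHom.mem_ker, hzC] at h3
    exact H.ne_one h3
  haveI : ((Cfsg.layer C).map π).Normal := Subgroup.Normal.map inferInstance π hπ
  exact LargeExtra.mem_of_normal H hL _ hne

end Cfsg.Agent.LargeExtra.MonsterCent
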