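import Cfsg.Agent.Lib.LargeExtra.MonsterPair
import Cfsg.Agent.Lib.LargeExtra.Centralizer

/-!
An element of odd prime order centralising the involution of the Monster-type setting: the part of
the extraspecial group it centralises, and lifting from the quotient.
-/

set_option autoImplicit false
set_option linter.unusedSectionVars false

namespace Cfsg.Agent.LargeExtra.MonsterCent

open Subgroup Cfsg.Agent.Leech.Classes Cfsg.Agent.MonsterOrbits Cfsg.Agent.LargeExtra
  Cfsg.Agent.LeechAut.Basic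
open scoped commutatorElement

variable {G : Type*} [Group G] [Finite G] {z : G}
  {Q : Subgroup (Subgroup.centralizer ({z} : Set G))} [Q.Normal]
  {e : (Subgroup.centralizer ({z} : Set G)) ⧸ Q ≃* Cfsg.Spor.Co1}
  {ψ : Cfsg.leechLattice → Q ⧸ Subgroup.center Q}

/-- The classes of the lattice modulo two. -/
abbrev Cls : Type := Cfsg.leechLattice ⧸ (nsmulAddMonoidHom (α := Cfsg.leechLattice) 2).range

/-- An element of `Q` as an element of the group. -/
abbrev up (x : Q) : G := ((x : Subgroup.centralizer ({z} : Set G)) : G)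

theorem up_mem (x : Q) : up x ∈ bigQ Q := ⟨_, x.2, rfl⟩

theorem class_surj (c : Cls) : ∃ v : Cfsg.leechLattice, cls v = c := QuotientAddGroup.mk_surjective c

/-- The classes as cosets of the centre. -/
noncomputable def psiEquiv (hψ : Cfsg.IsLeechModTwoIso Q e ψ) : Cls ≃ Q ⧸ Subgroup.center Q :=
  Equiv.ofBijective (fun c => ψ (class_surj c).choose) ⟨fun a b h => by
    rw [← (class_surj a).choose_spec, ← (class_surj b).choose_spec]
    exact cls_of_psi hψ h, fun q => by
    obtain ⟨v, hv⟩ := hψ.2.1 q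
    exact ⟨cls v, (psi_congr hψ (class_surj (cls v)).choose_spec).trans hv⟩⟩

/-- The class of an element of `Q`. -/
noncomputable def kap (hψ : Cfsg.IsLeechModTwoIso Q e ψ) (x : Q) : Cls :=
  (psiEquiv hψ).symm (QuotientGroup.mk x)

theorem kap_eq (hψ : Cfsg.IsLeechModTwoIso Q e ψ) {x : Q} {v : Cfsg.leechLattice}
    (h : ψ v = QuotientGroup.mk x) : kap hψ x = cls v := by
  rw [kap, Equiv.symm_apply_eq, ← h]
  exact psi_congr hψ (class_surj (cls v)).choose_spec.symm

theorem psi_of_kap (hψ : Cfsg.IsLeechModTwoIso Q e ψ) {x : Q} {v : Cfsg.leechLattice}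
    (h : kap hψ x = cls v) : ψ v = QuotientGroup.mk x := by
  obtain ⟨w, hw⟩ := hψ.2.1 (QuotientGroup.mk x)
  rw [← hw]
  exact psi_congr hψ (h.symm.trans (kap_eq hψ hw))

theorem exists_of_class (hψ : Cfsg.IsLeechModTwoIso Q e ψ) (c : Cls) : ∃ x : Q, kap hψ x = c := by
  obtain ⟨v, rfl⟩ := class_surj c
  obtain ⟨x, hx⟩ := QuotientGroup.mk_surjective (ψ v)
  exact ⟨x, kap_eq hψ hx.symm⟩

/-- Above a set of classes lie twice as many elements. -/
theorem card_over (hψ : Cfsg.IsLeechModTwoIso Q e ψ) (hE : Cfsg.IsExtraspecial 2 Q) (S : Set Cls) :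
    Nat.card {x : Q // kap hψ x ∈ S} = 2 * Nat.card S := by
  let T : Set (Q ⧸ Subgroup.center Q) := (psiEquiv hψ).symm ⁻¹' S
  have h1 : Nat.card {x : Q // kap hψ x ∈ S} = Nat.card ((Subgroup.center Q : Set Q)) * Nat.card T := by
    rw [← Nat.card_prod]
    exact Nat.card_congr (QuotientGroup.preimageMkEquivSubgroupProdSet (Subgroup.center Q) T)
  have h2 : Nat.card T = Nat.card S :=
    Nat.card_congr (((psiEquiv hψ).symm.subtypeEquiv fun _ => Iff.rfl) : {a // a ∈ T} ≃ {a // a ∈ S})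
  rw [h1, h2]
  congr 1
  exact hE.2

/-- The centralised part of the extraspecial group. -/
abbrev fixQ (Q : Subgroup (Subgroup.centralizer ({z} : Set G))) (b : G) : Subgroup G :=
  bigQ Q ⊓ Subgroup.centralizer ({b} : Set G)

/-- The hypotheses: an element of odd prime order of the centralizer of `z` lying over `g`. -/
structure Lifts (e : (Subgroup.centralizer ({z} : Set G)) ⧸ Q ≃* Cfsg.Spor.Co1) (b : G)
    (g : Cfsg.Co0) (p : ℕ) : Prop where
  prime : p.Prime
  odd : p ≠ 2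
  order : orderOf b = p
  mem : b ∈ Subgroup.centralizer ({z} : Set G)
  img : e (QuotientGroup.mk ⟨b, mem⟩) = MonsterPair.toCo1 g

section

variable {w : ℕ} (hS : Cfsg.IsExtraspecialCentralizerSetting z Q w)
  (hψ : Cfsg.IsLeechModTwoIso Q e ψ) {b : G} {g : Cfsg.Co0} {p : ℕ} (hL : Lifts e b g p)

include hS hψ hL

theorem conj_kap (x : Q) {v : Cfsg.leechLattice} (hv : kap hψ x = cls v) :
    kap hψ ⟨⟨b, hL.mem⟩ * x * (⟨b, hL.mem⟩ : Subgroup.centralizer ({z} : Set G))⁻¹,
      (inferInstance : Q.Normal).conj_mem _ x.2 _⟩ = cls (g • v) :=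
  kap_eq hψ (hψ.2.2.2 ⟨b, hL.mem⟩ g hL.img.symm v x (psi_of_kap hψ hv))

theorem center_cases {x y : Q} (h : kap hψ x = kap hψ y) : up y = up x ∨ up y = up x * z := by
  have h' : (QuotientGroup.mk x : Q ⧸ Subgroup.center Q) = QuotientGroup.mk y :=
    (psiEquiv hψ).symm.injective h
  rcases (mem_center_iff' hS).1 (QuotientGroup.eq.1 h') with e' | e'
  · left
    change (up x)⁻¹ * up y = 1 at e'
    exact (inv_mul_eq_one.1 e').symm
  · right
    change (up x)⁻¹ * up y = z at e'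
    exact inv_mul_eq_iff_eq_mul.1 e'

theorem comm_of_mod {y : G} (hy : y ∈ bigQ Q) (h : b * y * b⁻¹ = y ∨ b * y * b⁻¹ = y * z) :
    b * y * b⁻¹ = y := by
  rcases h with h | h
  · exact h
  exfalso
  have hbz : b * z = z * b := mem_centralizer_singleton_iff.1 hL.mem
  have hzp : ∀ n : ℕ, b ^ n * y * (b ^ n)⁻¹ = y * z ^ n := by
    intro n
    induction n with
    | zero => simp
    | succ n ih =>
      calc b ^ (n + 1) * y * (b ^ (n + 1))⁻¹ = b * (b ^ n * y * (b ^ n)⁻¹) * b⁻¹ := by rw [pow_succ']; group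
        _ = (b * y * b⁻¹) * (b * z ^ n * b⁻¹) := by rw [ih]; group
        _ = y * z * z ^ n := by
          rw [h, ((show Commute b z from hbz).pow_right n).eq]; group
        _ = y * z ^ (n + 1) := by rw [mul_assoc, pow_succ']
  have := hzp p
  rw [← hL.order, pow_orderOf_eq_one, one_mul, inv_one, mul_one, hL.order] at this
  obtain ⟨k, hk⟩ := hL.prime.odd_of_ne_two hL.odd
  rw [hk, pow_succ, pow_mul, pow_two, (ctr_bigQ hS).zz, one_pow, one_mul] at this
  exact (ctr_bigQ hS).ne_one (mul_eq_left.1 this.symm)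

/-- An element of `Q` is centralised exactly when its class is fixed. -/
theorem fix_iff (x : Q) {v : Cfsg.leechLattice} (hv : kap hψ x = cls v) :
    up x ∈ fixQ Q b ↔ cls (g • v) = cls v := by
  have hconj := conj_kap hS hψ hL x hv
  constructor
  · intro hx
    rw [← hconj, ← hv]
    refine congrArg (kap hψ) (Subtype.ext (Subtype.ext ?_))
    show b * up x * b⁻¹ = up x
    rw [← mem_centralizer_singleton_iff.1 hx.2, mul_inv_cancel_right]
  · intro h
    refine ⟨up_mem x, ?_⟩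
    have h1 := center_cases hS hψ hL ((hv.trans h.symm).trans hconj.symm)
    have h2 := comm_of_mod hS hψ hL (up_mem x) h1
    rw [mul_inv_eq_iff_eq_mul] at h2
    exact mem_centralizer_singleton_iff.2 h2.symm

theorem z_mem_fixQ : z ∈ fixQ Q b :=
  ⟨(ctr_bigQ hS).z_mem, mem_centralizer_singleton_iff.2 (mem_centralizer_singleton_iff.1 hL.mem).symm⟩

/-- The order of the centralised part. -/
theorem card_fixQ :
    Nat.card (fixQ Q b) = 2 * Nat.card {c : Cls // ∃ v, cls v = c ∧ cls (g • v) = cls v} := by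
  refine Eq.trans ?_ (card_over hψ hS.2.2.1 {c | ∃ v, cls v = c ∧ cls (g • v) = cls v})
  have hiff : ∀ x : Q, up x ∈ fixQ Q b ↔ ∃ v, cls v = kap hψ x ∧ cls (g • v) = cls v := by
    intro x
    obtain ⟨v, hv⟩ := class_surj (kap hψ x)
    refine ⟨fun h => ⟨v, hv, (fix_iff hS hψ hL x hv.symm).1 h⟩, ?_⟩
    rintro ⟨u, hu, hu'⟩
    exact (fix_iff hS hψ hL x hu.symm).2 hu'
  let f : {x : Q // kap hψ x ∈ {c | ∃ v, cls v = c ∧ cls (g • v) = cls v}} → fixQ Q b := fun x =>
    ⟨up x.1, (hiff x.1).2 x.2⟩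
  refine (Nat.card_eq_of_bijective f ⟨fun x y h => ?_, fun r => ?_⟩).symm
  · have h' : up x.1 = up y.1 := congrArg (fun r : fixQ Q b => (r : G)) h
    exact Subtype.ext (Subtype.ext (Subtype.ext h'))
  · obtain ⟨hC, hQ⟩ := mem_bigQ.1 r.2.1
    exact ⟨⟨⟨⟨r, hC⟩, hQ⟩, (hiff ⟨⟨r, hC⟩, hQ⟩).1 r.2⟩, rfl⟩

/-- The centre of the centralised part. -/
theorem fixQ_center {y : G} (hy : y ∈ fixQ Q b) (hc : ∀ x ∈ fixQ Q b, x * y = y * x) :
    y = 1 ∨ y = z := by
  have H := ctr_bigQ hS
  have hall : ∀ q ∈ bigQ Q, q * y = y * q := by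
    intro q hq
    have hqC : q ∈ Subgroup.centralizer ({z} : Set G) := H.le_centralizer hq
    let bC : Subgroup.centralizer ({z} : Set G) := ⟨b, hL.mem⟩
    let qC : Subgroup.centralizer ({z} : Set G) := ⟨q, hqC⟩
    have hqQ : qC ∈ Q := by
      obtain ⟨_, h⟩ := mem_bigQ.1 hq
      exact h
    have hbp : bC ^ p = 1 := Subtype.ext (by
      show b ^ p = 1
      rw [← hL.order, pow_orderOf_eq_one])
    have hmemQ : (qC * bC) ^ p ∈ Q := by
      rw [← QuotientGroup.eq_one_iff, QuotientGroup.mk_pow, QuotientGroup.mk_mul,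
        (QuotientGroup.eq_one_iff qC).2 hqQ, one_mul, ← QuotientGroup.mk_pow, hbp, QuotientGroup.mk_one]
    set t : G := (q * b) ^ p with ht
    have htQ : t ∈ bigQ Q := ⟨_, hmemQ, by simp [bC, qC, ht]⟩
    have htb : b * t * b⁻¹ = q⁻¹ * t * q := by
      have e1 : (q * b) * t = t * (q * b) := ((Commute.refl (q * b)).pow_right p).eq
      calc b * t * b⁻¹ = q⁻¹ * ((q * b) * t) * b⁻¹ := by group
        _ = q⁻¹ * (t * (q * b)) * b⁻¹ := by rw [e1]
        _ = q⁻¹ * t * q := by group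
    have htfix : t ∈ fixQ Q b := by
      refine ⟨htQ, ?_⟩
      have h2 := comm_of_mod hS hψ hL htQ (by
        rw [htb]
        rcases H.comm_cases (inv_mem hq) htQ with e' | e'
        · left
          have := commutatorElement_eq_one_iff_mul_comm.1 e'
          rw [this, inv_mul_cancel_right]
        · right
          rw [commutatorElement_def, inv_inv] at e'
          have h3 : q⁻¹ * t * q = z * t := by rw [← e']; group
          rw [h3, ← H.comm htQ])
      rw [mul_inv_eq_iff_eq_mul] at h2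
      exact mem_centralizer_singleton_iff.2 h2.symm
    have hyb : y * b = b * y := mem_centralizer_singleton_iff.1 hy.2
    have hty := hc t htfix
    rcases H.comm_cases hy.1 hq with e' | e'
    · exact (commutatorElement_eq_one_iff_mul_comm.1 e').symm
    · exfalso
      have hq' : y * (q * b) * y⁻¹ = z * (q * b) := by
        rw [commutatorElement_def] at e'
        calc y * (q * b) * y⁻¹ = (y * q * y⁻¹ * q⁻¹) * q * ((y * b) * y⁻¹) := by group
          _ = z * (q * b) := by rw [e', hyb]; group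
      have hzc : Commute z (q * b) :=
        (show Commute z q from (H.comm hq).symm).mul_right
          (show Commute z b from (mem_centralizer_singleton_iff.1 hL.mem).symm)
      have e2 : y * t * y⁻¹ = z ^ p * t := by rw [ht, ← conj_pow, hq', hzc.mul_pow]
      rw [← hty, mul_inv_cancel_right] at e2
      obtain ⟨k, hk⟩ := hL.prime.odd_of_ne_two hL.odd
      rw [hk, pow_succ, pow_mul, pow_two, H.zz, one_pow, one_mul] at e2
      exact H.ne_one (mul_eq_right.1 e2.symm)
  refine H.mem_zpowers_cases ?_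
  rw [← H.cent, mem_centralizer_iff]
  exact hall

/-- The centralised part is extraspecial when it is more than the centre. -/
theorem fixQ_extraspecial (h4 : 4 ≤ Nat.card (fixQ Q b)) : Cfsg.IsExtraspecial 2 (fixQ Q b) := by
  refine LargeExtra.isExtraspecial_of_center_le (ctr_bigQ hS) inf_le_left
    (fun x hx h => fixQ_center hS hψ hL hx h) ?_
  by_contra hcon
  push Not at hcon
  have hle : fixQ Q b ≤ Subgroup.zpowers z := fun x hx => by
    by_cases h1 : x = 1
    · rw [h1]; exact one_mem _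
    · rw [hcon x hx h1]; exact mem_zpowers z
  have := Subgroup.card_le_of_le hle
  rw [Nat.card_zpowers, (ctr_bigQ hS).two] at this
  omega

end

/-! ### Lifting -/

section

variable {w : ℕ} (hS : Cfsg.IsExtraspecialCentralizerSetting z Q w) {b : G} {p : ℕ}
  (hp : p.Prime) (hp2 : p ≠ 2) (hb : orderOf b = p) (hbz : b ∈ Subgroup.centralizer ({z} : Set G))

include hS hp hp2 hb

theorem not_mem_Q : (⟨b, hbz⟩ : Subgroup.centralizer ({z} : Set G)) ∉ Q := by
  intro h
  obtain ⟨k, hk⟩ := hS.2.2.1.1.1 ⟨_, h⟩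
  have h1 : b ^ (2 ^ k) = 1 := congrArg (fun x : Q => up x) hk
  have h2 := orderOf_dvd_of_pow_eq_one h1
  rw [hb] at h2
  exact hp2 ((Nat.prime_dvd_prime_iff_eq hp Nat.prime_two).1 (hp.dvd_of_dvd_pow h2))

/-- Two elements of order `p` in one coset of `Q` are conjugate under `Q`. -/
theorem exists_conj {b' : G} (hb' : orderOf b' = p) (hbz' : b' ∈ Subgroup.centralizer ({z} : Set G))
    (h : (QuotientGroup.mk (⟨b', hbz'⟩ : Subgroup.centralizer ({z} : Set G)) :
        (Subgroup.centralizer ({z} : Set G)) ⧸ Q) = QuotientGroup.mk ⟨b, hbz⟩) :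
    ∃ q ∈ bigQ Q, q * b' * q⁻¹ = b := by
  haveI : Fact p.Prime := ⟨hp⟩
  set bC : Subgroup.centralizer ({z} : Set G) := ⟨b, hbz⟩ with hbC
  set bC' : Subgroup.centralizer ({z} : Set G) := ⟨b', hbz'⟩ with hbC'
  have ho : orderOf bC = p := by rw [← hb, hbC]; exact (Subgroup.orderOf_coe _).symm
  have ho' : orderOf bC' = p := by rw [← hb', hbC']; exact (Subgroup.orderOf_coe _).symm
  set K := Q ⊔ Subgroup.zpowers bC with hK
  have hm : bC ∈ K := Subgroup.mem_sup_right (mem_zpowers _)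
  have hm' : bC' ∈ K := by
    have hq : bC'⁻¹ * bC ∈ Q := QuotientGroup.eq.1 h
    rw [show bC' = bC * (bC'⁻¹ * bC)⁻¹ by group]
    exact mul_mem hm (inv_mem (Subgroup.mem_sup_left hq))
  have hdisj : Disjoint Q (Subgroup.zpowers bC) := by
    rw [disjoint_iff, eq_bot_iff]
    intro x hx
    by_contra hne
    have hcp : Nat.card (Q ⊓ Subgroup.zpowers bC : Subgroup _) ∣ p := by
      rw [← ho, ← Nat.card_zpowers]
      exact Subgroup.card_dvd_of_le inf_le_right
    rcases (Nat.dvd_prime hp).1 hcp with e' | e'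
    · exact hne (Subgroup.card_eq_one.1 e' ▸ hx)
    · have heq : Q ⊓ Subgroup.zpowers bC = Subgroup.zpowers bC :=
        Subgroup.eq_of_le_of_card_ge inf_le_right (by rw [e', Nat.card_zpowers, ho])
      exact not_mem_Q hS hp hp2 hb hbz (heq.symm ▸ mem_zpowers bC : bC ∈ Q ⊓ Subgroup.zpowers bC).1
  have hcardK : Nat.card K = Nat.card Q * p := by
    have h1 := Subgroup.card_mul_index (Q.subgroupOf K)
    rw [Nat.card_congr (Subgroup.subgroupOfEquivOfLe (show Q ≤ K from le_sup_left)).toEquiv] at h1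
    rw [← h1]
    congr 1
    have e1 := QuotientGroup.quotientInfEquivProdNormalQuotient (Subgroup.zpowers bC) Q
    have e2 := Nat.card_congr e1.toEquiv
    have hbot : Q.subgroupOf (Subgroup.zpowers bC) = ⊥ := Subgroup.subgroupOf_eq_bot.2 hdisj
    rw [hbot, ← Subgroup.index_eq_card, Subgroup.index_bot, Nat.card_zpowers, ho] at e2
    rw [hK, Subgroup.index_eq_card, sup_comm]
    exact e2.symm
  have hcop : ¬ p ∣ Nat.card Q := by
    rw [hS.2.2.2.1]
    intro hd
    exact hp2 ((Nat.prime_dvd_prime_iff_eq hp Nat.prime_two).1 (hp.dvd_of_dvd_pow hd))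
  have hP : ∀ x : K, orderOf x = p →
      ∃ P : Sylow p K, (P : Subgroup K) = Subgroup.zpowers x := by
    intro x hx
    refine ⟨Sylow.ofCard (Subgroup.zpowers x) ?_, rfl⟩
    rw [Nat.card_zpowers, hx, hcardK, Nat.factorization_mul Nat.card_pos.ne' hp.ne_zero,
      Finsupp.add_apply, Nat.factorization_eq_zero_of_not_dvd hcop, zero_add,
      Nat.Prime.factorization_self hp, pow_one]
  obtain ⟨P, hP1⟩ := hP ⟨bC, hm⟩ (by rw [← ho]; exact (Subgroup.orderOf_coe _).symm)
  obtain ⟨P', hP'⟩ := hP ⟨bC', hm'⟩ (by rw [← ho']; exact (Subgroup.orderOf_coe _).symm)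
  obtain ⟨⟨k, hk⟩, hkP⟩ := MulAction.exists_smul_eq K P' P
  have hmem : (⟨k, hk⟩ : K) * ⟨bC', hm'⟩ * (⟨k, hk⟩ : K)⁻¹ ∈ (P : Subgroup K) := by
    rw [← hkP, Sylow.coe_subgroup_smul, Subgroup.mem_pointwise_smul_iff_inv_smul_mem, ← map_inv,
      MulAut.smul_def, MulAut.conj_apply, hP']
    convert mem_zpowers (⟨bC', hm'⟩ : K) using 1
    group
  rw [hP1] at hmem
  obtain ⟨j, hj⟩ := hmem
  have hj' : bC ^ j = k * bC' * k⁻¹ := by
    simpa using congrArg (fun x : K => (x : Subgroup.centralizer ({z} : Set G))) hj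
  -- split `k` along `Q`
  rw [hK, ← SetLike.mem_coe, Subgroup.normal_mul] at hk
  obtain ⟨q, hq, r, hr, rfl⟩ := hk
  obtain ⟨i, rfl⟩ := hr
  have hbc : bC ^ j = q * (bC ^ i * bC' * (bC ^ i)⁻¹) * q⁻¹ := by rw [hj']; group
  have hmk : (QuotientGroup.mk (bC ^ j) : (Subgroup.centralizer ({z} : Set G)) ⧸ Q) = QuotientGroup.mk bC := by
    rw [hbc, QuotientGroup.mk_mul, QuotientGroup.mk_mul, QuotientGroup.mk_mul, QuotientGroup.mk_mul,
      QuotientGroup.mk_inv, QuotientGroup.mk_inv, QuotientGroup.mk_zpow,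
      (QuotientGroup.eq_one_iff q).2 hq, h]
    group
  have hjb : bC ^ j = bC := by
    have h1 : (bC ^ j)⁻¹ * bC ∈ Q := QuotientGroup.eq.1 hmk
    have h2 : (bC ^ j)⁻¹ * bC ∈ Subgroup.zpowers bC :=
      mul_mem (inv_mem ⟨j, rfl⟩) (mem_zpowers _)
    exact inv_mul_eq_one.1 (Subgroup.disjoint_def.1 hdisj h1 h2)
  rw [hjb] at hbc
  refine ⟨((bC ^ (-i) * q * bC ^ i : Subgroup.centralizer ({z} : Set G)) : G), ?_, ?_⟩
  · refine ⟨bC ^ (-i) * q * bC ^ i, ?_, rfl⟩
    have := (inferInstance : Q.Normal).conj_mem q hq (bC ^ (-i))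
    simpa [zpow_neg] using this
  · have e' : bC ^ (-i) * q * bC ^ i * bC' * (bC ^ (-i) * q * bC ^ i)⁻¹ = bC := by
      calc bC ^ (-i) * q * bC ^ i * bC' * (bC ^ (-i) * q * bC ^ i)⁻¹
          = bC ^ (-i) * (q * (bC ^ i * bC' * (bC ^ i)⁻¹) * q⁻¹) * bC ^ i := by group
        _ = bC ^ (-i) * bC * bC ^ i := by rw [← hbc]
        _ = bC := by group
    simpa using congrArg (fun x : Subgroup.centralizer ({z} : Set G) => (x : G)) e'

/-- Elements of the quotient raising the image to a power lift. -/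
theorem exists_lift {k : ℕ} (hk : ¬ p ∣ k) {c : (Subgroup.centralizer ({z} : Set G)) ⧸ Q}
    (hc : c * QuotientGroup.mk ⟨b, hbz⟩ * c⁻¹ = QuotientGroup.mk ⟨b, hbz⟩ ^ k) :
    ∃ (h : G) (hh : h ∈ Subgroup.centralizer ({z} : Set G)),
      QuotientGroup.mk (⟨h, hh⟩ : Subgroup.centralizer ({z} : Set G)) = c ∧ h * b * h⁻¹ = b ^ k := by
  obtain ⟨⟨h, hh⟩, rfl⟩ := QuotientGroup.mk_surjective c
  have ho : orderOf (h * b * h⁻¹) = p := by
    rw [← hb]
    exact orderOf_injective (MulAut.conj h).toMonoidHom (MulAut.conj h).injective b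
  have hok : orderOf (b ^ k) = p := by
    rw [Nat.Coprime.orderOf_pow (by rw [hb]; exact (Nat.Prime.coprime_iff_not_dvd hp).2 hk), hb]
  have hm : h * b * h⁻¹ ∈ Subgroup.centralizer ({z} : Set G) := mul_mem (mul_mem hh hbz) (inv_mem hh)
  obtain ⟨q, hq, hqe⟩ := exists_conj hS (b := b ^ k) hp hp2 hok (pow_mem hbz k) ho hm (by
    rw [← QuotientGroup.mk_pow, ← QuotientGroup.mk_inv, ← QuotientGroup.mk_mul, ← QuotientGroup.mk_mul] at hc
    exact hc)
  obtain ⟨hqC, hqQ⟩ := mem_bigQ.1 hq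
  refine ⟨q * h, mul_mem hqC hh, ?_, ?_⟩
  · rw [show (⟨q * h, mul_mem hqC hh⟩ : Subgroup.centralizer ({z} : Set G)) = ⟨q, hqC⟩ * ⟨h, hh⟩ from rfl,
      QuotientGroup.mk_mul, (QuotientGroup.eq_one_iff _).2 hqQ, one_mul]
  · rw [← hqe]; group

end

end Cfsg.Agent.LargeExtra.MonsterCent
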