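import Cfsg.Agent.Lib.LargeExtra.MonsterCent.Lift
import Cfsg.Agent.Lib.CharP.CharP

/-!
The centralizer of an element of odd prime order modulo the group it generates: the extraspecial
centralizer setting at the image of the involution.
-/

set_option autoImplicit false
set_option linter.unusedSectionVars false

namespace Cfsg.Agent.LargeExtra.MonsterCent

open Subgroup Cfsg.Agent.Leech.Classes Cfsg.Agent.MonsterOrbits Cfsg.Agent.LargeExtra
  Cfsg.Agent.LeechAut.Basic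
open scoped commutatorElement

variable {G : Type*} [Group G] [Finite G] {z : G}
  {Q : Subgroup (Subgroup.centralizer ({z} : Set G))} [Q.Normal]
  {e : (Subgroup.centralizer ({z} : Set G)) ⧸ Q ≃* Cfsg.Spor.Co1}
  {ψ : Cfsg.leechLattice → Q ⧸ Subgroup.center Q}

/-- The centralizer of the group generated by `b`. -/
abbrev centB (b : G) : Subgroup G := Subgroup.centralizer ((Subgroup.zpowers b : Subgroup G) : Set G)

theorem mem_centB {b x : G} : x ∈ centB b ↔ x * b = b * x := by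
  rw [mem_centralizer_iff]
  constructor
  · intro h
    exact (h b (mem_zpowers b)).symm
  · rintro h _ ⟨i, rfl⟩
    exact ((show Commute x b from h).zpow_right i).eq.symm

/-- The quotient by the group generated by `b`. -/
abbrev quoB (b : G) : Type _ := ↥(centB b) ⧸ (Subgroup.zpowers b).subgroupOf (centB b)

theorem mk_eq_iff {b : G} {x y : centB b} :
    (QuotientGroup.mk x : quoB b) = QuotientGroup.mk y ↔ (x : G)⁻¹ * y ∈ Subgroup.zpowers b := by
  rw [QuotientGroup.eq, Subgroup.mem_subgroupOf]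
  rfl

variable {w : ℕ} (hS : Cfsg.IsExtraspecialCentralizerSetting z Q w)
  (hψ : Cfsg.IsLeechModTwoIso Q e ψ) {b : G} {g : Cfsg.Co0} {p : ℕ} (hL : Lifts e b g p)

include hS hψ hL

theorem z_mem_centB : z ∈ centB b :=
  mem_centB.2 (mem_centralizer_singleton_iff.1 hL.mem).symm

theorem fixQ_le_centB : fixQ Q b ≤ centB b := fun _ hx =>
  mem_centB.2 (mem_centralizer_singleton_iff.1 hx.2)

theorem eq_of_mk {x y : G} (hx : x ∈ centB b) (hy : y ∈ centB b) (hxy : x⁻¹ * y ∈ bigQ Q)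
    (h : (QuotientGroup.mk ⟨x, hx⟩ : quoB b) = QuotientGroup.mk ⟨y, hy⟩) : x = y := by
  have h1 := mk_eq_iff.1 h
  by_contra hne
  have hne' : x⁻¹ * y ≠ 1 := fun e' => hne (inv_mul_eq_one.1 e')
  haveI : Fact p.Prime := ⟨hL.prime⟩
  have hp' : orderOf (x⁻¹ * y) ∣ p := by
    rw [← hL.order, ← Nat.card_zpowers b]
    exact Subgroup.orderOf_dvd_natCard _ h1
  obtain ⟨hC, hQ⟩ := mem_bigQ.1 hxy
  obtain ⟨k, hk⟩ := hS.2.2.1.1.1 ⟨_, hQ⟩
  have h2 : (x⁻¹ * y) ^ (2 ^ k) = 1 := congrArg (fun u : Q => up u) hk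
  rcases (Nat.dvd_prime hL.prime).1 hp' with e' | e'
  · exact hne' (orderOf_eq_one_iff.1 e')
  · have := orderOf_dvd_of_pow_eq_one h2
    rw [e'] at this
    exact hL.odd ((Nat.prime_dvd_prime_iff_eq hL.prime Nat.prime_two).1 (hL.prime.dvd_of_dvd_pow this))

/-- Conjugacy of the images lifts. -/
theorem conj_lift [hn : ((Subgroup.zpowers b).subgroupOf (centB b)).Normal] {r : G} (hr : r ∈ fixQ Q b)
    {hrC : r ∈ centB b}
    (h : IsConj (QuotientGroup.mk ⟨z, z_mem_centB hS hψ hL⟩ : quoB b) (QuotientGroup.mk ⟨r, hrC⟩)) :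
    ∃ d ∈ centB b, d * z * d⁻¹ = r := by
  obtain ⟨c, hc⟩ := isConj_iff.1 h
  obtain ⟨⟨d, hd⟩, rfl⟩ := QuotientGroup.mk_surjective c
  refine ⟨d, hd, ?_⟩
  have hdb := mem_centB.1 hd
  have hmem : d * z * d⁻¹ ∈ centB b :=
    mul_mem (mul_mem hd (z_mem_centB hS hψ hL)) (inv_mem hd)
  have h1 : (d * z * d⁻¹)⁻¹ * r ∈ Subgroup.zpowers b := (mk_eq_iff (x := ⟨_, hmem⟩) (y := ⟨r, hrC⟩)).1 hc
  obtain ⟨i, hi⟩ := h1
  change b ^ i = _ at hi
  set u := d * z * d⁻¹ with hu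
  have hu2 : u * u = 1 := by
    rw [hu, show d * z * d⁻¹ * (d * z * d⁻¹) = d * (z * z) * d⁻¹ by group, (ctr_bigQ hS).zz]; group
  have hcomm : Commute u (b ^ i) := (show Commute u b from mem_centB.1 hmem).zpow_right i
  have hr' : r = u * b ^ i := by rw [hi]; group
  obtain ⟨k, hk⟩ := hS.2.2.1.1.1 ⟨_, (mem_bigQ.1 hr.1).2⟩
  have h2 : r ^ (2 ^ k) = 1 := congrArg (fun v : Q => up v) hk
  have h3 : (b ^ i) ^ (2 ^ (k + 1)) = 1 := by
    have h4 : r ^ (2 ^ (k + 1)) = 1 := by rw [pow_succ, pow_mul, h2, one_pow]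
    rw [hr', hcomm.mul_pow, pow_succ', pow_mul, pow_two, hu2, one_pow, one_mul] at h4
    rw [pow_succ']
    exact h4
  have h5 : orderOf (b ^ i) ∣ p := by
    rw [← hL.order, ← Nat.card_zpowers b]
    exact Subgroup.orderOf_dvd_natCard _ ⟨i, rfl⟩
  rcases (Nat.dvd_prime hL.prime).1 h5 with e' | e'
  · rw [hr', orderOf_eq_one_iff.1 e', mul_one]
  · exfalso
    have := orderOf_dvd_of_pow_eq_one h3
    rw [e'] at this
    exact hL.odd ((Nat.prime_dvd_prime_iff_eq hL.prime Nat.prime_two).1 (hL.prime.dvd_of_dvd_pow this))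

/-- The setting in the quotient. -/
theorem exists_setting [hn : ((Subgroup.zpowers b).subgroupOf (centB b)).Normal]
    {H : Type} [Group H] [Finite H] {w' : ℕ} (hw' : 1 ≤ w')
    (hfixed : Nat.card {c : Cls // ∃ v, cls v = c ∧ cls (g • v) = cls v} = 2 ^ (2 * w'))
    (hfuse : ∃ d ∈ centB b, d * z * d⁻¹ ∈ bigQ Q ∧ d * z * d⁻¹ ≠ z)
    (ρ : ↥(Subgroup.centralizer ({MonsterPair.toCo1 g} : Set Cfsg.Spor.Co1)) →* H)
    (hsurj : Function.Surjective ρ)
    (hker : ∀ c : ↥(Subgroup.centralizer ({MonsterPair.toCo1 g} : Set Cfsg.Spor.Co1)), ρ c = 1 ↔ (c : Cfsg.Spor.Co1) ∈ Subgroup.zpowers (MonsterPair.toCo1 g))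
    (hfaith : ∀ (c : ↥(Subgroup.centralizer ({MonsterPair.toCo1 g} : Set Cfsg.Spor.Co1))) (k : Cfsg.Co0), MonsterPair.toCo1 k = (c : Cfsg.Spor.Co1) →
      (∀ v : Cfsg.leechLattice, cls (g • v) = cls v → cls (k • v) = cls v) → ρ c = 1)
    (hH : Cfsg.pCore 2 H = ⊥) :
    ∃ (R : Subgroup (Subgroup.centralizer ({(QuotientGroup.mk ⟨z, z_mem_centB hS hψ hL⟩ : quoB b)} : Set (quoB b))))
      (_ : R.Normal),
      Cfsg.IsExtraspecialCentralizerSetting (QuotientGroup.mk ⟨z, z_mem_centB hS hψ hL⟩ : quoB b) R w' ∧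
      Nonempty ((Subgroup.centralizer ({(QuotientGroup.mk ⟨z, z_mem_centB hS hψ hL⟩ : quoB b)} : Set (quoB b))) ⧸ R ≃* H) ∧
      ∀ x, x ∈ R ↔ ∃ r, ∃ hr : r ∈ fixQ Q b, (x : quoB b) = QuotientGroup.mk ⟨r, fixQ_le_centB hS hψ hL hr⟩ := by
  haveI : Fact (Nat.Prime 2) := ⟨Nat.prime_two⟩
  have H0 := ctr_bigQ hS
  set zb : quoB b := QuotientGroup.mk ⟨z, z_mem_centB hS hψ hL⟩ with hzb
  -- the centralizer of both
  let Cz : Subgroup G := Subgroup.centralizer ({z} : Set G) ⊓ Subgroup.centralizer ({b} : Set G)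
  have hCzB : ∀ {x : G}, x ∈ Cz → x ∈ centB b := fun hx =>
    mem_centB.2 (mem_centralizer_singleton_iff.1 hx.2)
  let φ0 : Cz →* quoB b := (QuotientGroup.mk' _).comp (Subgroup.inclusion fun _ hx => hCzB hx)
  have hφ0 : ∀ x : Cz, φ0 x ∈ Subgroup.centralizer ({zb} : Set (quoB b)) := by
    intro x
    rw [mem_centralizer_singleton_iff, hzb]
    show QuotientGroup.mk' _ (Subgroup.inclusion _ x) * QuotientGroup.mk' _ _ = QuotientGroup.mk' _ _ * QuotientGroup.mk' _ _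
    rw [← map_mul, ← map_mul]
    exact congrArg _ (Subtype.ext (mem_centralizer_singleton_iff.1 x.2.1))
  let φ : Cz →* Subgroup.centralizer ({zb} : Set (quoB b)) := φ0.codRestrict _ hφ0
  have hφval : ∀ x : Cz, ((φ x : quoB b)) = QuotientGroup.mk ⟨(x : G), hCzB x.2⟩ := fun _ => rfl
  have hφsurj : Function.Surjective φ := by
    rintro ⟨c, hc⟩
    obtain ⟨⟨x, hx⟩, rfl⟩ := QuotientGroup.mk_surjective c
    have hxz : (QuotientGroup.mk ⟨x, hx⟩ : quoB b) * zb * (QuotientGroup.mk ⟨x, hx⟩)⁻¹ = zb := by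
      rw [mem_centralizer_singleton_iff.1 hc, mul_inv_cancel_right]
    obtain ⟨d, hd, hde⟩ := conj_lift hS hψ hL (z_mem_fixQ hS hψ hL) (hrC := z_mem_centB hS hψ hL)
      (isConj_iff.2 ⟨_, hxz⟩)
    -- the same element conjugates `z` to itself
    have hxx : x * z * x⁻¹ = z := by
      have hmem : x * z * x⁻¹ ∈ centB b := mul_mem (mul_mem hx (z_mem_centB hS hψ hL)) (inv_mem hx)
      have h1 : (x * z * x⁻¹)⁻¹ * z ∈ Subgroup.zpowers b :=
        (mk_eq_iff (x := ⟨_, hmem⟩) (y := ⟨z, z_mem_centB hS hψ hL⟩)).1 hxz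
      obtain ⟨i, hi⟩ := h1
      change b ^ i = _ at hi
      have hcm : Commute (x * z * x⁻¹) (b ^ i) :=
        (show Commute (x * z * x⁻¹) b from mem_centB.1 hmem).zpow_right i
      have h2 : (b ^ i) * (b ^ i) = 1 := by
        have e1 : z = (x * z * x⁻¹) * b ^ i := by rw [hi]; group
        have e2 := H0.zz
        rw [e1, show (x * z * x⁻¹) * b ^ i * ((x * z * x⁻¹) * b ^ i)
            = (x * z * x⁻¹) * (b ^ i * (x * z * x⁻¹)) * b ^ i by group, ← hcm.eq,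
          show (x * z * x⁻¹) * ((x * z * x⁻¹) * b ^ i) * b ^ i = x * (z * z) * x⁻¹ * (b ^ i * b ^ i) by group] at e2
        simpa [H0.zz] using e2
      have h5 : orderOf (b ^ i) ∣ p := by
        rw [← hL.order, ← Nat.card_zpowers b]
        exact Subgroup.orderOf_dvd_natCard _ ⟨i, rfl⟩
      rcases (Nat.dvd_prime hL.prime).1 h5 with e' | e'
      · rw [hi] at e'
        exact (inv_mul_eq_one.1 (orderOf_eq_one_iff.1 e'))
      · exfalso
        have := orderOf_dvd_of_pow_eq_one ((pow_two _).trans h2)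
        rw [e'] at this
        exact hL.odd ((Nat.prime_dvd_prime_iff_eq hL.prime Nat.prime_two).1 this)
    exact ⟨⟨x, mem_centralizer_singleton_iff.2 (mul_inv_eq_iff_eq_mul.1 hxx),
      mem_centralizer_singleton_iff.2 (mem_centB.1 hx)⟩, Subtype.ext rfl⟩
  -- the map to `H`
  have hres : ∀ x : Cz, e (QuotientGroup.mk ⟨x, x.2.1⟩) ∈
      Subgroup.centralizer ({MonsterPair.toCo1 g} : Set Cfsg.Spor.Co1) := by
    intro x
    rw [mem_centralizer_singleton_iff, ← hL.img, ← map_mul, ← map_mul, ← QuotientGroup.mk_mul, ← QuotientGroup.mk_mul]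
    exact congrArg (fun u => e (QuotientGroup.mk u)) (Subtype.ext (mem_centralizer_singleton_iff.1 x.2.2))
  let res : Cz →* Subgroup.centralizer ({MonsterPair.toCo1 g} : Set Cfsg.Spor.Co1) :=
    ((e.toMonoidHom.comp (QuotientGroup.mk' Q)).comp (Subgroup.inclusion (inf_le_left : Cz ≤ Subgroup.centralizer ({z} : Set G)))).codRestrict _ hres
  let θ : Cz →* H := ρ.comp res
  have hfixCz : ∀ {r : G}, r ∈ fixQ Q b → r ∈ Cz := fun hr => ⟨H0.le_centralizer hr.1, hr.2⟩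
  have hker' : ∀ x : Cz, θ x = 1 ↔ ∃ r ∈ fixQ Q b, r⁻¹ * (x : G) ∈ Subgroup.zpowers b := by
    intro x
    show ρ (res x) = 1 ↔ _
    rw [hker]
    constructor
    · rintro ⟨i, hi⟩
      have hbi : e (QuotientGroup.mk ((⟨b, hL.mem⟩ : Subgroup.centralizer ({z} : Set G)) ^ i)) =
          e (QuotientGroup.mk ⟨x, x.2.1⟩) := by
        rw [QuotientGroup.mk_zpow, map_zpow, hL.img]
        exact hi
      have hmem := QuotientGroup.eq.1 (e.injective hbi)
      refine ⟨(x : G) * (b ^ i)⁻¹, ⟨?_, ?_⟩, ?_⟩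
      · have h2 := (inferInstance : Q.Normal).conj_mem _ hmem ((⟨b, hL.mem⟩ : Subgroup.centralizer ({z} : Set G)) ^ i)
        refine ⟨_, h2, ?_⟩
        simp
      · have hbC : b ∈ Subgroup.centralizer ({b} : Set G) := mem_centralizer_singleton_iff.2 rfl
        exact (Subgroup.centralizer ({b} : Set G)).mul_mem x.2.2
          (Subgroup.inv_mem _ (Subgroup.zpow_mem _ hbC i))
      · refine ⟨i, ?_⟩
        show b ^ i = ((x : G) * (b ^ i)⁻¹)⁻¹ * x
        group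
    · rintro ⟨r, hr, i, hi⟩
      refine ⟨i, ?_⟩
      show MonsterPair.toCo1 g ^ i = e (QuotientGroup.mk ⟨x, x.2.1⟩)
      change b ^ i = r⁻¹ * (x : G) at hi
      rw [← hL.img, ← map_zpow, ← QuotientGroup.mk_zpow]
      refine congrArg e ?_
      obtain ⟨hrC, hrQ⟩ := mem_bigQ.1 hr.1
      rw [show (⟨x, x.2.1⟩ : Subgroup.centralizer ({z} : Set G)) = ⟨r, hrC⟩ * ⟨b, hL.mem⟩ ^ i from
        Subtype.ext (by simp [hi]), QuotientGroup.mk_mul, (QuotientGroup.eq_one_iff _).2 hrQ, one_mul]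
  have hθsurj : Function.Surjective θ := by
    intro t
    obtain ⟨⟨c, hc⟩, rfl⟩ := hsurj t
    obtain ⟨c', rfl⟩ := e.surjective c
    have hcc : c' * QuotientGroup.mk ⟨b, hL.mem⟩ * c'⁻¹ = (QuotientGroup.mk ⟨b, hL.mem⟩) ^ 1 := by
      apply e.injective
      rw [map_mul, map_mul, map_inv, map_pow, pow_one, hL.img, mem_centralizer_singleton_iff.1 hc, mul_inv_cancel_right]
    obtain ⟨h, hh, hhc, hhb⟩ := exists_lift hS hL.prime hL.odd hL.order hL.mem
      (fun hd => hL.prime.one_lt.not_ge (Nat.le_of_dvd one_pos hd)) hcc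
    rw [pow_one, mul_inv_eq_iff_eq_mul] at hhb
    exact ⟨⟨h, hh, mem_centralizer_singleton_iff.2 hhb⟩, congrArg ρ (Subtype.ext (congrArg e hhc))⟩
  have hle : φ.ker ≤ θ.ker := by
    intro x hx
    rw [MonoidHom.mem_ker, hker']
    refine ⟨1, one_mem _, ?_⟩
    have h1 : (QuotientGroup.mk ⟨(x : G), hCzB x.2⟩ : quoB b) = 1 := congrArg Subtype.val hx
    rw [QuotientGroup.eq_one_iff, Subgroup.mem_subgroupOf] at h1
    simpa using h1
  let θb : ↥(Subgroup.centralizer ({zb} : Set (quoB b))) →* H := φ.liftOfSurjective hφsurj ⟨θ, hle⟩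
  have hθb : ∀ x, θb (φ x) = θ x := fun x =>
    MonoidHom.liftOfRightInverse_comp_apply φ _ (Function.rightInverse_surjInv hφsurj) ⟨θ, hle⟩ x
  have hθbsurj : Function.Surjective θb := fun t => by
    obtain ⟨x, rfl⟩ := hθsurj t
    exact ⟨φ x, hθb x⟩
  refine ⟨θb.ker, inferInstance, ?_⟩
  have hmem : ∀ x, x ∈ θb.ker ↔ ∃ r, ∃ hr : r ∈ fixQ Q b,
      (x : quoB b) = QuotientGroup.mk ⟨r, fixQ_le_centB hS hψ hL hr⟩ := by
    intro x
    obtain ⟨y, rfl⟩ := hφsurj x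
    rw [MonoidHom.mem_ker, hθb, hker']
    constructor
    · rintro ⟨r, hr, hri⟩
      refine ⟨r, hr, ?_⟩
      rw [hφval]
      exact ((mk_eq_iff (x := ⟨r, fixQ_le_centB hS hψ hL hr⟩) (y := ⟨(y : G), hCzB y.2⟩)).2 hri).symm
    · rintro ⟨r, hr, he⟩
      rw [hφval] at he
      exact ⟨r, hr, mk_eq_iff.1 he.symm⟩
  let φR : fixQ Q b →* θb.ker :=
    (φ.comp (Subgroup.inclusion fun _ hr => hfixCz hr)).codRestrict _ fun r =>
      (hmem _).2 ⟨r, r.2, rfl⟩
  have hφR : Function.Bijective φR := by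
    constructor
    · intro r r' h
      have h' : (QuotientGroup.mk ⟨(r : G), fixQ_le_centB hS hψ hL r.2⟩ : quoB b) =
          QuotientGroup.mk ⟨(r' : G), fixQ_le_centB hS hψ hL r'.2⟩ :=
        congrArg (fun u : θb.ker => ((u : Subgroup.centralizer ({zb} : Set (quoB b))) : quoB b)) h
      exact Subtype.ext (eq_of_mk hS hψ hL _ _ (mul_mem (inv_mem r.2.1) r'.2.1) h')
    · rintro ⟨x, hx⟩
      obtain ⟨r, hr, he⟩ := (hmem x).1 hx
      exact ⟨⟨r, hr⟩, Subtype.ext (Subtype.ext he.symm)⟩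
  have hRcard : Nat.card θb.ker = 2 ^ (2 * w' + 1) := by
    rw [← Nat.card_eq_of_bijective φR hφR, card_fixQ hS hψ hL, hfixed, pow_succ']
  have h4 : 4 ≤ Nat.card (fixQ Q b) := by
    rw [card_fixQ hS hψ hL, hfixed]
    calc (4 : ℕ) = 2 * 2 ^ 1 := by norm_num
      _ ≤ 2 * 2 ^ (2 * w') := Nat.mul_le_mul_left 2 (Nat.pow_le_pow_right (by norm_num) (by omega))
  have hRext : Cfsg.IsExtraspecial 2 θb.ker :=
    LargeExtra.isExtraspecial_of_equiv (fixQ_extraspecial hS hψ hL h4) (MulEquiv.ofBijective φR hφR)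
  have hRp : IsPGroup 2 θb.ker := hRext.1.1
  have hcore : Cfsg.pCore 2 ↥(Subgroup.centralizer ({zb} : Set (quoB b))) = θb.ker := by
    refine le_antisymm (fun x hx => ?_) (Cfsg.Agent.Cores.le_pCore hRp)
    have hn2 : ((Cfsg.pCore 2 ↥(Subgroup.centralizer ({zb} : Set (quoB b)))).map θb).Normal :=
      Subgroup.Normal.map inferInstance θb hθbsurj
    have h1 := Cfsg.Agent.Cores.le_pCore (hN := hn2)
      ((Cfsg.Agent.Cores.pCore_isPGroup (G := ↥(Subgroup.centralizer ({zb} : Set (quoB b)))) 2).map θb)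
    rw [hH, le_bot_iff] at h1
    rw [MonoidHom.mem_ker]
    exact (Subgroup.mem_bot).1 (h1 ▸ Subgroup.mem_map_of_mem θb hx)
  have hcent : Subgroup.centralizer (θb.ker : Set ↥(Subgroup.centralizer ({zb} : Set (quoB b)))) ≤ θb.ker := by
    intro y hy
    obtain ⟨x, rfl⟩ := hφsurj y
    rw [MonoidHom.mem_ker, hθb]
    show ρ (res x) = 1
    obtain ⟨k, hk⟩ := QuotientGroup.mk_surjective (s := Subgroup.center Cfsg.Co0) ((res x : Cfsg.Spor.Co1))
    refine hfaith _ k hk fun v hv => ?_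
    obtain ⟨q, hq⟩ := exists_of_class hψ (cls v)
    have hqF : up q ∈ fixQ Q b := (fix_iff hS hψ hL q hq).2 hv
    have hqx : (x : G) * up q * (x : G)⁻¹ ∈ fixQ Q b :=
      ⟨H0.conj_mem (mem_centralizer_singleton_iff.1 x.2.1) hqF.1,
        (Subgroup.centralizer ({b} : Set G)).mul_mem ((Subgroup.centralizer ({b} : Set G)).mul_mem x.2.2 hqF.2)
          (Subgroup.inv_mem _ x.2.2)⟩
    have hcm := mem_centralizer_iff.1 hy (φR ⟨_, hqF⟩ : Subgroup.centralizer ({zb} : Set (quoB b))) (φR ⟨_, hqF⟩).2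
    have hfixed' : (x : G) * up q * (x : G)⁻¹ = up q := by
      have e1 : φR ⟨_, hqx⟩ = φR ⟨_, hqF⟩ := by
        refine Subtype.ext ?_
        show φ _ = φ _
        have e2 : φ ⟨(x : G) * up q * (x : G)⁻¹, hfixCz hqx⟩ = φ x * φ ⟨up q, hfixCz hqF⟩ * (φ x)⁻¹ := by
          rw [← map_inv, ← map_mul, ← map_mul]
          rfl
        change φ ⟨(x : G) * up q * (x : G)⁻¹, hfixCz hqx⟩ = φ ⟨up q, hfixCz hqF⟩
        rw [e2]
        change φ ⟨up q, hfixCz hqF⟩ * φ x = φ x * φ ⟨up q, hfixCz hqF⟩ at hcm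
        rw [← hcm, mul_inv_cancel_right]
      exact congrArg Subtype.val (hφR.1 e1)
    have h3 := hψ.2.2.2 ⟨x, x.2.1⟩ k hk v q (psi_of_kap hψ hq)
    rw [← kap_eq hψ h3, ← hq]
    exact congrArg (kap hψ) (Subtype.ext (Subtype.ext hfixed'))
  refine ⟨⟨?_, ?_, hRext, hRcard, ?_⟩, ⟨QuotientGroup.quotientKerEquivOfSurjective θb hθbsurj⟩, hmem⟩
  · refine orderOf_eq_prime ?_ fun e' => ?_
    · rw [hzb, ← QuotientGroup.mk_pow]
      exact congrArg _ (Subtype.ext (show z ^ 2 = 1 by rw [pow_two]; exact H0.zz))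
    · refine H0.ne_one (eq_of_mk hS hψ hL (one_mem _) (z_mem_centB hS hψ hL) (by simpa using H0.z_mem) ?_).symm
      exact e'.symm
  · rw [← hcore]
    exact Cfsg.Agent.CharP.genFitting_eq_pCore_iff.2 (by rw [hcore]; exact hcent)
  · obtain ⟨d, hd, hdQ, hdz⟩ := hfuse
    have hu : d * z * d⁻¹ ∈ centB b := mul_mem (mul_mem hd (z_mem_centB hS hψ hL)) (inv_mem hd)
    have huF : d * z * d⁻¹ ∈ fixQ Q b :=
      ⟨hdQ, mem_centralizer_singleton_iff.2 (mem_centB.1 hu)⟩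
    refine ⟨QuotientGroup.mk ⟨d, hd⟩, ?_, fun e' => hdz ?_⟩
    · exact ⟨(φ ⟨_, hfixCz huF⟩).2, (hmem _).2 ⟨_, huF, rfl⟩⟩
    · exact eq_of_mk hS hψ hL hu (z_mem_centB hS hψ hL) (mul_mem (inv_mem hdQ) H0.z_mem) e'

end Cfsg.Agent.LargeExtra.MonsterCent
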