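import Mathlib

/-!
Explicit tables: an element of order seven of the automorphism group of the 24-point code with three fixed
points, representatives of the classes it fixes in the lattice modulo two, and two elements normalising it.
-/

set_option autoImplicit false

namespace Cfsg.Agent.LargeExtra.MonsterCent.Seven

/-- A table of a permutation. -/
def sigmaTab : List ℕ := [4, 0, 1, 3, 20, 12, 14, 23, 8, 15, 19, 9, 11, 5, 2, 22, 17, 7, 16, 18, 6, 21, 13, 10]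

/-- The inverse table. -/
def sigmaInv : List ℕ := [1, 2, 14, 3, 0, 13, 20, 17, 8, 11, 23, 12, 5, 22, 6, 9, 18, 16, 19, 10, 4, 21, 15, 7]

/-- A table of a permutation. -/
def permR3Tab : List ℕ := [17, 16, 18, 8, 7, 1, 10, 11, 21, 20, 15, 4, 0, 2, 19, 6, 5, 12, 13, 22, 23, 3, 14, 9]

/-- The inverse table. -/
def permR3Inv : List ℕ := [12, 5, 13, 21, 11, 16, 15, 4, 3, 23, 6, 7, 17, 18, 22, 10, 1, 0, 2, 14, 9, 8, 19, 20]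

/-- A table of a permutation. -/
def permR2Tab : List ℕ := [17, 16, 18, 3, 7, 5, 10, 4, 21, 9, 6, 11, 12, 13, 19, 15, 1, 0, 2, 14, 23, 8, 22, 20]

/-- The inverse table. -/
def permR2Inv : List ℕ := [17, 16, 18, 3, 7, 5, 10, 4, 21, 9, 6, 11, 12, 13, 19, 15, 1, 0, 2, 14, 23, 8, 22, 20]

/-- A table of a permutation. -/
def gATab : List ℕ := [10, 21, 8, 1, 7, 19, 5, 9, 15, 2, 23, 22, 12, 17, 14, 20, 4, 16, 13, 3, 18, 11, 0, 6]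

/-- The inverse table. -/
def gAInv : List ℕ := [22, 3, 9, 19, 16, 6, 23, 4, 2, 7, 0, 21, 12, 18, 14, 8, 17, 13, 20, 5, 15, 1, 11, 10]

/-- A table of a permutation. -/
def gBTab : List ℕ := [13, 6, 18, 8, 14, 19, 0, 3, 9, 17, 4, 20, 21, 5, 2, 10, 7, 1, 11, 16, 23, 15, 12, 22]

/-- The inverse table. -/
def gBInv : List ℕ := [6, 17, 14, 7, 10, 13, 1, 16, 3, 8, 15, 18, 22, 0, 4, 21, 19, 9, 2, 5, 11, 12, 23, 20]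

/-- A table of a permutation. -/
def gCTab : List ℕ := [2, 23, 16, 10, 12, 21, 13, 18, 14, 19, 4, 15, 9, 20, 11, 7, 0, 1, 22, 8, 5, 17, 6, 3]

/-- The inverse table. -/
def gCInv : List ℕ := [16, 17, 0, 23, 10, 20, 22, 15, 19, 12, 3, 14, 4, 6, 8, 11, 2, 21, 7, 9, 13, 5, 18, 1]

/-- A table of a permutation. -/
def hKTab : List ℕ := [5, 13, 22, 21, 12, 18, 9, 0, 3, 7, 20, 17, 16, 19, 15, 23, 2, 1, 14, 6, 11, 8, 10, 4]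

/-- The inverse table. -/
def hKInv : List ℕ := [7, 17, 16, 8, 23, 0, 19, 9, 21, 6, 22, 20, 4, 1, 18, 14, 12, 11, 5, 13, 10, 3, 2, 15]

/-- A table of a permutation. -/
def tATab : List ℕ := [16, 21, 19, 1, 8, 12, 15, 14, 13, 23, 10, 4, 6, 0, 20, 17, 5, 3, 22, 2, 18, 11, 9, 7]

/-- The inverse table. -/
def tAInv : List ℕ := [13, 3, 19, 17, 11, 16, 12, 23, 4, 22, 10, 21, 5, 8, 7, 6, 0, 15, 20, 2, 14, 1, 18, 9]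

/-- A table of a permutation. -/
def tBTab : List ℕ := [20, 10, 2, 1, 5, 0, 4, 6, 8, 18, 3, 22, 19, 21, 9, 16, 13, 23, 14, 12, 7, 17, 11, 15]

/-- The inverse table. -/
def tBInv : List ℕ := [5, 3, 2, 10, 6, 4, 7, 20, 8, 14, 1, 22, 19, 16, 18, 23, 15, 21, 9, 12, 0, 13, 11, 17]

/-- A table of a permutation. -/
def tCTab : List ℕ := [6, 16, 15, 3, 10, 0, 11, 12, 4, 5, 9, 17, 1, 23, 18, 14, 19, 22, 8, 20, 21, 7, 2, 13]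

/-- The inverse table. -/
def tCInv : List ℕ := [5, 12, 22, 3, 8, 9, 0, 21, 18, 10, 4, 6, 7, 23, 15, 2, 1, 11, 14, 16, 19, 20, 17, 13]

/-- A mask of a code word. -/
def gAMask : ℕ := 8158182

/-- A mask of a code word. -/
def gBMask : ℕ := 0

/-- A mask of a code word. -/
def gCMask : ℕ := 1075305

/-- A mask of a code word. -/
def tAMask : ℕ := 7845555

/-- A mask of a code word. -/
def tBMask : ℕ := 0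

/-- A mask of a code word. -/
def tCMask : ℕ := 804052

/-- Representatives of the fixed classes, indexed by their coordinates. -/
def repTab : List (List ℤ) :=
  [[0, 0, 0, 0, 0, 0, 0, 0, 0, 0, 0, 0, 0, 0, 0, 0, 0, 0, 0, 0, 0, 0, 0, 0],
   [0, 0, 0, -8, 0, 0, 0, 0, 0, 0, 0, 0, 0, 0, 0, 0, 0, 0, 0, 0, 0, 0, 0, 0],
   [-2, -2, -2, -4, -2, 0, -2, 0, -2, 0, 0, 0, 0, 0, -2, 0, 0, 0, 0, 0, -2, -4, 0, 0],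
   [-2, -2, -2, -4, -2, 0, -2, 0, -2, 0, 0, 0, 0, 0, -2, 0, 0, 0, 0, 0, -2, 4, 0, 0],
   [-2, -2, -2, -2, -2, 2, -2, 0, 2, 2, 0, 2, 2, 2, -2, 2, 0, 0, 0, 0, -2, 0, 2, 0],
   [-2, -2, -2, 2, -2, -2, -2, 0, 2, -2, 0, -2, -2, -2, -2, -2, 0, 0, 0, 0, -2, 0, -2, 0],
   [-2, -2, -2, 0, -2, 0, -2, 2, 2, 0, 2, 0, 0, 0, -2, 0, 2, 2, 2, 2, -2, -2, 0, 2],
   [-2, -2, -2, 0, -2, 0, -2, -2, 2, 0, -2, 0, 0, 0, -2, 0, -2, -2, -2, -2, -2, 2, 0, -2],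
   [-2, -2, -2, -2, -2, -2, -2, 0, -2, -2, 0, -2, -2, -2, -2, -2, 0, 0, 0, 0, -2, 0, -2, 0],
   [0, 0, 0, 0, 0, 0, 0, -2, 0, 0, -2, 0, 0, 0, 0, 0, -2, -2, -2, -2, 0, -2, 0, -2],
   [0, 0, 0, -2, 0, 2, 0, 0, 0, 2, 0, 2, 2, 2, 0, 2, 0, 0, 0, 0, 0, -4, 2, 0],
   [0, 0, 0, -2, 0, 2, 0, 0, 0, 2, 0, 2, 2, 2, 0, 2, 0, 0, 0, 0, 0, 4, 2, 0],
   [0, 0, 0, -4, 0, 0, 0, 0, 4, 0, 0, 0, 0, 0, 0, 0, 0, 0, 0, 0, 0, 0, 0, 0],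
   [0, 0, 0, -4, 0, 0, 0, 0, -4, 0, 0, 0, 0, 0, 0, 0, 0, 0, 0, 0, 0, 0, 0, 0],
   [-2, -2, -2, 0, -2, 0, -2, 0, 2, 0, 0, 0, 0, 0, -2, 0, 0, 0, 0, 0, -2, 4, 0, 0],
   [-2, -2, -2, 0, -2, 0, -2, 0, 2, 0, 0, 0, 0, 0, -2, 0, 0, 0, 0, 0, -2, -4, 0, 0],
   [-2, -2, -2, 0, -2, 0, -2, -2, -2, 0, -2, 0, 0, 0, -2, 0, -2, -2, -2, -2, -2, -2, 0, -2],
   [0, 0, 0, -2, 0, -2, 0, 0, 0, -2, 0, -2, -2, -2, 0, -2, 0, 0, 0, 0, 0, 0, -2, 0],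
   [0, 0, 0, -4, 0, 0, 0, 2, 0, 0, 2, 0, 0, 0, 0, 0, 2, 2, 2, 2, 0, -2, 0, 2],
   [0, 0, 0, -4, 0, 0, 0, -2, 0, 0, -2, 0, 0, 0, 0, 0, -2, -2, -2, -2, 0, 2, 0, -2],
   [-2, -2, -2, 4, -2, 0, -2, 0, 2, 0, 0, 0, 0, 0, -2, 0, 0, 0, 0, 0, -2, 0, 0, 0],
   [-2, -2, -2, -4, -2, 0, -2, 0, 2, 0, 0, 0, 0, 0, -2, 0, 0, 0, 0, 0, -2, 0, 0, 0],
   [0, 0, 0, 0, 0, 0, 0, 0, -4, 0, 0, 0, 0, 0, 0, 0, 0, 0, 0, 0, 0, 4, 0, 0],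
   [0, 0, 0, 0, 0, 0, 0, 0, -4, 0, 0, 0, 0, 0, 0, 0, 0, 0, 0, 0, 0, -4, 0, 0],
   [-2, -2, -2, 0, -2, 0, -2, 0, 6, 0, 0, 0, 0, 0, -2, 0, 0, 0, 0, 0, -2, 0, 0, 0],
   [-2, -2, -2, 0, -2, 0, -2, 0, -2, 0, 0, 0, 0, 0, -2, 0, 0, 0, 0, 0, -2, 0, 0, 0],
   [0, 0, 0, -4, 0, 0, 0, 0, 0, 0, 0, 0, 0, 0, 0, 0, 0, 0, 0, 0, 0, 4, 0, 0],
   [0, 0, 0, -4, 0, 0, 0, 0, 0, 0, 0, 0, 0, 0, 0, 0, 0, 0, 0, 0, 0, -4, 0, 0],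
   [0, 0, 0, -2, 0, 2, 0, 0, -4, 2, 0, 2, 2, 2, 0, 2, 0, 0, 0, 0, 0, 0, 2, 0],
   [0, 0, 0, -2, 0, 2, 0, 0, 4, 2, 0, 2, 2, 2, 0, 2, 0, 0, 0, 0, 0, 0, 2, 0],
   [0, 0, 0, 0, 0, 0, 0, -2, 4, 0, -2, 0, 0, 0, 0, 0, -2, -2, -2, -2, 0, 2, 0, -2],
   [0, 0, 0, 0, 0, 0, 0, -2, -4, 0, -2, 0, 0, 0, 0, 0, -2, -2, -2, -2, 0, 2, 0, -2],
   [-1, -1, -1, -5, -1, -1, -1, -1, 3, -1, -1, -1, -1, -1, -1, -1, -1, -1, -1, -1, -1, 3, -1, -1],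
   [-1, -1, -1, 3, -1, -1, -1, -1, 3, -1, -1, -1, -1, -1, -1, -1, -1, -1, -1, -1, -1, 3, -1, -1],
   [-1, -1, -1, 1, -1, 1, -1, 1, 3, 1, 1, 1, 1, 1, -1, 1, 1, 1, 1, 1, -1, 1, 1, 1],
   [-1, -1, -1, 1, -1, 1, -1, 1, -5, 1, 1, 1, 1, 1, -1, 1, 1, 1, 1, 1, -1, 1, 1, 1],
   [-1, -1, -1, -1, -1, -1, -1, 1, -1, -1, 1, -1, -1, -1, -1, -1, 1, 1, 1, 1, -1, -3, -1, 1],
   [-1, -1, -1, -1, -1, -1, -1, 1, -1, -1, 1, -1, -1, -1, -1, -1, 1, 1, 1, 1, -1, 5, -1, 1],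
   [-1, -1, -1, -3, -1, 1, -1, -1, -1, 1, -1, 1, 1, 1, -1, 1, -1, -1, -1, -1, -1, -1, 1, -1],
   [-1, -1, -1, 5, -1, 1, -1, -1, -1, 1, -1, 1, 1, 1, -1, 1, -1, -1, -1, -1, -1, -1, 1, -1],
   [-1, -1, -1, -5, -1, -1, -1, 1, 3, -1, 1, -1, -1, -1, -1, -1, 1, 1, 1, 1, -1, -3, -1, 1],
   [-1, -1, -1, 3, -1, -1, -1, 1, 3, -1, 1, -1, -1, -1, -1, -1, 1, 1, 1, 1, -1, -3, -1, 1],
   [-1, -1, -1, 1, -1, 1, -1, -1, -5, 1, -1, 1, 1, 1, -1, 1, -1, -1, -1, -1, -1, -1, 1, -1],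
   [-1, -1, -1, 1, -1, 1, -1, -1, 3, 1, -1, 1, 1, 1, -1, 1, -1, -1, -1, -1, -1, -1, 1, -1],
   [-1, -1, -1, -1, -1, -1, -1, -1, -1, -1, -1, -1, -1, -1, -1, -1, -1, -1, -1, -1, -1, 3, -1, -1],
   [-1, -1, -1, -1, -1, -1, -1, -1, -1, -1, -1, -1, -1, -1, -1, -1, -1, -1, -1, -1, -1, -5, -1, -1],
   [-1, -1, -1, 5, -1, 1, -1, 1, -1, 1, 1, 1, 1, 1, -1, 1, 1, 1, 1, 1, -1, 1, 1, 1],
   [-1, -1, -1, -3, -1, 1, -1, 1, -1, 1, 1, 1, 1, 1, -1, 1, 1, 1, 1, 1, -1, 1, 1, 1],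
   [-1, -1, -1, -3, -1, 1, -1, -1, -5, 1, -1, 1, 1, 1, -1, 1, -1, -1, -1, -1, -1, 3, 1, -1],
   [-1, -1, -1, -3, -1, 1, -1, -1, 3, 1, -1, 1, 1, 1, -1, 1, -1, -1, -1, -1, -1, 3, 1, -1],
   [-1, -1, -1, -1, -1, -1, -1, 1, -5, -1, 1, -1, -1, -1, -1, -1, 1, 1, 1, 1, -1, 1, -1, 1],
   [-1, -1, -1, -1, -1, -1, -1, 1, 3, -1, 1, -1, -1, -1, -1, -1, 1, 1, 1, 1, -1, 1, -1, 1],
   [-1, -1, -1, 1, -1, 1, -1, 1, -1, 1, 1, 1, 1, 1, -1, 1, 1, 1, 1, 1, -1, 5, 1, 1],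
   [-1, -1, -1, 1, -1, 1, -1, 1, -1, 1, 1, 1, 1, 1, -1, 1, 1, 1, 1, 1, -1, -3, 1, 1],
   [-1, -1, -1, 3, -1, -1, -1, -1, -1, -1, -1, -1, -1, -1, -1, -1, -1, -1, -1, -1, -1, -1, -1, -1],
   [-1, -1, -1, -5, -1, -1, -1, -1, -1, -1, -1, -1, -1, -1, -1, -1, -1, -1, -1, -1, -1, -1, -1, -1],
   [-1, -1, -1, -3, -1, 1, -1, 1, -5, 1, 1, 1, 1, 1, -1, 1, 1, 1, 1, 1, -1, -3, 1, 1],
   [-1, -1, -1, -3, -1, 1, -1, 1, 3, 1, 1, 1, 1, 1, -1, 1, 1, 1, 1, 1, -1, -3, 1, 1],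
   [-1, -1, -1, -1, -1, -1, -1, -1, 3, -1, -1, -1, -1, -1, -1, -1, -1, -1, -1, -1, -1, -1, -1, -1],
   [-1, -1, -1, -1, -1, -1, -1, -1, -5, -1, -1, -1, -1, -1, -1, -1, -1, -1, -1, -1, -1, -1, -1, -1],
   [-1, -1, -1, 1, -1, 1, -1, -1, -1, 1, -1, 1, 1, 1, -1, 1, -1, -1, -1, -1, -1, -5, 1, -1],
   [-1, -1, -1, 1, -1, 1, -1, -1, -1, 1, -1, 1, 1, 1, -1, 1, -1, -1, -1, -1, -1, 3, 1, -1],
   [-1, -1, -1, -5, -1, -1, -1, 1, -1, -1, 1, -1, -1, -1, -1, -1, 1, 1, 1, 1, -1, 1, -1, 1],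
   [-1, -1, -1, 3, -1, -1, -1, 1, -1, -1, 1, -1, -1, -1, -1, -1, 1, 1, 1, 1, -1, 1, -1, 1]]

/-- The class of the trace of the odd generator. -/
def oddCert : ℕ := 44

/-- The classes of the traces of the pair generators with positive sign. -/
def pairCertP : List ℕ := [23, 23, 23, 27, 23, 27, 23, 1, 23, 27, 1, 27, 27, 27, 23, 27, 1, 1, 1, 1, 23, 1, 27]

/-- The classes of the traces of the pair generators with negative sign. -/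
def pairCertN : List ℕ := [22, 22, 22, 26, 22, 26, 22, 0, 22, 26, 0, 26, 26, 26, 22, 26, 0, 0, 0, 0, 22, 0, 26]

/-- The classes of the traces of the basis code words. -/
def codeCert : List ℕ := [12, 22, 22, 24, 12, 5, 5, 12, 28, 5, 5, 9]

end Cfsg.Agent.LargeExtra.MonsterCent.Seven
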