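import Cfsg.Agent.Lib.LargeExtra.MonsterPair
import Cfsg.Agent.Lib.LeechAut.Xi
import Cfsg.Agent.Lib.LargeExtra.MonsterCent.SevenData

/-!
An element of order seven of the stabiliser of the standard cross, two elements outside that
stabiliser normalising the group it generates, and some monomial elements centralising it.
-/

set_option autoImplicit false
set_option maxRecDepth 100000
set_option maxHeartbeats 4000000

namespace Cfsg.Agent.LargeExtra.MonsterCent.Seven

open Cfsg Cfsg.Agent.Golay.Basic Cfsg.Agent.Leech.Basic Cfsg.Agent.Leech.Classes Cfsg.Agent.Leech.Mod2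
  Cfsg.Agent.LeechAut.Gens Cfsg.Agent.LeechAut.Basic Cfsg.Agent.LeechAut.Cross Cfsg.Agent.LeechAut.Xi
  Cfsg.Agent.LeechAut.Co1 Cfsg.Agent.Leech.Index
open scoped Pointwise

/-- The map of a table. -/
def tabFun (l : List ℕ) (p : GolayPt) : GolayPt := pt (l.getD (ix p) 0)

/-- The permutation of a pair of tables. -/
def tp (l l' : List ℕ) (h : ∀ p, tabFun l' (tabFun l p) = p) (h' : ∀ p, tabFun l (tabFun l' p) = p) :
    Equiv.Perm GolayPt :=
  ⟨tabFun l, tabFun l', h, h'⟩

theorem mem_M24_of_masks (π : Equiv.Perm GolayPt)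
    (h : ∀ b ∈ basisMasks, isCode (mask (π • maskSet b)) = true) : π ∈ Cfsg.M24 :=
  Cfsg.Agent.Golay.M24.mem_M24_of_basis fun b hb => mem_supports_iff.2 (h b hb)

/-- The permutation of order seven. -/
def sigmaP : Equiv.Perm GolayPt := tp sigmaTab sigmaInv (by decide +kernel) (by decide +kernel)
/-- A permutation. -/
def r3P : Equiv.Perm GolayPt := tp permR3Tab permR3Inv (by decide +kernel) (by decide +kernel)
/-- A permutation. -/
def r2P : Equiv.Perm GolayPt := tp permR2Tab permR2Inv (by decide +kernel) (by decide +kernel)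
/-- A permutation. -/
def gAP : Equiv.Perm GolayPt := tp gATab gAInv (by decide +kernel) (by decide +kernel)
/-- A permutation. -/
def gBP : Equiv.Perm GolayPt := tp gBTab gBInv (by decide +kernel) (by decide +kernel)
/-- A permutation. -/
def gCP : Equiv.Perm GolayPt := tp gCTab gCInv (by decide +kernel) (by decide +kernel)
/-- A permutation. -/
def hKP : Equiv.Perm GolayPt := tp hKTab hKInv (by decide +kernel) (by decide +kernel)
/-- A permutation. -/
def tAP : Equiv.Perm GolayPt := tp tATab tAInv (by decide +kernel) (by decide +kernel)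
/-- A permutation. -/
def tBP : Equiv.Perm GolayPt := tp tBTab tBInv (by decide +kernel) (by decide +kernel)
/-- A permutation. -/
def tCP : Equiv.Perm GolayPt := tp tCTab tCInv (by decide +kernel) (by decide +kernel)

theorem sigma_mem : sigmaP ∈ Cfsg.M24 := mem_M24_of_masks _ (by decide +kernel)
theorem r3_mem : r3P ∈ Cfsg.M24 := mem_M24_of_masks _ (by decide +kernel)
theorem r2_mem : r2P ∈ Cfsg.M24 := mem_M24_of_masks _ (by decide +kernel)
theorem gA_mem : gAP ∈ Cfsg.M24 := mem_M24_of_masks _ (by decide +kernel)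
theorem gB_mem : gBP ∈ Cfsg.M24 := mem_M24_of_masks _ (by decide +kernel)
theorem gC_mem : gCP ∈ Cfsg.M24 := mem_M24_of_masks _ (by decide +kernel)
theorem hK_mem : hKP ∈ Cfsg.M24 := mem_M24_of_masks _ (by decide +kernel)
theorem tA_mem : tAP ∈ Cfsg.M24 := mem_M24_of_masks _ (by decide +kernel)
theorem tB_mem : tBP ∈ Cfsg.M24 := mem_M24_of_masks _ (by decide +kernel)
theorem tC_mem : tCP ∈ Cfsg.M24 := mem_M24_of_masks _ (by decide +kernel)

/-- A monomial element given by a permutation and a mask. -/
def mEl (π : Cfsg.M24) (m : ℕ) (hm : isCode (mask (maskSet m)) = true) : Cfsg.Co0 :=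
  mono (π, ⟨maskSet m, mem_supports_iff.2 hm⟩)

/-- The action of a monomial element on vectors. -/
def mFun (π : Equiv.Perm GolayPt) (m : ℕ) (x : Vec) : Vec := fun i =>
  if m.testBit (ix i) then -x (π.symm i) else x (π.symm i)

theorem mEl_smul (π : Cfsg.M24) (m : ℕ) (hm : isCode (mask (maskSet m)) = true) (v : leechLattice) :
    ((mEl π m hm • v : leechLattice) : Vec) = mFun π m (v : Vec) := by
  rw [mEl, mono_smul]
  funext i
  simp [mFun, signedPerm]

/-- The element of order seven. -/
def sig : Cfsg.Co0 := mEl ⟨sigmaP, sigma_mem⟩ 0 (by decide +kernel)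
/-- A monomial element centralising it. -/
def er3 : Cfsg.Co0 := mEl ⟨r3P, r3_mem⟩ 0 (by decide +kernel)
/-- A monomial element centralising it. -/
def er2 : Cfsg.Co0 := mEl ⟨r2P, r2_mem⟩ 0 (by decide +kernel)
/-- A sign change centralising it. -/
def ec1 : Cfsg.Co0 := mEl 1 0x104157 (by decide +kernel)
/-- A sign change centralising it. -/
def ec2 : Cfsg.Co0 := mEl 1 0x40ba28 (by decide +kernel)
/-- An element centralising it, outside the stabiliser of the cross. -/
def hEl : Cfsg.Co0 :=
  mEl ⟨gAP, gA_mem⟩ gAMask (by decide +kernel) * (xi * (mEl ⟨gBP, gB_mem⟩ gBMask (by decide +kernel) *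
    (xi * (mEl ⟨gCP, gC_mem⟩ gCMask (by decide +kernel) * mEl ⟨hKP, hK_mem⟩ 0 (by decide +kernel)))))
/-- An element inducing an automorphism of order six on the group it generates. -/
def tau : Cfsg.Co0 :=
  mEl ⟨tAP, tA_mem⟩ tAMask (by decide +kernel) * (xi * (mEl ⟨tBP, tB_mem⟩ tBMask (by decide +kernel) *
    (xi * mEl ⟨tCP, tC_mem⟩ tCMask (by decide +kernel))))

/-- The action on vectors. -/
def sigFun : Vec → Vec := mFun sigmaP 0
/-- The action on vectors. -/
def r3Fun : Vec → Vec := mFun r3P 0
/-- The action on vectors. -/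
def r2Fun : Vec → Vec := mFun r2P 0
/-- The action on vectors. -/
def c1Fun : Vec → Vec := mFun 1 0x104157
/-- The action on vectors. -/
def c2Fun : Vec → Vec := mFun 1 0x40ba28
/-- The action on vectors. -/
def hFun (x : Vec) : Vec :=
  mFun gAP gAMask (xiFun (mFun gBP gBMask (xiFun (mFun gCP gCMask (mFun hKP 0 x)))))
/-- The action on vectors. -/
def tauFun (x : Vec) : Vec := mFun tAP tAMask (xiFun (mFun tBP tBMask (xiFun (mFun tCP tCMask x))))

theorem sig_smul (v : leechLattice) : ((sig • v : leechLattice) : Vec) = sigFun (v : Vec) :=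
  mEl_smul _ _ _ v
theorem r3_smul (v : leechLattice) : ((er3 • v : leechLattice) : Vec) = r3Fun (v : Vec) :=
  mEl_smul _ _ _ v
theorem r2_smul (v : leechLattice) : ((er2 • v : leechLattice) : Vec) = r2Fun (v : Vec) :=
  mEl_smul _ _ _ v
theorem c1_smul (v : leechLattice) : ((ec1 • v : leechLattice) : Vec) = c1Fun (v : Vec) :=
  mEl_smul _ _ _ v
theorem c2_smul (v : leechLattice) : ((ec2 • v : leechLattice) : Vec) = c2Fun (v : Vec) :=
  mEl_smul _ _ _ v
theorem h_smul (v : leechLattice) : ((hEl • v : leechLattice) : Vec) = hFun (v : Vec) := by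
  rw [hEl, mul_smul, mul_smul, mul_smul, mul_smul, mul_smul, mEl_smul, xi_smul, mEl_smul, xi_smul,
    mEl_smul, mEl_smul]
  rfl
theorem tau_smul (v : leechLattice) : ((tau • v : leechLattice) : Vec) = tauFun (v : Vec) := by
  rw [tau, mul_smul, mul_smul, mul_smul, mul_smul, mEl_smul, xi_smul, mEl_smul, xi_smul, mEl_smul]
  rfl

/-- Two elements agreeing on the frame are equal. -/
theorem eq_of_frames {g h : Cfsg.Co0}
    (e : ∀ i : GolayPt, ((g • frame i : leechLattice) : Vec) = ((h • frame i : leechLattice) : Vec)) :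
    g = h := by
  refine ext' fun v => ?_
  have key : ∀ k : Cfsg.Co0, (8 : ℤ) • (k • v) = ∑ i, (v : Vec) i • (k • frame i) := by
    intro k
    show (8 : ℤ) • actHom k v = ∑ i, (v : Vec) i • actHom k (frame i)
    rw [← map_zsmul, eight_smul, map_sum]
    exact Finset.sum_congr rfl fun i _ => by rw [map_zsmul]
  have h8 : (8 : ℤ) • (g • v) = (8 : ℤ) • (h • v) := by
    rw [key, key]
    exact Finset.sum_congr rfl fun i _ => by rw [Subtype.ext (e i)]
  refine Subtype.ext (funext fun i => ?_)
  have := congrFun (congrArg Subtype.val h8) i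
  simpa using this

theorem sig_pow_seven : sig ^ 7 = 1 := by
  refine eq_of_frames fun i => ?_
  simp only [pow_succ, pow_zero, one_mul, mul_smul, sig_smul, one_smul, frame_coe]
  funext j
  revert i j
  decide +kernel

theorem sig_ne_one : sig ≠ 1 := by
  intro e
  have h := sig_smul (frame none)
  rw [e, one_smul, frame_coe] at h
  revert h
  decide +kernel

theorem orderOf_sig : orderOf sig = 7 :=
  orderOf_eq_prime (hp := ⟨by norm_num⟩) sig_pow_seven sig_ne_one

theorem tau_sig : tau * sig ^ 3 = sig * tau := by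
  refine eq_of_frames fun i => ?_
  simp only [pow_succ, pow_zero, one_mul, mul_smul, sig_smul, tau_smul, frame_coe]
  funext j
  revert i j
  decide +kernel

theorem h_sig : hEl * sig = sig * hEl := by
  refine eq_of_frames fun i => ?_
  simp only [mul_smul, sig_smul, h_smul, frame_coe]
  funext j
  revert i j
  decide +kernel

theorem mono_sig : er3 * sig = sig * er3 ∧ er2 * sig = sig * er2 ∧ ec1 * sig = sig * ec1 ∧
    ec2 * sig = sig * ec2 := by
  refine ⟨?_, ?_, ?_, ?_⟩ <;>
    refine eq_of_frames fun i => ?_ <;>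
    simp only [mul_smul, sig_smul, r3_smul, r2_smul, c1_smul, c2_smul, frame_coe] <;>
    funext j <;> revert i j <;> decide +kernel

end Cfsg.Agent.LargeExtra.MonsterCent.Seven
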