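import Cfsg.Agent.Lib.LargeExtra.MonsterCent.SevenElements

/-!
The classes modulo two fixed by the element of order seven: a space of dimension six over the field
with two elements, spanned by two triples; the classes with a representative of squared length 64
are the non-zero elements of the two spans.
-/

set_option autoImplicit false
set_option maxRecDepth 100000
set_option maxHeartbeats 4000000

namespace Cfsg.Agent.LargeExtra.MonsterCent.Seven

open Cfsg Cfsg.Agent.Golay.Basic Cfsg.Agent.Leech.Basic Cfsg.Agent.Leech.Classes Cfsg.Agent.Leech.Mod2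
  Cfsg.Agent.Leech.Index Cfsg.Agent.Leech.Gen Cfsg.Agent.LeechAut.Gens Cfsg.Agent.LeechAut.Basic
  Cfsg.Agent.LeechAut.Cross

/-- The classes modulo two. -/
abbrev Cl : Type := leechLattice ⧸ (nsmulAddMonoidHom (α := leechLattice) 2).range

theorem cls_add (v w : leechLattice) : cls (v + w) = cls v + cls w := rfl
theorem cls_zero' : cls (0 : leechLattice) = 0 := rfl

theorem cls_two (c : Cl) : c + c = 0 := by
  induction c using QuotientAddGroup.induction_on with
  | H v =>
    rw [← QuotientAddGroup.mk_add, QuotientAddGroup.eq_zero_iff]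
    exact ⟨v, two_nsmul v⟩

/-- Congruence modulo twice the lattice, as a test. -/
def half (x y : Vec) : Bool :=
  ((List.range 24).all fun i => (x (pt i) - y (pt i)) % 2 == 0) && inLat fun p => (x p - y p) / 2

theorem cls_of_half {v w : leechLattice} (h : half (v : Vec) (w : Vec) = true) : cls v = cls w := by
  simp only [half, Bool.and_eq_true, List.all_eq_true, List.mem_range, beq_iff_eq] at h
  refine exists_half_iff.2 ⟨_, mem_of_inLat h.2, funext fun p => ?_⟩
  have := h.1 (ix p) (ix_lt p)
  rw [pt_ix] at this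
  simp only [Pi.sub_apply, Pi.smul_apply, nsmul_eq_mul, Nat.cast_ofNat]
  omega

theorem half_of_cls {v w : leechLattice} (h : cls v = cls w) : half (v : Vec) (w : Vec) = true := by
  obtain ⟨z, hz, he⟩ := exists_half_iff.1 h
  simp only [half, Bool.and_eq_true, List.all_eq_true, List.mem_range, beq_iff_eq]
  have e : ∀ p, (v : Vec) p - (w : Vec) p = 2 * z p := fun p => by
    simpa using congrFun he p
  refine ⟨fun i _ => by rw [e]; omega, ?_⟩
  rw [show (fun p => ((v : Vec) p - (w : Vec) p) / 2) = z from funext fun p => by rw [e]; omega]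
  exact inLat_of_mem hz

/-- The position of a coordinate vector in the table. -/
def idx {n : ℕ} (x : Fin n → ZMod 2) : ℕ := ∑ k : Fin n, (x k).val * 2 ^ (k : ℕ)

/-- The representative of a coordinate vector. -/
def repFun (x : Fin 6 → ZMod 2) : Vec := vec (repTab.getD (idx x) [])

theorem repFun_mem : ∀ x, inLat (repFun x) = true := by decide +kernel

/-- The representative, as a lattice vector. -/
def rep (x : Fin 6 → ZMod 2) : leechLattice := ⟨repFun x, mem_of_inLat (repFun_mem x)⟩

theorem repFun_sigma : ∀ x p, sigFun (repFun x) p = repFun x p := by decide +kernel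

theorem repFun_norm : ∀ x : Fin 6 → ZMod 2, x ≠ 0 →
    sqNorm (repFun x) ≤ 64 ∧ sqNorm (repFun x) ≠ 0 ∧
    (sqNorm (repFun x) = 64 ↔
      (x 3 = 0 ∧ x 4 = 0 ∧ x 5 = 0) ∨ (x 0 = 0 ∧ x 1 = 0 ∧ x 2 = 0)) := by decide +kernel

/-- The unit vectors. -/
def unit (k : Fin 6) : Fin 6 → ZMod 2 := fun j => if j = k then 1 else 0

/-- The combination of the six basic representatives. -/
def combFun (x : Fin 6 → ZMod 2) : Vec := fun p => ∑ k : Fin 6, ((x k).val : ℤ) * repFun (unit k) p

theorem half_comb : ∀ x, half (repFun x) (combFun x) = true := by decide +kernel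

theorem val_nsmul_add (a b : ZMod 2) (c : Cl) : (a + b).val • c = a.val • c + b.val • c := by
  have h : ∀ u : ZMod 2, u = 0 ∨ u = 1 := by decide
  rcases h a with rfl | rfl <;> rcases h b with rfl | rfl
  · simp
  · simp
  · simp
  · rw [show ((1 : ZMod 2) + 1).val = 0 by decide, show (1 : ZMod 2).val = 1 by decide, zero_nsmul,
      one_nsmul, cls_two]

/-- The coordinates of the fixed classes. -/
def phi : (Fin 6 → ZMod 2) →+ Cl :=
  AddMonoidHom.mk' (fun x => ∑ k, (x k).val • cls (rep (unit k))) fun x y => by
    rw [← Finset.sum_add_distrib]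
    exact Finset.sum_congr rfl fun k _ => val_nsmul_add _ _ _

theorem phi_eq (x : Fin 6 → ZMod 2) : phi x = cls (rep x) := by
  let cl : leechLattice →+ Cl := QuotientAddGroup.mk' _
  have hc : phi x = cls (∑ k, (x k).val • rep (unit k)) := by
    show ∑ k, (x k).val • cl (rep (unit k)) = cl _
    rw [map_sum]
    simp only [map_nsmul]
  rw [hc]
  refine (cls_of_half ?_).symm
  have : ((∑ k, (x k).val • rep (unit k) : leechLattice) : Vec) = combFun x := by
    funext p
    rw [AddSubmonoidClass.coe_finsetSum, Finset.sum_apply, combFun]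
    refine Finset.sum_congr rfl fun k _ => ?_
    rw [AddSubmonoidClass.coe_nsmul, Pi.smul_apply, nsmul_eq_mul]
    rfl
  rw [this]
  exact half_comb x

theorem eq_zero_of_short {v : leechLattice} (hn : sqNorm (v : Vec) ≤ 64) (hc : cls v = 0) :
    sqNorm (v : Vec) = 0 := by
  obtain ⟨u, hu⟩ := cls_eq_iff.1 (hc.trans cls_zero'.symm)
  rw [sub_zero] at hu
  subst hu
  rw [MonsterOrbits.sqNorm_double] at hn ⊢
  by_cases hu : (u : Vec) = 0
  · rw [hu]; simp [sqNorm]
  · have := min_norm u.2 hu
    omega

theorem phi_injective : Function.Injective phi := by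
  refine (injective_iff_map_eq_zero phi).2 fun x hx => ?_
  by_contra hne
  obtain ⟨h1, h2, -⟩ := repFun_norm x hne
  exact h2 (eq_zero_of_short (v := rep x) h1 ((phi_eq x).symm.trans hx))

theorem phi_fixed (x : Fin 6 → ZMod 2) (v : leechLattice) (h : cls v = phi x) :
    cls (sig • v) = cls v := by
  rw [MonsterPair.cls_smul sig (h.trans (phi_eq x)), h.trans (phi_eq x)]
  refine congrArg cls (Subtype.ext ?_)
  rw [sig_smul]
  exact funext (repFun_sigma x)

theorem frame_class : cls (frame none) = phi (unit 0) := by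
  rw [phi_eq]
  refine cls_of_half ?_
  rw [frame_coe]
  decide +kernel

/-! ### The trace -/

/-- The trace on vectors. -/
def trFun (x : Vec) : Vec := fun p =>
  x p + sigFun x p + sigFun (sigFun x) p + sigFun (sigFun (sigFun x)) p +
    sigFun (sigFun (sigFun (sigFun x))) p + sigFun (sigFun (sigFun (sigFun (sigFun x)))) p +
    sigFun (sigFun (sigFun (sigFun (sigFun (sigFun x))))) p

/-- The trace. -/
def trL (v : leechLattice) : leechLattice :=
  v + sig • v + sig • sig • v + sig • sig • sig • v + sig • sig • sig • sig • v +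
    sig • sig • sig • sig • sig • v + sig • sig • sig • sig • sig • sig • v

theorem trL_coe (v : leechLattice) : (trL v : Vec) = trFun (v : Vec) := by
  simp only [trL, AddSubgroup.coe_add, sig_smul]
  rfl

theorem trL_add (v w : leechLattice) : trL (v + w) = trL v + trL w := by
  simp only [trL, smul_add']
  abel

/-- The coordinates of an index. -/
def bits (m : ℕ) : Fin 6 → ZMod 2 := fun k => if m.testBit k then 1 else 0

theorem oddVec_trace : half (trFun oddVec) (repFun (bits oddCert)) = true := by decide +kernel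

theorem pair_trace : ∀ i : GolayPt, i ≠ none →
    half (trFun (pairVec i 1)) (repFun (bits (pairCertP.getD (ix i) 0))) = true ∧
    half (trFun (pairVec i (-1))) (repFun (bits (pairCertN.getD (ix i) 0))) = true := by
  decide +kernel

theorem code_trace : ∀ k : Fin 12,
    half (trFun (twoInd (maskSet (basisMasks.getD k 0)))) (repFun (bits (codeCert.getD k 0))) = true := by
  decide +kernel

/-- The vectors whose trace lies in the span. -/
def good : AddSubgroup Vec where
  carrier := {w | ∃ v : leechLattice, (v : Vec) = w ∧ ∃ x, cls (trL v) = phi x}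
  zero_mem' := ⟨0, rfl, 0, by
    have h : trL 0 = 0 := by
      have := trL_add 0 0
      rwa [add_zero, left_eq_add] at this
    rw [h, map_zero, cls_zero']⟩
  add_mem' := by
    rintro a b ⟨v, rfl, x, hx⟩ ⟨w, rfl, y, hy⟩
    exact ⟨v + w, AddSubgroup.coe_add _ v w, x + y, by rw [trL_add, cls_add, hx, hy, map_add]⟩
  neg_mem' := by
    rintro a ⟨v, rfl, x, hx⟩
    refine ⟨-v, AddSubgroup.coe_neg _ v, x, ?_⟩
    have h := trL_add v (-v)
    rw [add_neg_cancel, show trL 0 = 0 by simp [trL, smul_zero']] at h
    have h2 : trL (-v) = -trL v := eq_neg_of_add_eq_zero_right h.symm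
    rw [h2, cls_neg, hx]

theorem good_of_test {w : Vec} (hw : w ∈ leechLattice) {m : ℕ}
    (h : half (trFun w) (repFun (bits m)) = true) : w ∈ good :=
  ⟨⟨w, hw⟩, rfl, bits m, by
    rw [phi_eq]
    exact cls_of_half (by rw [trL_coe]; exact h)⟩

theorem gens_lattice : inLat oddVec = true ∧
    (∀ i : GolayPt, i ≠ none → inLat (pairVec i 1) = true ∧ inLat (pairVec i (-1)) = true) ∧
    ∀ k : Fin 12, inLat (twoInd (maskSet (basisMasks.getD k 0))) = true := by decide +kernel

theorem le_good : leechLattice ≤ good := by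
  refine le_of_gens good (good_of_test (mem_of_inLat gens_lattice.1) oddVec_trace) ?_ ?_
  · intro i hi t ht
    simp only [List.mem_cons, List.not_mem_nil, or_false] at ht
    rcases ht with rfl | rfl
    · exact good_of_test (mem_of_inLat (gens_lattice.2.1 i hi).1) (pair_trace i hi).1
    · exact good_of_test (mem_of_inLat (gens_lattice.2.1 i hi).2) (pair_trace i hi).2
  · intro b hb
    obtain ⟨k, hk, rfl⟩ := List.getElem_of_mem hb
    have hk' : k < 12 := by simpa [basisMasks] using hk
    rw [← List.getD_eq_getElem _ 0 hk]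
    exact good_of_test (mem_of_inLat (gens_lattice.2.2 ⟨k, hk'⟩)) (code_trace ⟨k, hk'⟩)

/-- The fixed classes are the six-dimensional span. -/
theorem exists_phi {v : leechLattice} (hv : cls (sig • v) = cls v) : ∃ x, cls v = phi x := by
  obtain ⟨v', hv', x, hx⟩ := le_good v.2
  obtain rfl : v' = v := Subtype.ext hv'
  refine ⟨x, ?_⟩
  have e2 : cls (sig • sig • v') = cls v' := (MonsterPair.cls_smul sig hv).trans hv
  have e3 : cls (sig • sig • sig • v') = cls v' := (MonsterPair.cls_smul sig e2).trans hv
  have e4 : cls (sig • sig • sig • sig • v') = cls v' := (MonsterPair.cls_smul sig e3).trans hv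
  have e5 : cls (sig • sig • sig • sig • sig • v') = cls v' := (MonsterPair.cls_smul sig e4).trans hv
  have e6 : cls (sig • sig • sig • sig • sig • sig • v') = cls v' :=
    (MonsterPair.cls_smul sig e5).trans hv
  rw [← hx, trL, cls_add, cls_add, cls_add, cls_add, cls_add, cls_add, hv, e2, e3, e4, e5, e6,
    cls_two, zero_add, cls_two, zero_add, cls_two, zero_add]

/-- A fixed class has squared length 64 exactly on the two spans. -/
theorem sixty_four_iff (x : Fin 6 → ZMod 2) :
    (∃ v : leechLattice, sqNorm (v : Vec) = 64 ∧ cls v = phi x) ↔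
      x ≠ 0 ∧ ((x 3 = 0 ∧ x 4 = 0 ∧ x 5 = 0) ∨ (x 0 = 0 ∧ x 1 = 0 ∧ x 2 = 0)) := by
  constructor
  · rintro ⟨v, hv, hc⟩
    have hx : x ≠ 0 := by
      rintro rfl
      rw [map_zero] at hc
      have := eq_zero_of_short hv.le hc
      omega
    obtain ⟨h1, h2, h3⟩ := repFun_norm x hx
    refine ⟨hx, h3.1 ?_⟩
    by_contra hne
    have h16 := sixteen_dvd_sqNorm (rep x).2
    have hsh : sqNorm (repFun x) ≤ 48 := by
      change (16 : ℤ) ∣ sqNorm (repFun x) at h16
      omega
    rcases short_eq_of_cls leech_shells (x := rep x) (y := v) (by rw [lform_self]; exact hsh)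
      (by rw [lform_self]; omega) (hc.trans (phi_eq x)) with e | e
    · rw [e] at hv; exact hne hv
    · rw [e] at hv
      apply hne
      rw [← hv, AddSubgroup.coe_neg]
      simp [sqNorm, rep]
  · rintro ⟨hx, h⟩
    exact ⟨rep x, (repFun_norm x hx).2.2.2 h, (phi_eq x).symm⟩

end Cfsg.Agent.LargeExtra.MonsterCent.Seven
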