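import Cfsg.Agent.Lib.LargeExtra.MonsterCent.SevenHeld

/-!
In the centralized part of the extraspecial group, the intersection with the extraspecial group of
another conjugate contains an element that is not conjugate to the involution.
-/

set_option autoImplicit false
set_option maxRecDepth 100000
set_option maxHeartbeats 1000000
set_option linter.unusedSectionVars false

namespace Cfsg.Agent.LargeExtra.MonsterCent.Seven

open Subgroup Cfsg Cfsg.Agent.Golay.Basic Cfsg.Agent.Leech.Basic Cfsg.Agent.Leech.Classes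
  Cfsg.Agent.Leech.Gen Cfsg.Agent.MonsterOrbits Cfsg.Agent.LargeExtra Cfsg.Agent.LeechAut.Basic
  Cfsg.Agent.LeechAut.Cross Cfsg.Agent.LeechAut.Co1 Cfsg.Agent.MonsterPair
  Cfsg.Agent.Leech.Index Cfsg.Agent.LeechAut.Gens Cfsg.Agent.LeechAut.Maximal
open scoped commutatorElement

/-- A word of length eight through two fixed points. -/
def wordC : Finset GolayPt := maskSet 0x3da100

/-- A second word of length eight meeting the first in those two points. -/
def wordD : Finset GolayPt := maskSet 0xa0031d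

theorem wordC_mem : wordC ∈ codeSets := mem_supports_iff.2 (by decide +kernel)

theorem wordD_mem : wordD ∈ codeSets := mem_supports_iff.2 (by decide +kernel)

/-- The odd vector as a lattice vector. -/
def oddL : leechLattice := ⟨oddVec, mem_of_inLat gens_lattice.1⟩

/-- The vector moved by the first word. -/
def oneStep : leechLattice := sign wordC wordC_mem • oddL + oddL

/-- The vector moved by both words. -/
def twoStep : leechLattice := sign wordD wordD_mem • oneStep + oneStep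

theorem twoStep_half : half
    (fun p => Cfsg.Agent.LeechAut.Basic.flip wordD
        (fun q => Cfsg.Agent.LeechAut.Basic.flip wordC oddVec q + oddVec q) p +
      (Cfsg.Agent.LeechAut.Basic.flip wordC oddVec p + oddVec p))
    (repFun (bits 23)) = true := by decide +kernel

theorem twoStep_cls : cls twoStep = phi (bits 23) := by
  rw [phi_eq]
  refine cls_of_half ?_
  have h : (twoStep : Vec) = fun p => Cfsg.Agent.LeechAut.Basic.flip wordD
      (fun q => Cfsg.Agent.LeechAut.Basic.flip wordC oddVec q + oddVec q) p +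
      (Cfsg.Agent.LeechAut.Basic.flip wordC oddVec p + oddVec p) := rfl
  rw [h]
  exact twoStep_half

theorem bits_untyped : bits 23 ≠ 0 ∧
    ¬ ((bits 23 3 = 0 ∧ bits 23 4 = 0 ∧ bits 23 5 = 0) ∨ (bits 23 0 = 0 ∧ bits 23 1 = 0 ∧ bits 23 2 = 0)) := by
  decide +kernel

variable {G : Type*} [Group G] [Finite G] {z : G}
  {Q : Subgroup (Subgroup.centralizer ({z} : Set G))} [Q.Normal]
  {e : (Subgroup.centralizer ({z} : Set G)) ⧸ Q ≃* Cfsg.Spor.Co1}
  {ψ : Cfsg.leechLattice → Q ⧸ Subgroup.center Q}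

theorem kap_mul (hψ : Cfsg.IsLeechModTwoIso Q e ψ) {x y : Q} {v w : leechLattice}
    (hx : kap hψ x = cls v) (hy : kap hψ y = cls w) : kap hψ (x * y) = cls (v + w) := by
  refine kap_eq hψ ?_
  rw [hψ.1, psi_of_kap hψ hx, psi_of_kap hψ hy, QuotientGroup.mk_mul]

variable (hS : Cfsg.IsExtraspecialCentralizerSetting z Q 12)
  (hψ : Cfsg.IsLeechModTwoIso Q e ψ) {b : G} (hL : Lifts e b sig 7)

include hS hψ hL

/-- The fact for an element over the standard frame. -/
theorem graph_frame {x : Q} (hx : kap hψ x = cls (frame none)) :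
    ∃ r ∈ fixQ Q b, r ≠ 1 ∧ ¬ IsConj z r ∧ ∀ d : G, d * z * d⁻¹ = up x → d⁻¹ * r * d ∈ bigQ Q := by
  have H := ctr_bigQ hS
  obtain ⟨hxfix, hxc, hxz⟩ := (class_iff hS hψ hL x).2
    ⟨unit 0, ⟨by decide, Or.inl (by decide)⟩, by rw [hx, frame_class]⟩
  obtain ⟨g, hg⟩ := isConj_iff.1 hxc
  have hgQ : g * z * g⁻¹ ∈ bigQ Q := hg.symm ▸ hxfix.1
  have hgz : g * z * g⁻¹ ≠ z := by rw [hg]; exact hxz
  have P := Pair.mk' H hgQ hgz
  have h32 : 32 ≤ Nat.card (bigQ Q) := by rw [card_bigQ, hS.2.2.2.1]; norm_num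
  have hzQ' := P.z_mem' h32
  have hxcen : x ∉ Subgroup.center Q := by
    rw [mem_center_iff' hS]
    rintro (h | h)
    · refine P.h'.ne_one ?_
      rw [hg]; exact h
    · exact hxz h
  have hX : (imgC Q (g * z * g⁻¹)).map e.toMonoidHom = crossStab.map toCo1 := by
    rw [hg, ← clsStab_frame]
    exact imgC_eq hS hψ hxcen (psi_of_kap hψ hx)
  have hA : (imgQ Q g).map e.toMonoidHom = signSub.map toCo1 := by
    haveI := finite_Co0
    have hle : (imgQ Q g).map e.toMonoidHom ≤ signSub.map toCo1 := by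
      refine le_signs _ (hX ▸ Subgroup.map_mono (imgQ_le hS hgQ hgz)) ?_ ?_
      · intro k hk a ha
        obtain ⟨c₀, hc₀, rfl⟩ := ha
        obtain ⟨c, hc, hce⟩ : toCo1 k ∈ (imgC Q (g * z * g⁻¹)).map e.toMonoidHom :=
          hX ▸ Subgroup.mem_map_of_mem toCo1 hk
        refine ⟨c * c₀ * c⁻¹, imgQ_conj hS hgQ hgz c hc c₀ hc₀, ?_⟩
        rw [map_mul, map_mul, map_inv, hce]
      · rintro _ ⟨c₀, hc₀, rfl⟩
        rw [← map_mul, imgQ_sq hS hgQ hgz c₀ hc₀, map_one]
    refine Subgroup.eq_of_le_of_card_ge hle ?_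
    rw [Subgroup.card_map_of_injective (K := imgQ Q g) (f := e.toMonoidHom) e.injective,
      (standard hS hψ hgQ hgz).2.1]
    exact card_signs
  have hget : ∀ c hc, ∃ y : Subgroup.centralizer ({z} : Set G),
      (y : G) ∈ (bigQ Q).map (MulAut.conj g).toMonoidHom ∧ (y : G) * up x = up x * (y : G) ∧
      toCo1 (sign c hc) = e (QuotientGroup.mk y) := by
    intro c hc
    obtain ⟨_, ⟨y, hy, rfl⟩, hye⟩ : toCo1 (sign c hc) ∈ (imgQ Q g).map e.toMonoidHom :=
      hA ▸ Subgroup.mem_map_of_mem toCo1 (sign_mem_signSub c hc)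
    refine ⟨y, (Subgroup.mem_subgroupOf.1 hy).1, ?_, hye.symm⟩
    have := P.h'.comm (Subgroup.mem_subgroupOf.1 hy).1
    rwa [hg] at this
  obtain ⟨y, hy, hyx, hye⟩ := hget wordC wordC_mem
  obtain ⟨y', hy', hyx', hye'⟩ := hget wordD wordD_mem
  obtain ⟨q, hq⟩ := exists_of_class hψ (cls oddL)
  let cj : Subgroup.centralizer ({z} : Set G) → Q → Q := fun c u =>
    ⟨c * u * c⁻¹, (inferInstance : Q.Normal).conj_mem _ u.2 c⟩
  have hcj : ∀ (c : Subgroup.centralizer ({z} : Set G)) (k : Cfsg.Co0) (u : Q) (v : leechLattice),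
      toCo1 k = e (QuotientGroup.mk c) → kap hψ u = cls v →
      kap hψ (cj c u * u) = cls (k • v + v) := fun c k u v hk hu =>
    kap_mul hψ (kap_eq hψ (hψ.2.2.2 c k hk v u (psi_of_kap hψ hu))) hu
  set u : Q := cj y q * q with hu
  have hku : kap hψ u = cls oneStep := hcj y _ q oddL hye hq
  set r : Q := cj y' u * u with hr
  have hkr : kap hψ r = phi (bits 23) := (hcj y' _ u oneStep hye' hku).trans twoStep_cls
  -- `u` centralizes the conjugate
  have hux : up u * up x = up x * up u := by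
    have hyz : (y : G) * z * (y : G)⁻¹ = z := by
      rw [mem_centralizer_singleton_iff.1 y.2, mul_inv_cancel_right]
    have hyx2 : (y : G)⁻¹ * up x * (y : G) = up x := by rw [mul_assoc, ← hyx, inv_mul_cancel_left]
    have hyx3 : (y : G) * up x * (y : G)⁻¹ = up x := by rw [hyx, mul_inv_cancel_right]
    have hqz : up q * z * (up q)⁻¹ = z := H.conj_z (up_mem q)
    refine mul_inv_eq_iff_eq_mul.1 ?_
    show (y : G) * up q * (y : G)⁻¹ * up q * up x * ((y : G) * up q * (y : G)⁻¹ * up q)⁻¹ = up x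
    rcases H.comm_cases (up_mem q) (up_mem x) with h | h
    · have h' : up q * up x * (up q)⁻¹ = up x := by
        rw [commutatorElement_eq_one_iff_mul_comm.1 h, mul_inv_cancel_right]
      calc (y : G) * up q * (y : G)⁻¹ * up q * up x * ((y : G) * up q * (y : G)⁻¹ * up q)⁻¹
          = (y : G) * (up q * ((y : G)⁻¹ * (up q * up x * (up q)⁻¹) * (y : G)) * (up q)⁻¹) * (y : G)⁻¹ := by
            group
        _ = up x := by rw [h', hyx2, h', hyx3]
    · have h' : up q * up x * (up q)⁻¹ = z * up x := mul_inv_eq_iff_eq_mul.1 h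
      have hy2 : (y : G)⁻¹ * (z * up x) * (y : G) = z * up x := by
        rw [show (y : G)⁻¹ * (z * up x) * (y : G) = ((y : G)⁻¹ * z * (y : G)) * ((y : G)⁻¹ * up x * (y : G)) by
          group, hyx2, show (y : G)⁻¹ * z * (y : G) = z by
          rw [mul_assoc, ← mem_centralizer_singleton_iff.1 y.2, inv_mul_cancel_left]]
      calc (y : G) * up q * (y : G)⁻¹ * up q * up x * ((y : G) * up q * (y : G)⁻¹ * up q)⁻¹
          = (y : G) * (up q * ((y : G)⁻¹ * (up q * up x * (up q)⁻¹) * (y : G)) * (up q)⁻¹) * (y : G)⁻¹ := by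
            group
        _ = (y : G) * (up q * (z * up x) * (up q)⁻¹) * (y : G)⁻¹ := by rw [h', hy2]
        _ = (y : G) * ((up q * z * (up q)⁻¹) * (up q * up x * (up q)⁻¹)) * (y : G)⁻¹ := by group
        _ = (y : G) * up x * (y : G)⁻¹ := by rw [hqz, h', ← mul_assoc z z, H.zz, one_mul]
        _ = up x := hyx3
  -- `r` lies in the other extraspecial group
  have hrQ' : up r ∈ (bigQ Q).map (MulAut.conj g).toMonoidHom := by
    show (y' : G) * up u * (y' : G)⁻¹ * up u ∈ _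
    have h1 : up u * (y' : G)⁻¹ * (up u)⁻¹ ∈ (bigQ Q).map (MulAut.conj g).toMonoidHom :=
      P.h'.conj_mem (by rw [hg]; exact hux) (inv_mem hy')
    have h2 : up u * up u ∈ (bigQ Q).map (MulAut.conj g).toMonoidHom := by
      rcases H.sq_cases (up_mem u) with h | h <;> rw [h]
      exacts [one_mem _, hzQ']
    rw [show (y' : G) * up u * (y' : G)⁻¹ * up u
      = (y' : G) * (up u * (y' : G)⁻¹ * (up u)⁻¹) * (up u * up u) by group]
    exact mul_mem (mul_mem hy' h1) h2
  refine ⟨up r, (fix_iff hS hψ hL r (hkr.trans (phi_eq _))).2 (phi_fixed _ _ (phi_eq _).symm), ?_, ?_, ?_⟩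
  · intro h1
    have h0 : kap hψ r = cls (0 : leechLattice) := by
      refine kap_eq hψ ?_
      rw [(hψ.2.2.1 0).2 ⟨0, (add_zero 0).symm⟩]
      exact ((QuotientGroup.eq_one_iff r).2 ((mem_center_iff' hS).2 (Or.inl h1))).symm
    rw [cls_zero', hkr] at h0
    exact bits_untyped.1 (phi_injective (h0.trans (map_zero _).symm))
  · intro hc
    by_cases hrz : up r = z
    · have h0 : kap hψ r = cls (0 : leechLattice) := by
        refine kap_eq hψ ?_
        rw [(hψ.2.2.1 0).2 ⟨0, (add_zero 0).symm⟩]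
        exact ((QuotientGroup.eq_one_iff r).2 ((mem_center_iff' hS).2 (Or.inr hrz))).symm
      rw [cls_zero', hkr] at h0
      exact bits_untyped.1 (phi_injective (h0.trans (map_zero _).symm))
    · obtain ⟨y₀, hy₀, he⟩ := (class_iff hS hψ hL r).1
        ⟨(fix_iff hS hψ hL r (hkr.trans (phi_eq _))).2 (phi_fixed _ _ (phi_eq _).symm), hc, hrz⟩
      rw [hkr] at he
      exact bits_untyped.2 (phi_injective he ▸ hy₀.2)
  · intro d hd
    exact (P.link d (by rw [hg]; exact hd) _).1 hrQ'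

/-- For every conjugate of the involution in the centralized part. -/
theorem graph {x : G} (hx : x ∈ fixQ Q b) (hxc : IsConj z x) (hxz : x ≠ z) :
    ∃ r ∈ fixQ Q b, r ≠ 1 ∧ ¬ IsConj z r ∧ ∀ d : G, d * z * d⁻¹ = x → d⁻¹ * r * d ∈ bigQ Q := by
  have H := ctr_bigQ hS
  obtain ⟨hxC, hxQ⟩ := mem_bigQ.1 hx.1
  obtain ⟨y, ⟨hy0, hy⟩, hye⟩ := (class_iff hS hψ hL ⟨⟨x, hxC⟩, hxQ⟩).1 ⟨hx, hxc, hxz⟩
  -- an element of the normalizer of the cyclic group over the class
  obtain ⟨k, j, hj, hkj, hky⟩ : ∃ (k : Cfsg.Co0) (j : ℕ), ¬ 7 ∣ j ∧ k * sig * k⁻¹ = sig ^ j ∧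
      actC k (psiW e0) = phi y := by
    rcases hy with h | h
    · obtain ⟨y', rfl⟩ := (front_or_back y).1 h
      obtain ⟨a, ha, hay⟩ := exists_h (y := y') fun e1 => hy0 (by rw [e1, map_zero])
      exact ⟨a, 1, by norm_num, by rw [ha, mul_inv_cancel_right, pow_one], hay⟩
    · obtain ⟨y', rfl⟩ := (front_or_back y).2 h
      obtain ⟨y'', hy'', hT⟩ := tauM_onto y' fun e1 => hy0 (by rw [e1, map_zero])
      obtain ⟨a, ha, hay⟩ := exists_h hy''
      refine ⟨tau * a, 5, by norm_num, ?_, by rw [actC_mul, hay, act_tau, hT]; rfl⟩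
      have h3 : (tau * sig * tau⁻¹) ^ 3 = sig := by
        rw [conj_pow, tau_sig, mul_inv_cancel_right]
      have h15 : tau * sig * tau⁻¹ = sig ^ 5 := by
        have h7 : (tau * sig * tau⁻¹) ^ 7 = 1 := by rw [conj_pow, sig_pow_seven]; group
        calc tau * sig * tau⁻¹ = ((tau * sig * tau⁻¹) ^ 3) ^ 5 := by
              rw [← pow_mul, show 3 * 5 = 7 * 2 + 1 from rfl, pow_succ, pow_mul, h7, one_pow, one_mul]
          _ = sig ^ 5 := by rw [h3]
      rw [show tau * a * sig * (tau * a)⁻¹ = tau * (a * sig * a⁻¹) * tau⁻¹ by group, ha,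
        mul_inv_cancel_right, h15]
  obtain ⟨h, hh, hhk, hhb⟩ := exists_lift hS hL.prime hL.odd hL.order hL.mem hj
    (c := e.symm (toCo1 k)) (by
      apply e.injective
      rw [map_mul, map_mul, map_inv, map_pow, hL.img, e.apply_symm_apply, ← map_inv, ← map_mul, ← map_mul, hkj,
        map_pow])
  have hzh : h * z * h⁻¹ = z := by rw [mem_centralizer_singleton_iff.1 hh, mul_inv_cancel_right]
  obtain ⟨x₀, hx₀⟩ := exists_of_class hψ (cls (frame none))
  let cx : Q := ⟨(⟨h, hh⟩ : Subgroup.centralizer ({z} : Set G)) * x₀ * (⟨h, hh⟩ : Subgroup.centralizer ({z} : Set G))⁻¹,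
    (inferInstance : Q.Normal).conj_mem _ x₀.2 _⟩
  have hcx : kap hψ cx = kap hψ ⟨⟨x, hxC⟩, hxQ⟩ := by
    rw [kap_eq hψ (hψ.2.2.2 ⟨h, hh⟩ k (by rw [hhk, e.apply_symm_apply]; rfl) _ x₀ (psi_of_kap hψ hx₀)),
      ← hye, ← hky, ← frame_psiW]
    rfl
  obtain ⟨x₁, hx₁, hx₁e⟩ : ∃ x₁ : Q, kap hψ x₁ = cls (frame none) ∧ h * up x₁ * h⁻¹ = x := by
    rcases center_cases hS hψ hL hcx with h1 | h1
    · exact ⟨x₀, hx₀, h1.symm⟩
    · obtain ⟨hzC, hzQ⟩ := mem_bigQ.1 H.z_mem
      refine ⟨x₀ * ⟨⟨z, hzC⟩, hzQ⟩, ?_, ?_⟩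
      · rw [← hx₀]
        obtain ⟨v, hv⟩ := class_surj (kap hψ x₀)
        rw [← hv]
        refine kap_eq hψ ?_
        rw [QuotientGroup.mk_mul, (QuotientGroup.eq_one_iff (⟨⟨z, hzC⟩, hzQ⟩ : Q)).2
          ((mem_center_iff' hS).2 (Or.inr rfl)), mul_one]
        exact psi_of_kap hψ hv.symm
      · show h * (up x₀ * z) * h⁻¹ = x
        change x = h * up x₀ * h⁻¹ * z at h1
        rw [h1, show h * (up x₀ * z) * h⁻¹ = h * up x₀ * h⁻¹ * (h * z * h⁻¹) by group, hzh]
  obtain ⟨r, hr, hr1, hrz, hrd⟩ := graph_frame hS hψ hL hx₁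
  refine ⟨h * r * h⁻¹, ⟨H.conj_mem (mem_centralizer_singleton_iff.1 hh) hr.1, ?_⟩,
    fun e1 => hr1 (conj_eq_one_iff.1 e1), ?_, ?_⟩
  · have hrb : h * r * h⁻¹ * b ^ j = b ^ j * (h * r * h⁻¹) := by
      rw [← hhb, show h * r * h⁻¹ * (h * b * h⁻¹) = h * (r * b) * h⁻¹ by group,
        mem_centralizer_singleton_iff.1 hr.2]
      group
    refine mem_centralizer_singleton_iff.2 ?_
    have hc : Nat.Coprime j (orderOf b) := by
      rw [hL.order]
      exact ((Nat.Prime.coprime_iff_not_dvd hL.prime).2 hj).symm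
    obtain ⟨i, hi⟩ := exists_pow_eq_self_of_coprime hc
    rw [← hi]
    exact (show Commute (h * r * h⁻¹) (b ^ j) from hrb).pow_right i
  · intro hc
    refine hrz (isConj_iff.2 ?_)
    obtain ⟨c, hce⟩ := isConj_iff.1 hc
    refine ⟨h⁻¹ * c, ?_⟩
    rw [show h⁻¹ * c * z * (h⁻¹ * c)⁻¹ = h⁻¹ * (c * z * c⁻¹) * h by group, hce]
    group
  · intro d hd
    have h1 : h⁻¹ * d * z * (h⁻¹ * d)⁻¹ = up x₁ := by
      rw [show h⁻¹ * d * z * (h⁻¹ * d)⁻¹ = h⁻¹ * (d * z * d⁻¹) * h by group, hd, ← hx₁e]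
      group
    have h2 := hrd _ h1
    rwa [show (h⁻¹ * d)⁻¹ * r * (h⁻¹ * d) = d⁻¹ * (h * r * h⁻¹) * d by group] at h2

end Cfsg.Agent.LargeExtra.MonsterCent.Seven
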