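import Cfsg.Agent.Lib.LargeExtra.MonsterCent.SevenGraph
import Cfsg.Agent.Lib.HeLocal.Graph

/-!
The quotient of the centralizer of the seven group is of Held type with the graph property.
-/

set_option autoImplicit false
set_option maxRecDepth 10000
set_option linter.unusedSectionVars false

namespace Cfsg.Agent.LargeExtra.MonsterCent.Seven

open Subgroup Cfsg.Agent.MonsterOrbits Cfsg.Agent.LargeExtra Cfsg.Agent.MonsterPair

variable {G : Type*} [Group G] [Finite G] {z : G}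
  {Q : Subgroup (Subgroup.centralizer ({z} : Set G))} [Q.Normal]
  {e : (Subgroup.centralizer ({z} : Set G)) ⧸ Q ≃* Cfsg.Spor.Co1}
  {ψ : Cfsg.leechLattice → Q ⧸ Subgroup.center Q}

/-- One of the two spans has eight elements. -/
theorem card_half : Nat.card {y : Fin 6 → ZMod 2 // y 3 = 0 ∧ y 4 = 0 ∧ y 5 = 0} = 8 := by
  rw [Nat.card_eq_fintype_card]
  decide +kernel

/-- The lifts of one of the two spans form an elementary abelian group of order sixteen. -/
theorem exists_four (hS : Cfsg.IsExtraspecialCentralizerSetting z Q 12)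
    (hψ : Cfsg.IsLeechModTwoIso Q e ψ) {b : G} (hL : Lifts e b sig 7) :
    ∃ E : Subgroup G, E ≤ fixQ Q b ∧ (∀ x ∈ E, x * x = 1) ∧ Nat.card E = 16 := by
  classical
  let S : Set MonsterCent.Cls := phi '' {y | y 3 = 0 ∧ y 4 = 0 ∧ y 5 = 0}
  have hone : kap hψ 1 = phi 0 := by
    obtain ⟨v, hv⟩ := class_surj (kap hψ 1)
    have h := kap_mul hψ hv.symm hv.symm
    rw [mul_one, cls_add, cls_two, ← cls_zero'] at h
    rw [h, map_zero, cls_zero']
  have hzz := (ctr_bigQ hS).zz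
  have hcases : ∀ x : Q, kap hψ x ∈ S → up x ∈ fixQ Q b ∧ up x * up x = 1 := by
    rintro x ⟨y, hy, he⟩
    by_cases h0 : y = 0
    · have hc : up x = 1 ∨ up x = z := by
        rcases MonsterCent.center_cases hS hψ hL (x := 1) (y := x) (by rw [hone, ← h0, he]) with h | h
        · exact Or.inl h
        · exact Or.inr (h.trans (one_mul z))
      rcases hc with e1 | e1 <;> rw [e1]
      · exact ⟨one_mem _, one_mul 1⟩
      · exact ⟨z_mem_fixQ hS hψ hL, hzz⟩
    · obtain ⟨h1, h2, -⟩ := (class_iff hS hψ hL x).2 ⟨y, ⟨h0, Or.inl hy⟩, he⟩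
      obtain ⟨c, hc⟩ := isConj_iff.1 h2
      refine ⟨h1, ?_⟩
      rw [← hc, show c * z * c⁻¹ * (c * z * c⁻¹) = c * (z * z) * c⁻¹ by group, hzz]
      group
  have hmul : ∀ x x' : Q, kap hψ x ∈ S → kap hψ x' ∈ S → kap hψ (x * x') ∈ S := by
    rintro x x' ⟨y, hy, he⟩ ⟨y', hy', he'⟩
    refine ⟨y + y', ⟨by simp [hy.1, hy'.1], by simp [hy.2.1, hy'.2.1], by simp [hy.2.2, hy'.2.2]⟩, ?_⟩
    obtain ⟨v, hv⟩ := class_surj (phi y)
    obtain ⟨v', hv'⟩ := class_surj (phi y')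
    rw [kap_mul hψ (he.symm.trans hv.symm) (he'.symm.trans hv'.symm), cls_add, hv, hv', map_add]
  let U : Subgroup Q :=
    { carrier := {x | kap hψ x ∈ S}
      one_mem' := ⟨0, by simp, hone.symm⟩
      mul_mem' := fun {x x'} hx hx' => hmul x x' hx hx'
      inv_mem' := fun {x} hx => by
        have h : up x * up x = 1 := (hcases x hx).2
        have e : x⁻¹ = x := inv_eq_of_mul_eq_one_right (Subtype.ext (Subtype.ext h))
        show kap hψ x⁻¹ ∈ S
        rw [e]; exact hx }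
  refine ⟨(U.map Q.subtype).map (Subgroup.centralizer ({z} : Set G)).subtype, ?_, ?_, ?_⟩
  · rintro _ ⟨_, ⟨x, hx, rfl⟩, rfl⟩
    exact (hcases x hx).1
  · rintro _ ⟨_, ⟨x, hx, rfl⟩, rfl⟩
    exact (hcases x hx).2
  · rw [card_map_of_injective (Subgroup.subtype_injective _), card_map_of_injective (Subgroup.subtype_injective _)]
    show Nat.card {x : Q // kap hψ x ∈ S} = 16
    rw [card_over hψ hS.2.2.1, Nat.card_coe_set_eq, Set.ncard_image_of_injective _ phi_injective,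
      ← Nat.card_coe_set_eq]
    show 2 * Nat.card {y : Fin 6 → ZMod 2 // y 3 = 0 ∧ y 4 = 0 ∧ y 5 = 0} = 16
    rw [card_half]

theorem held_graph (hS : Cfsg.IsExtraspecialCentralizerSetting z Q 12)
    (hψ : Cfsg.IsLeechModTwoIso Q e ψ) {b : G} (hL : Lifts e b sig 7)
    [hn : ((Subgroup.zpowers b).subgroupOf (centB b)).Normal]
    {s : G} (hs : s ∈ fixQ Q b) (hsc : IsConj z s) (hsz : s ≠ z) :
    ∃ (zb : quoB b) (R : Subgroup (Subgroup.centralizer ({zb} : Set (quoB b)))) (_ : R.Normal),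
      Cfsg.IsExtraspecialCentralizerSetting zb R 3 ∧
      Nonempty ((Subgroup.centralizer ({zb} : Set (quoB b))) ⧸ R ≃* Matrix.SpecialLinearGroup (Fin 3) (ZMod 2)) ∧
      Set.ncard {x : Subgroup.centralizer ({zb} : Set (quoB b)) | x ∈ R ∧ IsConj zb (x : quoB b)} = 29 ∧
      HeLocal.GraphType (bigQ R) zb ∧ ∃ E : Subgroup R, Cfsg.IsElementaryAbelian 2 E ∧ Nat.card E = 2 ^ 4 := by
  obtain ⟨R, hRn, hset, hiso, h29, hmem⟩ := held_data hS hψ hL hs hsc hsz
  refine ⟨_, R, hRn, hset, hiso, h29, ?_, ?_⟩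
  rotate_left
  · obtain ⟨E, hE, hE2, hE16⟩ := exists_four hS hψ hL
    let q : E →* quoB b := (QuotientGroup.mk' _).comp
      (Subgroup.inclusion (fun x hx => fixQ_le_centB hS hψ hL (hE hx) : E ≤ centB b))
    have hq : ∀ x : E, q x ∈ bigQ R := fun x => mem_bigQ.2 ⟨by
      rw [mem_centralizer_singleton_iff]
      exact congrArg (QuotientGroup.mk' _) (Subtype.ext ((ctr_bigQ hS).comm (hE x.2).1)),
      (hmem _).2 ⟨x, hE x.2, rfl⟩⟩
    let f : E →* R :=
      { toFun := fun x => ⟨⟨q x, (mem_bigQ.1 (hq x)).1⟩, (mem_bigQ.1 (hq x)).2⟩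
        map_one' := Subtype.ext (Subtype.ext (map_one q))
        map_mul' := fun x y => Subtype.ext (Subtype.ext (map_mul q x y)) }
    have hf : Function.Injective f := fun x y h => Subtype.ext (eq_of_mk hS hψ hL
      (fixQ_le_centB hS hψ hL (hE x.2)) (fixQ_le_centB hS hψ hL (hE y.2))
      (mul_mem (inv_mem (hE x.2).1) (hE y.2).1)
      (show q x = q y from congrArg Subtype.val (congrArg Subtype.val h :)))
    have hsq : ∀ x : E, x * x = 1 := fun x => Subtype.ext (hE2 x x.2)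
    refine ⟨f.range, ⟨⟨⟨?_⟩⟩, ?_⟩, ?_⟩
    · rintro ⟨_, x, rfl⟩ ⟨_, y, rfl⟩
      refine Subtype.ext ?_
      show f x * f y = f y * f x
      rw [← map_mul, ← map_mul]
      congr 1
      have inv_self : ∀ u : E, u⁻¹ = u := fun u => inv_eq_of_mul_eq_one_right (hsq u)
      rw [← inv_self (x * y), mul_inv_rev, inv_self, inv_self]
    · rintro _ ⟨x, rfl⟩
      rw [pow_two, ← map_mul, hsq, map_one]
    · rw [← Nat.card_congr (MonoidHom.ofInjective hf).toEquiv, hE16]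
      norm_num
  intro x hx hxc hxz
  obtain ⟨hxC, hxR⟩ := mem_bigQ.1 hx
  obtain ⟨r₀, hr₀, he₀⟩ := (hmem _).1 hxR
  change x = _ at he₀
  rw [he₀] at hxc hxz
  obtain ⟨d₀, -, hd₀⟩ := conj_lift hS hψ hL hr₀ hxc
  have hne : r₀ ≠ z := fun h => hxz (congrArg (QuotientGroup.mk (s := (Subgroup.zpowers b).subgroupOf (centB b)))
    (Subtype.ext h : (⟨r₀, fixQ_le_centB hS hψ hL hr₀⟩ : centB b) = ⟨z, z_mem_centB hS hψ hL⟩))
  obtain ⟨r, hr, hr1, hrz, hrd⟩ := graph hS hψ hL hr₀ (isConj_iff.2 ⟨d₀, hd₀⟩) hne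
  let rb : quoB b := QuotientGroup.mk ⟨r, fixQ_le_centB hS hψ hL hr⟩
  have hrbC : rb ∈ Subgroup.centralizer
      ({(QuotientGroup.mk ⟨z, z_mem_centB hS hψ hL⟩ : quoB b)} : Set (quoB b)) := by
    rw [mem_centralizer_singleton_iff]
    exact congrArg (QuotientGroup.mk' _) (Subtype.ext ((ctr_bigQ hS).comm hr.1))
  refine ⟨rb, ⟨⟨rb, hrbC⟩, (hmem _).2 ⟨r, hr, rfl⟩, rfl⟩, ?_, ?_, ?_⟩
  · intro h
    refine hr1 (eq_of_mk hS hψ hL (one_mem _) (fixQ_le_centB hS hψ hL hr) (by simpa using hr.1) ?_).symm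
    exact h.symm
  · intro h
    obtain ⟨d, -, hd⟩ := conj_lift hS hψ hL hr h
    exact hrz (isConj_iff.2 ⟨d, hd⟩)
  · intro db hdb
    obtain ⟨⟨d, hd⟩, rfl⟩ := QuotientGroup.mk_surjective db
    rw [he₀] at hdb
    -- the lift conjugates exactly
    have hmemc : d * z * d⁻¹ ∈ centB b := mul_mem (mul_mem hd (z_mem_centB hS hψ hL)) (inv_mem hd)
    have hdz : d * z * d⁻¹ = r₀ := by
      have h1 : (d * z * d⁻¹)⁻¹ * r₀ ∈ Subgroup.zpowers b :=
        (mk_eq_iff (x := ⟨_, hmemc⟩) (y := ⟨r₀, fixQ_le_centB hS hψ hL hr₀⟩)).1 hdb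
      by_contra hne'
      obtain ⟨i, hi⟩ := h1
      change b ^ i = _ at hi
      have hcm : Commute (d * z * d⁻¹) (b ^ i) :=
        (show Commute (d * z * d⁻¹) b from mem_centB.1 hmemc).zpow_right i
      have hr₀2 : r₀ * r₀ = 1 := by
        rw [← hd₀, show d₀ * z * d₀⁻¹ * (d₀ * z * d₀⁻¹) = d₀ * (z * z) * d₀⁻¹ by group, (ctr_bigQ hS).zz]
        group
      have hu2 : d * z * d⁻¹ * (d * z * d⁻¹) = 1 := by
        rw [show d * z * d⁻¹ * (d * z * d⁻¹) = d * (z * z) * d⁻¹ by group, (ctr_bigQ hS).zz]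
        group
      have hbi : (b ^ i) ^ 2 = 1 := by
        have e1 : r₀ = (d * z * d⁻¹) * b ^ i := by rw [hi]; group
        have e2 : r₀ ^ 2 = 1 := by rw [pow_two]; exact hr₀2
        rw [e1, hcm.mul_pow, pow_two (d * z * d⁻¹), hu2, one_mul] at e2
        exact e2
      have h7 : (b ^ i) ^ 7 = 1 := by
        rw [← zpow_natCast, ← zpow_mul, mul_comm, zpow_mul, zpow_natCast,
          show b ^ 7 = 1 from hL.order ▸ pow_orderOf_eq_one b, one_zpow]
      have : b ^ i = 1 := by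
        rw [← pow_one (b ^ i), show (1 : ℕ) = Nat.gcd 7 2 from rfl]
        exact pow_gcd_eq_one.2 ⟨h7, hbi⟩
      rw [hi, inv_mul_eq_one] at this
      exact hne' this
    have hin : d⁻¹ * r * d ∈ fixQ Q b := by
      refine ⟨hrd d hdz, mem_centralizer_singleton_iff.2 (mem_centB.1 ?_)⟩
      exact mul_mem (mul_mem (inv_mem hd) (fixQ_le_centB hS hψ hL hr)) hd
    refine mem_bigQ.2 ⟨?_, (hmem _).2 ⟨_, hin, rfl⟩⟩
    rw [mem_centralizer_singleton_iff]
    exact congrArg (QuotientGroup.mk' _) (Subtype.ext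
      (show d⁻¹ * r * d * z = z * (d⁻¹ * r * d) from (ctr_bigQ hS).comm hin.1))

end Cfsg.Agent.LargeExtra.MonsterCent.Seven
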