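import Cfsg.Agent.Lib.LargeExtra.MonsterCent.SevenSetup

/-!
The centralizer of the Sylow 7-subgroup modulo that subgroup is a group of Held type.
-/

set_option autoImplicit false
set_option maxRecDepth 10000
set_option linter.unusedSectionVars false

namespace Cfsg.Agent.LargeExtra.MonsterCent.Seven

open Subgroup Cfsg.Agent.Leech.Classes Cfsg.Agent.MonsterOrbits Cfsg.Agent.LargeExtra
  Cfsg.Agent.MonsterPair

theorem pCore_sl : Cfsg.pCore 2 (Matrix.SpecialLinearGroup (Fin 3) (ZMod 2)) = ⊥ := by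
  haveI := Fischer.sl3_simple
  haveI : Fact (Nat.Prime 2) := ⟨Nat.prime_two⟩
  rcases IsSimpleGroup.eq_bot_or_eq_top_of_normal _
    (Cfsg.Agent.Cores.pCore_normal (G := Matrix.SpecialLinearGroup (Fin 3) (ZMod 2)) 2) with h | h
  · exact h
  · exfalso
    obtain ⟨n, hn⟩ := IsPGroup.iff_card.1
      (Cfsg.Agent.Cores.pCore_isPGroup (G := Matrix.SpecialLinearGroup (Fin 3) (ZMod 2)) 2)
    rw [h, Subgroup.card_top] at hn
    have h168 : Nat.card (Matrix.SpecialLinearGroup (Fin 3) (ZMod 2)) = 168 := by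
      rw [Nat.card_eq_fintype_card]
      decide +kernel
    have hd : 7 ∣ 2 ^ n := by rw [← hn, h168]; norm_num
    have := (Nat.prime_dvd_prime_iff_eq (by norm_num) Nat.prime_two).1
      ((by norm_num : Nat.Prime 7).dvd_of_dvd_pow hd)
    norm_num at this

theorem card_typed : Nat.card {y : Fin 6 → ZMod 2 //
    y ≠ 0 ∧ ((y 3 = 0 ∧ y 4 = 0 ∧ y 5 = 0) ∨ (y 0 = 0 ∧ y 1 = 0 ∧ y 2 = 0))} = 14 := by
  rw [Nat.card_eq_fintype_card]
  decide +kernel

variable {G : Type*} [Group G] [Finite G] {z : G}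
  {Q : Subgroup (Subgroup.centralizer ({z} : Set G))} [Q.Normal]
  {e : (Subgroup.centralizer ({z} : Set G)) ⧸ Q ≃* Cfsg.Spor.Co1}
  {ψ : Cfsg.leechLattice → Q ⧸ Subgroup.center Q}

theorem held_data (hS : Cfsg.IsExtraspecialCentralizerSetting z Q 12)
    (hψ : Cfsg.IsLeechModTwoIso Q e ψ) {b : G} (hL : Lifts e b sig 7)
    [hn : ((Subgroup.zpowers b).subgroupOf (centB b)).Normal]
    {s : G} (hs : s ∈ fixQ Q b) (hsc : IsConj z s) (hsz : s ≠ z) :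
    ∃ (R : Subgroup (Subgroup.centralizer ({(QuotientGroup.mk ⟨z, z_mem_centB hS hψ hL⟩ : quoB b)} : Set (quoB b))))
      (_ : R.Normal),
      Cfsg.IsExtraspecialCentralizerSetting (QuotientGroup.mk ⟨z, z_mem_centB hS hψ hL⟩ : quoB b) R 3 ∧
      Nonempty ((Subgroup.centralizer ({(QuotientGroup.mk ⟨z, z_mem_centB hS hψ hL⟩ : quoB b)} : Set (quoB b))) ⧸ R ≃*
        Matrix.SpecialLinearGroup (Fin 3) (ZMod 2)) ∧
      Set.ncard {x : Subgroup.centralizer ({(QuotientGroup.mk ⟨z, z_mem_centB hS hψ hL⟩ : quoB b)} : Set (quoB b)) |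
        x ∈ R ∧ IsConj (QuotientGroup.mk ⟨z, z_mem_centB hS hψ hL⟩ : quoB b) (x : quoB b)} = 29 ∧
      ∀ x, x ∈ R ↔ ∃ r, ∃ hr : r ∈ fixQ Q b, (x : quoB b) = QuotientGroup.mk ⟨r, fixQ_le_centB hS hψ hL hr⟩ := by
  classical
  have hfuse : ∃ d ∈ centB b, d * z * d⁻¹ ∈ bigQ Q ∧ d * z * d⁻¹ ≠ z := by
    obtain ⟨d, hd, hde⟩ := exists_fuse hS hψ hL hs hsc hsz
    exact ⟨d, hd, by rw [hde]; exact hs.1, by rw [hde]; exact hsz⟩
  obtain ⟨R, hRn, hset, hiso, hmem⟩ := exists_setting hS hψ hL (w' := 3) (by norm_num) (card_fixed hS hψ hL)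
    hfuse rho1 rho1_surjective rho1_ker
    (fun c k hk h => rho1_of_fix c k hk h) pCore_sl
  refine ⟨R, hRn, hset, hiso, ?_, hmem⟩
  -- the conjugates in the group
  let T : Set Q := {x | up x ∈ fixQ Q b ∧ IsConj z (up x) ∧ up x ≠ z}
  have hzQ : ∃ zQ : Q, up zQ = z := by
    obtain ⟨h1, h2⟩ := mem_bigQ.1 (ctr_bigQ hS).z_mem
    exact ⟨⟨⟨z, h1⟩, h2⟩, rfl⟩
  obtain ⟨zQ, hzQ⟩ := hzQ
  have hT : T.ncard = 28 := by
    let S : Set MonsterCent.Cls :=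
      phi '' {y | y ≠ 0 ∧ ((y 3 = 0 ∧ y 4 = 0 ∧ y 5 = 0) ∨ (y 0 = 0 ∧ y 1 = 0 ∧ y 2 = 0))}
    have hTS : T = {x | kap hψ x ∈ S} := Set.ext fun x => class_iff hS hψ hL x
    rw [hTS, ← Nat.card_coe_set_eq]
    show Nat.card {x : Q // kap hψ x ∈ S} = 28
    rw [card_over hψ hS.2.2.1, Nat.card_coe_set_eq, Set.ncard_image_of_injective _ phi_injective,
      ← Nat.card_coe_set_eq]
    show 2 * Nat.card {y : Fin 6 → ZMod 2 //
      y ≠ 0 ∧ ((y 3 = 0 ∧ y 4 = 0 ∧ y 5 = 0) ∨ (y 0 = 0 ∧ y 1 = 0 ∧ y 2 = 0))} = 28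
    rw [card_typed]
  have hins : (insert zQ T).ncard = 29 := by
    rw [Set.ncard_insert_of_notMem (fun h => h.2.2 hzQ), hT]
  rw [← hins, ← Nat.card_coe_set_eq, ← Nat.card_coe_set_eq]
  refine (Nat.card_eq_of_bijective (fun x => ?_ : ↥(insert zQ T) → ↥{x | x ∈ R ∧ IsConj (QuotientGroup.mk ⟨z, z_mem_centB hS hψ hL⟩ : quoB b) (x : quoB b)}) ?_).symm
  · have hx : up x.1 ∈ fixQ Q b := by
      rcases x.2 with h | h
      · rw [h, hzQ]; exact z_mem_fixQ hS hψ hL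
      · exact h.1
    have hcf : QuotientGroup.mk (⟨up x.1, fixQ_le_centB hS hψ hL hx⟩ : centB b) ∈
        Subgroup.centralizer ({(QuotientGroup.mk ⟨z, z_mem_centB hS hψ hL⟩ : quoB b)} : Set (quoB b)) := by
      rw [mem_centralizer_singleton_iff]
      refine congrArg (QuotientGroup.mk' _) (Subtype.ext ?_)
      exact (ctr_bigQ hS).comm hx.1
    refine ⟨⟨_, hcf⟩, (hmem _).2 ⟨_, hx, rfl⟩, ?_⟩
    obtain ⟨d, hd, hde⟩ : ∃ d ∈ centB b, d * z * d⁻¹ = up x.1 := by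
      rcases x.2 with h | h
      · exact ⟨1, one_mem _, by rw [h, hzQ]; group⟩
      · exact exists_fuse hS hψ hL hx h.2.1 h.2.2
    exact isConj_iff.2 ⟨QuotientGroup.mk ⟨d, hd⟩, congrArg (QuotientGroup.mk' _) (Subtype.ext hde)⟩
  · constructor
    · intro x y h
      have h' := congrArg (fun u : ↥{x | x ∈ R ∧ IsConj (QuotientGroup.mk ⟨z, z_mem_centB hS hψ hL⟩ : quoB b) (x : quoB b)} =>
        ((u.1 : Subgroup.centralizer ({(QuotientGroup.mk ⟨z, z_mem_centB hS hψ hL⟩ : quoB b)} : Set (quoB b))) : quoB b)) h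
      have hx : up x.1 ∈ fixQ Q b := by
        rcases x.2 with h1 | h1
        · rw [h1, hzQ]; exact z_mem_fixQ hS hψ hL
        · exact h1.1
      have hy : up y.1 ∈ fixQ Q b := by
        rcases y.2 with h1 | h1
        · rw [h1, hzQ]; exact z_mem_fixQ hS hψ hL
        · exact h1.1
      have he : up x.1 = up y.1 := eq_of_mk hS hψ hL (fixQ_le_centB hS hψ hL hx) (fixQ_le_centB hS hψ hL hy)
        (mul_mem (inv_mem hx.1) hy.1) h'
      exact Subtype.ext (Subtype.ext (Subtype.ext he))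
    · rintro ⟨u, hu, huc⟩
      obtain ⟨r, hr, hru⟩ := (hmem u).1 hu
      rw [hru] at huc
      obtain ⟨d, hd, hde⟩ := conj_lift hS hψ hL hr huc
      obtain ⟨hrC, hrQ⟩ := mem_bigQ.1 hr.1
      refine ⟨⟨⟨⟨r, hrC⟩, hrQ⟩, ?_⟩, Subtype.ext (Subtype.ext hru.symm)⟩
      by_cases hrz : r = z
      · exact Or.inl (Subtype.ext (Subtype.ext (hrz.trans hzQ.symm)))
      · exact Or.inr ⟨hr, isConj_iff.2 ⟨d, hde⟩, hrz⟩

theorem held_type (hS : Cfsg.IsExtraspecialCentralizerSetting z Q 12)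
    (hψ : Cfsg.IsLeechModTwoIso Q e ψ) {b : G} (hL : Lifts e b sig 7)
    [hn : ((Subgroup.zpowers b).subgroupOf (centB b)).Normal]
    {s : G} (hs : s ∈ fixQ Q b) (hsc : IsConj z s) (hsz : s ≠ z) :
    Cfsg.IsOfHeldType (quoB b) := by
  obtain ⟨R, hRn, hset, hiso, h29, -⟩ := held_data hS hψ hL hs hsc hsz
  exact ⟨_, R, hRn, hset, hiso, h29⟩

end Cfsg.Agent.LargeExtra.MonsterCent.Seven
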