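import Mathlib

/-!
Explicit tables: a frame on which an involution inverting the element of order seven is a sign change.
-/

set_option autoImplicit false

namespace Cfsg.Agent.LargeExtra.MonsterCent.Seven

/-- A table of a permutation. -/
def jATab : List ℕ := [11, 14, 19, 13, 9, 6, 12, 23, 22, 4, 20, 3, 15, 10, 18, 5, 8, 16, 0, 21, 2, 1, 7, 17]

/-- The inverse table. -/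
def jAInv : List ℕ := [18, 21, 20, 11, 9, 15, 5, 22, 16, 4, 13, 0, 6, 3, 1, 12, 17, 23, 14, 2, 10, 19, 8, 7]

/-- A mask of a code word. -/
def jAMask : ℕ := 0

/-- A table of a permutation. -/
def jBTab : List ℕ := [0, 6, 3, 21, 10, 1, 20, 2, 18, 8, 14, 22, 15, 7, 4, 17, 11, 5, 13, 23, 9, 12, 19, 16]

/-- The inverse table. -/
def jBInv : List ℕ := [0, 5, 7, 2, 14, 17, 1, 13, 9, 20, 4, 16, 21, 18, 10, 12, 23, 15, 8, 22, 6, 3, 11, 19]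

/-- A mask of a code word. -/
def jBMask : ℕ := 0

/-- A table of a permutation. -/
def jCTab : List ℕ := [0, 5, 7, 2, 14, 17, 1, 13, 9, 20, 4, 16, 21, 18, 10, 12, 23, 15, 8, 22, 6, 3, 11, 19]

/-- The inverse table. -/
def jCInv : List ℕ := [0, 6, 3, 21, 10, 1, 20, 2, 18, 8, 14, 22, 15, 7, 4, 17, 11, 5, 13, 23, 9, 12, 19, 16]

/-- A mask of a code word. -/
def jCMask : ℕ := 0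

/-- A table of a permutation. -/
def jDTab : List ℕ := [18, 21, 20, 11, 9, 15, 5, 22, 16, 4, 13, 0, 6, 3, 1, 12, 17, 23, 14, 2, 10, 19, 8, 7]

/-- The inverse table. -/
def jDInv : List ℕ := [11, 14, 19, 13, 9, 6, 12, 23, 22, 4, 20, 3, 15, 10, 18, 5, 8, 16, 0, 21, 2, 1, 7, 17]

/-- A mask of a code word. -/
def jDMask : ℕ := 0

/-- The mask of the sign change. -/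
def jMask : ℕ := 12739422

/-- Images of the frame vectors. -/
def jFrameTab : List (List ℤ) :=
  [[0, 0, 0, 0, 2, 0, 2, 2, 2, -2, 2, -2, -2, 2, 0, 2, -2, 0, -2, 2, 2, -2, 2, 0],
   [-2, 2, -2, 2, 4, -2, 0, 0, 0, 0, 0, 0, 0, 0, -2, 0, 4, -2, 0, 0, 0, 0, 0, -2],
   [0, 0, 0, 0, -2, 0, 2, -2, 2, 2, 2, 2, -2, 2, 0, 2, 2, 0, 2, -2, -2, -2, 2, 0],
   [0, 0, 0, 0, -2, 0, 2, 2, -2, -2, 2, 2, 2, -2, 0, 2, 2, 0, 2, 2, 2, -2, -2, 0],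
   [0, 0, 0, 0, -2, 0, -2, 2, 2, -2, -2, 2, -2, 2, 0, -2, 2, 0, 2, 2, 2, 2, 2, 0],
   [0, 0, 0, 0, -2, 0, -2, 2, -2, 2, 2, -2, 2, 2, 0, 2, 2, 0, -2, 2, -2, 2, 2, 0],
   [-2, -2, 2, -2, 0, -2, 0, 0, 0, 4, 0, 0, 0, 0, -2, 0, 0, 2, 0, 0, 4, 0, 0, -2],
   [-2, -2, -2, 2, 0, 2, 0, 0, 0, 0, 0, 4, 0, 0, -2, 0, 0, 2, -4, 0, 0, 0, 0, 2],
   [2, 2, 2, 2, 0, 2, 0, 0, 4, 0, 0, 0, 4, 0, -2, 0, 0, 2, 0, 0, 0, 0, 0, -2],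
   [-2, -2, -2, -2, 0, -2, 0, 0, 4, 0, 0, 0, 4, 0, 2, 0, 0, -2, 0, 0, 0, 0, 0, 2],
   [-2, -2, -2, 2, 0, 2, 0, 0, 0, 0, 0, -4, 0, 0, -2, 0, 0, 2, 4, 0, 0, 0, 0, 2],
   [2, -2, -2, -2, 0, 2, -4, 0, 0, 0, 0, 0, 0, 0, -2, 0, 0, -2, 0, 0, 0, -4, 0, -2],
   [2, -2, 2, -2, 4, 2, 0, 0, 0, 0, 0, 0, 0, 0, 2, 0, 4, 2, 0, 0, 0, 0, 0, 2],
   [2, 2, -2, 2, 0, 2, 0, 0, 0, 4, 0, 0, 0, 0, 2, 0, 0, -2, 0, 0, 4, 0, 0, 2],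
   [-2, 2, 2, 2, 0, -2, -4, 0, 0, 0, 0, 0, 0, 0, 2, 0, 0, 2, 0, 0, 0, -4, 0, 2],
   [0, 0, 0, 0, 2, 0, -2, -2, -2, -2, 2, 2, 2, 2, 0, 2, -2, 0, 2, -2, 2, 2, 2, 0],
   [-2, -2, 2, 2, 0, 2, 0, 0, 0, 0, -4, 0, 0, 0, 2, 4, 0, -2, 0, 0, 0, 0, 0, -2],
   [-2, 2, 2, -2, 0, 2, 0, 4, 0, 0, 0, 0, 0, 0, -2, 0, 0, -2, 0, -4, 0, 0, 0, 2],
   [-2, -2, 2, 2, 0, 2, 0, 0, 0, 0, 4, 0, 0, 0, 2, -4, 0, -2, 0, 0, 0, 0, 0, -2],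
   [-2, 2, 2, -2, 0, 2, 0, -4, 0, 0, 0, 0, 0, 0, -2, 0, 0, -2, 0, 4, 0, 0, 0, 2],
   [0, 0, 0, 0, 2, 0, -2, 2, 2, 2, 2, 2, -2, -2, 0, 2, -2, 0, 2, 2, -2, 2, -2, 0],
   [-2, 2, -2, -2, 0, 2, 0, 0, 0, 0, 0, 0, 0, -4, 2, 0, 0, 2, 0, 0, 0, 0, 4, -2],
   [0, 0, 0, 0, 2, 0, 2, 2, -2, 2, -2, 2, 2, 2, 0, -2, -2, 0, 2, 2, -2, -2, 2, 0],
   [-2, 2, -2, -2, 0, 2, 0, 0, 0, 0, 0, 0, 0, 4, 2, 0, 0, 2, 0, 0, 0, 0, -4, -2]]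

/-- Images of the frame vectors. -/
def jImageTab : List (List ℤ) :=
  [[2, -2, -2, 2, -2, 2, 2, 0, -2, -2, 0, 2, -2, 2, 2, -2, 0, 0, 0, 0, 2, 0, -2, 0],
   [-2, -2, 2, 2, 2, 2, 2, 0, -2, 2, 0, -2, 2, -2, 2, -2, 0, 0, 0, 0, -2, 0, -2, 0],
   [-2, 2, 2, 2, -2, -2, -2, 0, -2, -2, 0, 2, 2, -2, 2, 2, 0, 0, 0, 0, 2, 0, -2, 0],
   [2, 2, 2, 2, 2, 2, 2, 0, 2, 2, 0, 2, 2, 2, 2, 2, 0, 0, 0, 0, 2, 0, 2, 0],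
   [-2, 2, -2, 2, 2, -2, 2, 0, -2, -2, 0, -2, 2, 2, -2, -2, 0, 0, 0, 0, 2, 0, 2, 0],
   [2, 2, -2, 2, -2, 2, -2, 0, 2, 2, 0, -2, 2, -2, -2, -2, 0, 0, 0, 0, 2, 0, -2, 0],
   [2, 2, -2, 2, 2, -2, -2, 0, -2, 2, 0, -2, -2, 2, 2, 2, 0, 0, 0, 0, -2, 0, -2, 0],
   [0, 0, 0, 0, 0, 0, 0, 2, 0, 0, -6, 0, 0, 0, 0, 0, 2, 2, 2, 2, 0, 2, 0, 2],
   [-2, -2, -2, 2, -2, 2, -2, 0, -2, 2, 0, 2, 2, 2, -2, 2, 0, 0, 0, 0, -2, 0, 2, 0],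
   [-2, 2, -2, 2, -2, 2, 2, 0, 2, -2, 0, -2, -2, -2, 2, 2, 0, 0, 0, 0, -2, 0, 2, 0],
   [0, 0, 0, 0, 0, 0, 0, -6, 0, 0, 2, 0, 0, 0, 0, 0, 2, 2, 2, 2, 0, 2, 0, 2],
   [2, -2, 2, 2, -2, -2, -2, 0, 2, -2, 0, -2, 2, 2, 2, -2, 0, 0, 0, 0, -2, 0, 2, 0],
   [-2, 2, 2, 2, 2, 2, -2, 0, 2, -2, 0, 2, -2, 2, -2, -2, 0, 0, 0, 0, -2, 0, -2, 0],
   [2, -2, -2, 2, 2, -2, 2, 0, 2, -2, 0, 2, 2, -2, -2, 2, 0, 0, 0, 0, -2, 0, -2, 0],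
   [2, 2, 2, 2, -2, -2, 2, 0, -2, 2, 0, 2, -2, -2, -2, -2, 0, 0, 0, 0, -2, 0, 2, 0],
   [-2, -2, 2, 2, -2, -2, 2, 0, 2, 2, 0, -2, -2, 2, -2, 2, 0, 0, 0, 0, 2, 0, -2, 0],
   [0, 0, 0, 0, 0, 0, 0, 2, 0, 0, 2, 0, 0, 0, 0, 0, 2, 2, -6, 2, 0, 2, 0, 2],
   [0, 0, 0, 0, 0, 0, 0, 2, 0, 0, 2, 0, 0, 0, 0, 0, 2, 2, 2, -6, 0, 2, 0, 2],
   [0, 0, 0, 0, 0, 0, 0, 2, 0, 0, 2, 0, 0, 0, 0, 0, -6, 2, 2, 2, 0, 2, 0, 2],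
   [0, 0, 0, 0, 0, 0, 0, 2, 0, 0, 2, 0, 0, 0, 0, 0, 2, -6, 2, 2, 0, 2, 0, 2],
   [2, -2, 2, 2, 2, 2, -2, 0, -2, -2, 0, -2, -2, -2, -2, 2, 0, 0, 0, 0, 2, 0, 2, 0],
   [0, 0, 0, 0, 0, 0, 0, 2, 0, 0, 2, 0, 0, 0, 0, 0, 2, 2, 2, 2, 0, -6, 0, 2],
   [-2, -2, -2, 2, 2, -2, -2, 0, 2, 2, 0, 2, -2, -2, 2, -2, 0, 0, 0, 0, 2, 0, 2, 0],
   [0, 0, 0, 0, 0, 0, 0, 2, 0, 0, 2, 0, 0, 0, 0, 0, 2, 2, 2, 2, 0, 2, 0, -6]]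

end Cfsg.Agent.LargeExtra.MonsterCent.Seven
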