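import Cfsg.Agent.Lib.LargeExtra.MonsterCent.SevenSetup
import Cfsg.Agent.Lib.LargeExtra.MonsterCent.SevenInvData

/-!
An involution of the centralizer of `z` inverting the element of order seven: a lift of a sign
change on another frame.
-/

set_option autoImplicit false
set_option maxRecDepth 100000
set_option maxHeartbeats 4000000
set_option linter.unusedSectionVars false

namespace Cfsg.Agent.LargeExtra.MonsterCent.Seven

open Cfsg.Agent.Golay.Basic Cfsg.Agent.Leech.Index Cfsg.Agent.Leech.Basic Cfsg.Agent.Leech.Classes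
  Cfsg.Agent.LeechAut.Gens Cfsg.Agent.LeechAut.Basic Cfsg.Agent.LeechAut.Cross Cfsg.Agent.LeechAut.Xi
  Cfsg.Agent.LeechAut.Co1 Cfsg.Agent.MonsterOrbits Cfsg.Agent.MonsterPair Cfsg.Agent.LargeExtra
open scoped commutatorElement Pointwise

/-- A permutation. -/
def jAP : Equiv.Perm Cfsg.GolayPt := tp jATab jAInv (by decide +kernel) (by decide +kernel)
/-- A permutation. -/
def jBP : Equiv.Perm Cfsg.GolayPt := tp jBTab jBInv (by decide +kernel) (by decide +kernel)
/-- A permutation. -/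
def jCP : Equiv.Perm Cfsg.GolayPt := tp jCTab jCInv (by decide +kernel) (by decide +kernel)
/-- A permutation. -/
def jDP : Equiv.Perm Cfsg.GolayPt := tp jDTab jDInv (by decide +kernel) (by decide +kernel)

theorem jA_mem : jAP ∈ Cfsg.M24 := mem_M24_of_masks _ (by decide +kernel)
theorem jB_mem : jBP ∈ Cfsg.M24 := mem_M24_of_masks _ (by decide +kernel)
theorem jC_mem : jCP ∈ Cfsg.M24 := mem_M24_of_masks _ (by decide +kernel)
theorem jD_mem : jDP ∈ Cfsg.M24 := mem_M24_of_masks _ (by decide +kernel)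

/-- The element carrying the standard frame to the frame of the inverting involution. -/
def jEl : Cfsg.Co0 :=
  mEl ⟨jAP, jA_mem⟩ jAMask (by decide +kernel) * (xi * (mEl ⟨jBP, jB_mem⟩ jBMask (by decide +kernel) * xi))
/-- Its inverse. -/
def jInvEl : Cfsg.Co0 :=
  xi * (mEl ⟨jCP, jC_mem⟩ jCMask (by decide +kernel) * (xi * mEl ⟨jDP, jD_mem⟩ jDMask (by decide +kernel)))
/-- The sign change on that frame. -/
def jSign : Cfsg.Co0 := mEl 1 jMask (by decide +kernel)

/-- The action on vectors. -/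
def jFun (x : Vec) : Vec := mFun jAP jAMask (xiFun (mFun jBP jBMask (xiFun x)))
/-- The action on vectors. -/
def jInvFun (x : Vec) : Vec := xiFun (mFun jCP jCMask (xiFun (mFun jDP jDMask x)))
/-- The action on vectors. -/
def jSignFun : Vec → Vec := mFun 1 jMask

theorem j_smul (v : Cfsg.leechLattice) : ((jEl • v : Cfsg.leechLattice) : Vec) = jFun (v : Vec) := by
  rw [jEl, mul_smul, mul_smul, mul_smul, mEl_smul, xi_smul, mEl_smul, xi_smul]
  rfl
theorem jInv_smul (v : Cfsg.leechLattice) :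
    ((jInvEl • v : Cfsg.leechLattice) : Vec) = jInvFun (v : Vec) := by
  rw [jInvEl, mul_smul, mul_smul, mul_smul, xi_smul, mEl_smul, xi_smul, mEl_smul]
  rfl
theorem jSign_smul (v : Cfsg.leechLattice) :
    ((jSign • v : Cfsg.leechLattice) : Vec) = jSignFun (v : Vec) :=
  mEl_smul _ _ _ v

theorem tab_frame : ∀ i p, jInvFun (Pi.single i 8) p = vec (jFrameTab.getD (ix i) []) p := by
  decide +kernel

theorem tab_back : ∀ i p, jFun (vec (jFrameTab.getD (ix i) [])) p = (Pi.single i 8 : Vec) p := by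
  decide +kernel

theorem tab_image : ∀ i p,
    jFun (jSignFun (vec (jFrameTab.getD (ix i) []))) p = vec (jImageTab.getD (ix i) []) p := by
  decide +kernel

theorem tab_twist : ∀ i p, sigFun (vec (jImageTab.getD (ix (sigmaP i)) [])) p =
    vec (jImageTab.getD (ix i) []) p := by decide +kernel

theorem sigFun_single : ∀ i p, sigFun (Pi.single i 8) p = (Pi.single (sigmaP i) 8 : Vec) p := by
  decide +kernel

theorem j_inv : jEl⁻¹ = jInvEl := by
  refine inv_eq_of_mul_eq_one_right (eq_of_frames fun i => ?_)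
  rw [mul_smul, j_smul, jInv_smul, one_smul, frame_coe, funext (tab_frame i), funext (tab_back i)]

theorem j_sig : (jEl * jSign * jInvEl) * sig = sig ^ 6 * (jEl * jSign * jInvEl) := by
  set X := jEl * jSign * jInvEl
  have hX : ∀ i, ((X • frame i : Cfsg.leechLattice) : Vec) = vec (jImageTab.getD (ix i) []) := fun i => by
    rw [mul_smul, mul_smul, j_smul, jSign_smul, jInv_smul, frame_coe, funext (tab_frame i)]
    exact funext (tab_image i)
  have h : sig * (X * sig) = X := by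
    refine eq_of_frames fun i => ?_
    have hs : sig • frame i = frame (sigmaP i) := Subtype.ext (by
      rw [sig_smul, frame_coe, frame_coe]; exact funext (sigFun_single i))
    rw [mul_smul, mul_smul, sig_smul, hs, hX, hX]
    exact funext (tab_twist i)
  calc X * sig = sig ^ 7 * (X * sig) := by rw [sig_pow_seven, one_mul]
    _ = sig ^ 6 * (sig * (X * sig)) := by rw [pow_succ, mul_assoc]
    _ = sig ^ 6 * X := by rw [h]

theorem jSign_eq : jSign ∈ signSub := by
  have h : isCode (mask (maskSet jMask)) = true := by decide +kernel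
  refine ⟨maskSet jMask, mem_supports_iff.2 h, ext' fun v => Subtype.ext ?_⟩
  rw [jSign_smul, sign_smul]
  funext p
  simp [jSignFun, mFun, Cfsg.Agent.LeechAut.Basic.flip]
  rfl

theorem jSign_ne : toCo1 jSign ≠ 1 := by
  intro e
  rcases center_eq _ ((QuotientGroup.eq_one_iff _).1 e) with h | h
  · have h1 := jSign_smul (frame (pt 1))
    rw [h, one_smul, frame_coe] at h1
    revert h1
    decide +kernel
  · have h1 := jSign_smul (frame (pt 0))
    rw [h, negOne_smul, AddSubgroup.coe_neg, frame_coe] at h1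
    revert h1
    decide +kernel

/-- The inverting element of the quotient. -/
def jOne : Cfsg.Spor.Co1 := toCo1 (jEl * jSign * jInvEl)

theorem jOne_sig : jOne * sig1 * jOne⁻¹ = sig1 ^ 6 := by
  rw [jOne, sig1, mul_inv_eq_iff_eq_mul, ← map_mul, j_sig, map_mul, map_pow]

variable {G : Type*} [Group G] [Finite G] {z : G}
  {Q : Subgroup (Subgroup.centralizer ({z} : Set G))} [Q.Normal]
  {e : (Subgroup.centralizer ({z} : Set G)) ⧸ Q ≃* Cfsg.Spor.Co1}
  {ψ : Cfsg.leechLattice → Q ⧸ Subgroup.center Q}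

/-- A conjugate of a sign change on a frame lifts to an involution. -/
theorem exists_involution (hS : Cfsg.IsExtraspecialCentralizerSetting z Q 12)
    (hψ : Cfsg.IsLeechModTwoIso Q e ψ) (a : Cfsg.Co0) {c : Cfsg.Co0} (hc : c ∈ signSub) (hc1 : toCo1 c ≠ 1) :
    ∃ (t : G) (ht : t ∈ Subgroup.centralizer ({z} : Set G)), t * t = 1 ∧
      e (QuotientGroup.mk ⟨t, ht⟩) = toCo1 (a * c * a⁻¹) := by
  classical
  have hH := ctr_bigQ hS
  obtain ⟨x, hx⟩ := exists_of_class hψ (cls (a • frame none))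
  have hT : Ty ψ x 64 := ⟨a • frame none, by rw [sqNorm_smul, sqNorm_frame], psi_of_kap hψ hx⟩
  have hxz : up x ≠ z := fun e1 =>
    Ty.notMem_center hψ hT (by norm_num) le_rfl ((mem_center_iff' hS).2 (Or.inr e1))
  obtain ⟨g, hg⟩ : ∃ g : G, g * z * g⁻¹ = up x := by
    obtain ⟨g0, ⟨hgc, hgQ⟩, hgz⟩ := hS.2.2.2.2
    obtain ⟨h, -, he⟩ := conj_of_ty hS hψ (x := ⟨⟨g0 * z * g0⁻¹, hgc⟩, hgQ⟩) (y := x) (Or.inr (Or.inr rfl))
      (ty_conj hS hψ (x := ⟨⟨g0 * z * g0⁻¹, hgc⟩, hgQ⟩) (isConj_iff.2 ⟨g0, rfl⟩) hgz) hT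
    refine ⟨h * g0, ?_⟩
    change h * (g0 * z * g0⁻¹) * h⁻¹ = up x at he
    rw [← he]; group
  have hgQ : g * z * g⁻¹ ∈ bigQ Q := by rw [hg]; exact up_mem x
  have hgz : g * z * g⁻¹ ≠ z := by rw [hg]; exact hxz
  set e' := e.trans (MulAut.conj (toCo1 a⁻¹)) with he'
  have hψ' := twist hψ a⁻¹
  have hX : (imgC Q (g * z * g⁻¹)).map e'.toMonoidHom = crossOne := by
    rw [hg, show crossOne = (clsStab (frame none)).map toCo1 by rw [clsStab_frame]]
    refine imgC_eq hS hψ' (Ty.notMem_center hψ hT (by norm_num) le_rfl) ?_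
    show ψ (a⁻¹⁻¹ • frame none) = _
    rw [inv_inv]
    exact psi_of_kap hψ hx
  set A := (imgQ Q g).map e'.toMonoidHom with hA
  have hle : A ≤ signSub.map toCo1 := by
    refine le_signs A ((Subgroup.map_mono (imgQ_le hS hgQ hgz)).trans hX.le) ?_ ?_
    · intro k hk u hu
      obtain ⟨w, hw, rfl⟩ := hu
      obtain ⟨d, hd, hde⟩ : toCo1 k ∈ (imgC Q (g * z * g⁻¹)).map e'.toMonoidHom :=
        hX.symm.le (Subgroup.mem_map_of_mem toCo1 hk)
      refine ⟨d * w * d⁻¹, imgQ_conj hS hgQ hgz d hd w hw, ?_⟩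
      rw [map_mul, map_mul, map_inv, hde]
    · rintro _ ⟨w, hw, rfl⟩
      rw [← map_mul, imgQ_sq hS hgQ hgz w hw, map_one]
  obtain ⟨h1, h2⟩ := card_inf_mul hS hgQ hgz (by norm_num)
  haveI := finite_Co0
  haveI : Finite (signSub.map toCo1 : Subgroup Cfsg.Spor.Co1) := inferInstance
  have h3 : Nat.card (imgQ Q g) ≤ Nat.card (signSub.map toCo1) := by
    rw [← Subgroup.card_map_of_injective (f := e'.toMonoidHom) e'.injective]
    exact Subgroup.card_le_of_le hle
  have h4 := card_signs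
  set n := Nat.card ↥(bigQ Q ⊓ (bigQ Q).map (MulAut.conj g).toMonoidHom) with hn
  have h11 : 2 ^ 11 ≤ Nat.card A := by
    rw [hA, Subgroup.card_map_of_injective e'.injective]
    by_contra hne
    push Not at hne
    have : n * Nat.card (imgQ Q g) ≤ 2 ^ (12 + 1) * (2 ^ 11 - 1) := Nat.mul_le_mul h2 (by omega)
    norm_num at this h1
    omega
  have hAeq : A = signSub.map toCo1 := Subgroup.eq_of_le_of_card_ge hle (h4.trans h11)
  have hn13 : n = 2 ^ 13 := by
    by_contra hne
    have : n * Nat.card (imgQ Q g) ≤ (2 ^ 13 - 1) * 2 ^ 11 :=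
      Nat.mul_le_mul (by norm_num at h2 ⊢; omega) (h3.trans h4)
    norm_num at this h1
    omega
  obtain ⟨_, ⟨y, hy, rfl⟩, hye⟩ : toCo1 c ∈ (imgQ Q g).map e'.toMonoidHom :=
    hAeq.symm.le (Subgroup.mem_map_of_mem toCo1 hc)
  obtain ⟨hyQ', hyz⟩ := Subgroup.mem_subgroupOf.1 hy
  have P := Pair.mk' hH hgQ hgz
  set Q' := (bigQ Q).map (MulAut.conj g).toMonoidHom
  have hye2 : e (QuotientGroup.mk y) = toCo1 (a * c * a⁻¹) := by
    have h5 : toCo1 a⁻¹ * e (QuotientGroup.mk y) * (toCo1 a⁻¹)⁻¹ = toCo1 c := hye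
    rw [map_mul, map_mul, ← h5, map_inv]
    group
  have hne : toCo1 (a * c * a⁻¹) ≠ 1 := by
    intro e1
    rw [map_mul, map_mul, map_inv, mul_inv_eq_one] at e1
    exact hc1 (mul_eq_left.1 e1)
  have hynQ : (y : G) ∉ bigQ Q := by
    intro h
    obtain ⟨_, h'⟩ := mem_bigQ.1 h
    rw [show e (QuotientGroup.mk y) = 1 by rw [(QuotientGroup.eq_one_iff _).2 h', map_one]] at hye2
    exact hne hye2.symm
  rcases P.h'.sq_cases hyQ' with h5 | h5
  · exact ⟨y, y.2, h5, hye2⟩
  set I := bigQ Q ⊓ Q'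
  obtain ⟨q, hq, hqy⟩ : ∃ q ∈ I, q * (y : G) ≠ (y : G) * q := by
    by_contra hcon
    push Not at hcon
    -- an abelian subgroup of order at least 2^14
    let S : Set G := (I : Set G) ∪ {(y : G)}
    have hcomm : ∀ u ∈ S, ∀ v ∈ S, u * v = v * u := by
      have hI : ∀ u ∈ I, ∀ v ∈ I, u * v = v * u := by
        intro u hu v hv
        rcases hH.comm_cases hu.1 hv.1 with h6 | h6
        · exact commutatorElement_eq_one_iff_mul_comm.1 h6
        · rcases P.h'.comm_cases hu.2 hv.2 with h7 | h7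
          · exact commutatorElement_eq_one_iff_mul_comm.1 h7
          · exact absurd (h7.symm.trans h6) P.ne
      rintro u (hu | hu) v (hv | hv)
      · exact hI u hu v hv
      · rw [Set.mem_singleton_iff.1 hv]; exact hcon u hu
      · rw [Set.mem_singleton_iff.1 hu]; exact (hcon v hv).symm
      · rw [Set.mem_singleton_iff.1 hu, Set.mem_singleton_iff.1 hv]
    set T := Subgroup.closure S
    have hTQ : T ≤ Q' := (Subgroup.closure_le _).2 (by
      rintro u (hu | hu)
      · exact hu.2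
      · rw [Set.mem_singleton_iff.1 hu]; exact hyQ')
    have hIT : I < T := by
      refine lt_of_le_of_ne (fun u hu => Subgroup.subset_closure (Or.inl hu)) fun e1 => hynQ ?_
      have : (y : G) ∈ T := Subgroup.subset_closure (Or.inr rfl)
      rw [← e1] at this
      exact this.1
    have h14 : 2 ^ 14 ≤ Nat.card T := by
      have hd := Subgroup.card_dvd_of_le hIT.le
      have hlt : Nat.card I < Nat.card T := by
        by_contra hge
        exact hIT.ne (Subgroup.eq_of_le_of_card_ge hIT.le (not_lt.1 hge))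
      obtain ⟨k, hk⟩ := hd
      rw [show Nat.card I = 2 ^ 13 from hn13] at hk hlt
      rcases k with _ | _ | k
      · omega
      · omega
      · rw [hk]
        calc (2 : ℕ) ^ 14 = 2 ^ 13 * 2 := by norm_num
          _ ≤ 2 ^ 13 * (k + 1 + 1) := Nat.mul_le_mul_left _ (by omega)
    have hcT : ∀ u ∈ T, ∀ v ∈ T, u * v = v * u := by
      intro u hu v hv
      have h1 : T ≤ Subgroup.centralizer (T : Set G) := by
        rw [show (T : Set G) = (Subgroup.closure S : Set G) from rfl, Subgroup.centralizer_closure]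
        exact (Subgroup.closure_le _).2 fun a' ha' => Subgroup.mem_centralizer_iff.2 fun b' hb' =>
          hcomm b' hb' a' ha'
      exact (Subgroup.mem_centralizer_iff.1 (h1 hv)) u hu
    haveI : IsMulCommutative ↥(T.subgroupOf Q') :=
      ⟨⟨fun u v => Subtype.ext (Subtype.ext (hcT _ u.2 _ v.2))⟩⟩
    haveI : Fact (Nat.Prime 2) := ⟨Nat.prime_two⟩
    have h8 := Cfsg.Agent.PGroups.Extraspecial.card_sq_le_of_abelian P.h'.ext (T.subgroupOf Q')
    rw [Nat.card_congr (Subgroup.subgroupOfEquivOfLe hTQ).toEquiv,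
      show Nat.card Q' = 2 ^ 25 by
        rw [Subgroup.card_map_of_injective (MulAut.conj g).injective, card_bigQ, hS.2.2.2.1]] at h8
    have h9 : (2 ^ 14) ^ 2 ≤ (Nat.card T) ^ 2 := Nat.pow_le_pow_left h14 2
    have h10 := h9.trans h8
    norm_num at h10
  have hq2 : q * q = 1 := by
    rcases hH.sq_cases hq.1 with h6 | h6
    · exact h6
    · rcases P.h'.sq_cases hq.2 with h7 | h7
      · exact h7
      · exact absurd (h7.symm.trans h6) P.ne
  obtain ⟨hqC, hqQ⟩ := mem_bigQ.1 hq.1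
  refine ⟨(y : G) * q, mul_mem y.2 hqC, ?_, ?_⟩
  · rcases P.h'.comm_cases hq.2 hyQ' with h6 | h6
    · exact absurd (commutatorElement_eq_one_iff_mul_comm.1 h6) hqy
    · rw [commutatorElement_def] at h6
      have hqinv : q⁻¹ = q := inv_eq_of_mul_eq_one_right hq2
      have e1 : q * (y : G) = g * z * g⁻¹ * (y : G) * q := by
        rw [← h6]; group
      calc (y : G) * q * ((y : G) * q) = (y : G) * (q * (y : G)) * q := by group
        _ = ((y : G) * (g * z * g⁻¹)) * (y : G) * (q * q) := by rw [e1]; group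
        _ = ((g * z * g⁻¹) * (y : G)) * (y : G) * (q * q) := by rw [P.h'.comm hyQ']
        _ = (g * z * g⁻¹) * ((y : G) * (y : G)) := by rw [hq2]; group
        _ = 1 := by rw [h5, P.h'.zz]
  · rw [show (⟨(y : G) * q, mul_mem y.2 hqC⟩ : Subgroup.centralizer ({z} : Set G)) = y * ⟨q, hqC⟩ from rfl,
      QuotientGroup.mk_mul, (QuotientGroup.eq_one_iff _).2 hqQ, mul_one]
    exact hye2

/-- An involution inverting the element. -/
theorem exists_inverter (hS : Cfsg.IsExtraspecialCentralizerSetting z Q 12)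
    (hψ : Cfsg.IsLeechModTwoIso Q e ψ) {b : G} (hL : Lifts e b sig 7) :
    ∃ t ∈ Subgroup.centralizer ({z} : Set G), orderOf t = 2 ∧ t * b * t⁻¹ = b⁻¹ := by
  obtain ⟨t₀, ht₀, htt, hte⟩ := exists_involution hS hψ jEl jSign_eq jSign_ne
  have hte' : e (QuotientGroup.mk ⟨t₀, ht₀⟩) = jOne := by rw [hte, jOne, j_inv]
  have htinv : t₀⁻¹ = t₀ := inv_eq_of_mul_eq_one_right htt
  set bC : Subgroup.centralizer ({z} : Set G) := ⟨b, hL.mem⟩
  set tC : Subgroup.centralizer ({z} : Set G) := ⟨t₀, ht₀⟩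
  set c := t₀ * (b * t₀ * b⁻¹) with hc
  have hcC : c ∈ Subgroup.centralizer ({z} : Set G) :=
    mul_mem ht₀ (mul_mem (mul_mem hL.mem ht₀) (inv_mem hL.mem))
  have hinv : t₀ * c * t₀⁻¹ = c⁻¹ := by
    calc t₀ * c * t₀⁻¹ = (t₀ * t₀) * (b * t₀ * b⁻¹) * t₀⁻¹ := by rw [hc]; group
      _ = b * t₀ * b⁻¹ * t₀⁻¹ := by rw [htt, one_mul]
      _ = b * t₀⁻¹ * b⁻¹ * t₀⁻¹ := by rw [htinv]
      _ = c⁻¹ := by rw [hc]; group
  have himg : e (QuotientGroup.mk ⟨c, hcC⟩) = sig1 ^ 5 := by
    rw [show (⟨c, hcC⟩ : Subgroup.centralizer ({z} : Set G)) = tC * (bC * tC * bC⁻¹) from rfl,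
      QuotientGroup.mk_mul, QuotientGroup.mk_mul, QuotientGroup.mk_mul, QuotientGroup.mk_inv,
      map_mul, map_mul, map_mul, map_inv, hL.img, hte']
    have h2 : jOne * jOne = 1 := by
      rw [← hte', ← map_mul, ← QuotientGroup.mk_mul,
        show tC * tC = 1 from Subtype.ext htt, QuotientGroup.mk_one, map_one]
    have h1 := jOne_sig
    rw [inv_eq_of_mul_eq_one_right h2] at h1
    calc jOne * (toCo1 sig * jOne * (toCo1 sig)⁻¹) = (jOne * sig1 * jOne) * sig1⁻¹ := by
          rw [show toCo1 sig = sig1 from rfl]; group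
      _ = sig1 ^ 5 := by rw [h1, pow_succ, mul_inv_cancel_right]
  have hs7 : sig1 ^ 7 = 1 := orderOf_sig1 ▸ pow_orderOf_eq_one sig1
  set d := c ^ 24 with hd
  have hdC : d ∈ Subgroup.centralizer ({z} : Set G) := pow_mem hcC 24
  have hdimg : e (QuotientGroup.mk ⟨d, hdC⟩) = sig1 := by
    rw [show (⟨d, hdC⟩ : Subgroup.centralizer ({z} : Set G)) = ⟨c, hcC⟩ ^ 24 from Subtype.ext (by simp [hd]),
      QuotientGroup.mk_pow, map_pow, himg, ← pow_mul, pow_eq_pow_mod _ hs7]
    norm_num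
  have hd7 : d ^ 7 = 1 := by
    have h1 : (⟨c, hcC⟩ : Subgroup.centralizer ({z} : Set G)) ^ 7 ∈ Q := by
      rw [← QuotientGroup.eq_one_iff, QuotientGroup.mk_pow]
      apply e.injective
      rw [map_pow, himg, map_one, ← pow_mul, mul_comm, pow_mul, hs7, one_pow]
    have h2 : c ^ 7 ∈ bigQ Q := ⟨_, h1, by simp⟩
    have h4 : (c ^ 7) ^ 4 = 1 := by
      rw [show (4 : ℕ) = 2 * 2 from rfl, pow_mul, pow_two (c ^ 7)]
      rcases (ctr_bigQ hS).sq_cases h2 with h3 | h3
      · rw [h3, one_pow]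
      · rw [h3, pow_two, (ctr_bigQ hS).zz]
    rw [hd, ← pow_mul, show 24 * 7 = 7 * 4 * 6 by norm_num, pow_mul, pow_mul, h4, one_pow]
  haveI : Fact (Nat.Prime 7) := ⟨by norm_num⟩
  have hdo : orderOf d = 7 := by
    refine orderOf_eq_prime hd7 fun e1 => ?_
    rw [show (⟨d, hdC⟩ : Subgroup.centralizer ({z} : Set G)) = 1 from Subtype.ext e1, QuotientGroup.mk_one,
      map_one] at hdimg
    have := orderOf_sig1
    rw [← hdimg, orderOf_one] at this
    norm_num at this
  obtain ⟨q, hq, hqd⟩ := exists_conj hS hL.prime hL.odd hL.order hL.mem hdo hdC (by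
    apply e.injective
    rw [hdimg, hL.img]
    rfl)
  have htd : t₀ * d * t₀⁻¹ = d⁻¹ := by rw [hd, ← conj_pow, hinv, inv_pow]
  refine ⟨q * t₀ * q⁻¹, mul_mem (mul_mem ((Subgroup.map_subtype_le Q) hq) ht₀)
    (inv_mem ((Subgroup.map_subtype_le Q) hq)), orderOf_eq_prime ?_ ?_, ?_⟩
  · rw [conj_pow, pow_two, htt]; group
  · intro e1
    have ht1 : t₀ = 1 := by
      have := congrArg (fun u => q⁻¹ * u * q) e1
      simpa [mul_assoc] using this
    rw [ht1] at htd
    simp only [one_mul, inv_one, mul_one] at htd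
    have h2 : d ^ 2 = 1 := by rw [pow_two]; nth_rewrite 2 [htd]; rw [mul_inv_cancel]
    have := orderOf_dvd_of_pow_eq_one h2
    rw [hdo] at this
    norm_num at this
  · calc q * t₀ * q⁻¹ * b * (q * t₀ * q⁻¹)⁻¹ = q * t₀ * (q⁻¹ * b * q) * t₀⁻¹ * q⁻¹ := by group
      _ = q * (t₀ * d * t₀⁻¹) * q⁻¹ := by rw [← hqd]; group
      _ = b⁻¹ := by rw [htd, ← hqd]; group

end Cfsg.Agent.LargeExtra.MonsterCent.Seven
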