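import Cfsg.Agent.Lib.LargeExtra.MonsterCent.SevenHeld
import Cfsg.Agent.Lib.LargeExtra.MonsterCent.SevenInvert
import Cfsg.Agent.Lib.LargeExtra.MonsterCent.LayerLift
import Cfsg.Agent.Lib.LargeExtra.Setting

/-!
The layer of the centralizer of the Sylow 7-subgroup contains the centralised part of the
extraspecial group, and an inverting involution acts on it by an outer automorphism.
-/

set_option autoImplicit false
set_option maxRecDepth 10000
set_option linter.unusedSectionVars false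

namespace Cfsg.Agent.LargeExtra.MonsterCent.Seven

open Subgroup Cfsg.Agent.Leech.Classes Cfsg.Agent.MonsterOrbits Cfsg.Agent.LargeExtra
  Cfsg.Agent.MonsterPair Cfsg.Agent.LeechAut.Basic
open scoped commutatorElement

variable {G : Type*} [Group G] [Finite G] {z : G}
  {Q : Subgroup (Subgroup.centralizer ({z} : Set G))} [Q.Normal]
  {e : (Subgroup.centralizer ({z} : Set G)) ⧸ Q ≃* Cfsg.Spor.Co1}
  {ψ : Cfsg.leechLattice → Q ⧸ Subgroup.center Q}

/-- The group generated by `b` is normal in its centralizer. -/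
theorem zpowers_normal (b : G) : ((Subgroup.zpowers b).subgroupOf (centB b)).Normal := by
  refine ⟨fun n hn x => ?_⟩
  rw [Subgroup.mem_subgroupOf] at hn ⊢
  obtain ⟨i, hi⟩ := hn
  change b ^ i = (n : G) at hi
  have hc : Commute (x : G) (b ^ i) := (show Commute (x : G) b from mem_centB.1 x.2).zpow_right i
  show (x : G) * n * (x : G)⁻¹ ∈ Subgroup.zpowers b
  rw [← hi, hc.eq, mul_inv_cancel_right]
  exact ⟨i, rfl⟩

theorem kap_mul (hψ : Cfsg.IsLeechModTwoIso Q e ψ) (x y : Q) :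
    kap hψ (x * y) = kap hψ x + kap hψ y := by
  obtain ⟨v, hv⟩ := class_surj (kap hψ x)
  obtain ⟨w, hw⟩ := class_surj (kap hψ y)
  rw [← hv, ← hw]
  refine (kap_eq hψ (v := v + w) ?_).trans rfl
  rw [hψ.1, psi_of_kap hψ hv.symm, psi_of_kap hψ hw.symm]
  rfl

theorem split_six : ∀ y : Fin 6 → ZMod 2, ∃ p q : Fin 6 → ZMod 2, p + q = y ∧
    (p 3 = 0 ∧ p 4 = 0 ∧ p 5 = 0) ∧ (q 0 = 0 ∧ q 1 = 0 ∧ q 2 = 0) := by decide +kernel

section

variable (hS : Cfsg.IsExtraspecialCentralizerSetting z Q 12)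
  (hψ : Cfsg.IsLeechModTwoIso Q e ψ) {b : G} (hL : Lifts e b sig 7)

include hS hψ hL

/-- The centralised part is generated by the conjugates of `z` in it. -/
theorem fixQ_le {N : Subgroup G} (hzN : z ∈ N)
    (h : ∀ x : Q, up x ∈ fixQ Q b → IsConj z (up x) → up x ≠ z → up x ∈ N) : fixQ Q b ≤ N := by
  intro r hr
  obtain ⟨hrC, hrQ⟩ := mem_bigQ.1 hr.1
  set rQ : Q := ⟨⟨r, hrC⟩, hrQ⟩
  obtain ⟨v, hv⟩ := class_surj (kap hψ rQ)
  obtain ⟨y, hy⟩ := exists_phi ((fix_iff hS hψ hL rQ hv.symm).1 hr)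
  obtain ⟨p, q, hpq, hp, hq⟩ := split_six y
  have hpart : ∀ s : Fin 6 → ZMod 2,
      ((s 3 = 0 ∧ s 4 = 0 ∧ s 5 = 0) ∨ (s 0 = 0 ∧ s 1 = 0 ∧ s 2 = 0)) →
      ∃ x : Q, up x ∈ N ∧ kap hψ x = phi s := by
    intro s hs
    by_cases h0 : s = 0
    · refine ⟨1, N.one_mem, ?_⟩
      rw [h0, map_zero]
      have h1 := kap_mul hψ 1 1
      rw [mul_one, left_eq_add] at h1
      exact h1
    · obtain ⟨x, hx⟩ := exists_of_class hψ (phi s)
      obtain ⟨h1, h2, h3⟩ := (class_iff hS hψ hL x).2 ⟨s, ⟨h0, hs⟩, hx.symm⟩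
      exact ⟨x, h x h1 h2 h3, hx⟩
  obtain ⟨x, hxN, hx⟩ := hpart p (Or.inl hp)
  obtain ⟨x', hxN', hx'⟩ := hpart q (Or.inr hq)
  have he : kap hψ (x * x') = kap hψ rQ := by
    rw [kap_mul hψ, hx, hx', ← map_add, hpq, ← hy, hv]
  have hm : up (x * x') ∈ N := N.mul_mem hxN hxN'
  show up rQ ∈ N
  rcases MonsterCent.center_cases hS hψ hL he with h1 | h1
  · rw [h1]; exact hm
  · rw [h1]; exact N.mul_mem hm hzN

/-- The layer contains `z` and the centralised part. -/
theorem fixQ_le_layer {s : G} (hs : s ∈ fixQ Q b) (hsc : IsConj z s) (hsz : s ≠ z) :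
    fixQ Q b ≤ (Cfsg.layer ↥(centB b)).map (centB b).subtype := by
  classical
  haveI hn := zpowers_normal b
  haveI : Fact (Nat.Prime 2) := ⟨Nat.prime_two⟩
  have hfuse : ∃ d ∈ centB b, d * z * d⁻¹ ∈ bigQ Q ∧ d * z * d⁻¹ ≠ z := by
    obtain ⟨d, hd, hde⟩ := exists_fuse hS hψ hL hs hsc hsz
    exact ⟨d, hd, by rw [hde]; exact hs.1, by rw [hde]; exact hsz⟩
  obtain ⟨R, hRn, hset, -, hmem⟩ := exists_setting hS hψ hL (w' := 3) (by norm_num) (card_fixed hS hψ hL)
    hfuse rho1 rho1_surjective rho1_ker (fun c k hk h => rho1_of_fix c k hk h) pCore_sl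
  haveI := hRn
  have H := ctr_bigQ hset
  obtain ⟨d, ⟨hdc, hdR⟩, hdz⟩ := hset.2.2.2.2
  have hdR' := mem_bigQ.2 ⟨hdc, hdR⟩
  have P := Pair.mk' H hdR' hdz
  have h32 : 32 ≤ Nat.card (bigQ R) := by rw [card_bigQ, hset.2.2.2.1]; norm_num
  have hLarge := Ctr.large_of_mem H P.h' hdR' hdz (P.z_mem' h32)
  have hnc : ∃ k l : centB b, ∃ x y : G,
      (k : G) * z * (k : G)⁻¹ = x ∧ (l : G) * z * (l : G)⁻¹ = y ∧ x ∈ fixQ Q b ∧ y ∈ fixQ Q b ∧ x * y ≠ y * x := by
    obtain ⟨k, hk, hke⟩ := exists_fuse hS hψ hL hs hsc hsz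
    by_contra hcon
    push Not at hcon
    have hle : fixQ Q b ≤ Subgroup.centralizer ({s} : Set G) := by
      refine fixQ_le hS hψ hL (mem_centralizer_singleton_iff.2 ((ctr_bigQ hS).comm hs.1).symm) ?_
      intro x hx hxc hxz
      obtain ⟨l, hl, hle'⟩ := exists_fuse hS hψ hL hx hxc hxz
      exact mem_centralizer_singleton_iff.2 (hcon ⟨k, hk⟩ ⟨l, hl⟩ s (up x) hke hle' hs hx).symm
    rcases fixQ_center hS hψ hL hs (fun x hx => mem_centralizer_singleton_iff.1 (hle hx)) with e1 | e1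
    · obtain ⟨g, hg⟩ := isConj_iff.1 hsc
      rw [e1, mul_inv_eq_one] at hg
      exact (ctr_bigQ hS).ne_one (mul_eq_left.1 hg)
    · exact hsz e1
  obtain ⟨k, l, x, y, hkx, hly, hxF, hyF, hxy⟩ := hnc
  have hker : (QuotientGroup.mk' ((Subgroup.zpowers b).subgroupOf (centB b))).ker ≤ Subgroup.center (centB b) := by
    rw [QuotientGroup.ker_mk']
    intro u hu
    obtain ⟨i, hi⟩ := Subgroup.mem_subgroupOf.1 hu
    change b ^ i = (u : G) at hi
    refine Subgroup.mem_center_iff.2 fun w => Subtype.ext ?_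
    show (w : G) * u = u * w
    rw [← hi]
    exact ((show Commute (w : G) b from mem_centB.1 w.2).zpow_right i).eq
  obtain ⟨u, hu, huz⟩ := exists_mem_layer (QuotientGroup.mk' ((Subgroup.zpowers b).subgroupOf (centB b)))
    (QuotientGroup.mk'_surjective _) hker H hLarge (zC := ⟨z, z_mem_centB hS hψ hL⟩) rfl
    ⟨QuotientGroup.mk' _ k, QuotientGroup.mk' _ l, fun h1 => by
      rw [QuotientGroup.mk'_apply, QuotientGroup.mk'_apply, ← QuotientGroup.mk_inv, ← QuotientGroup.mk_inv,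
        ← QuotientGroup.mk_mul, ← QuotientGroup.mk_mul, ← QuotientGroup.mk_mul, ← QuotientGroup.mk_mul,
        ← QuotientGroup.mk_mul, ← QuotientGroup.mk_mul] at h1
      have h2 := mk_eq_iff.1 h1
      refine hxy (eq_of_mk hS hψ hL (x := x * y) (y := y * x)
        (mul_mem (fixQ_le_centB hS hψ hL hxF) (fixQ_le_centB hS hψ hL hyF))
        (mul_mem (fixQ_le_centB hS hψ hL hyF) (fixQ_le_centB hS hψ hL hxF))
        (mul_mem (inv_mem (mul_mem hxF.1 hyF.1)) (mul_mem hyF.1 hxF.1)) (mk_eq_iff.2 ?_))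
      simpa [← hkx, ← hly, mul_assoc] using h2⟩
  have hzE : (⟨z, z_mem_centB hS hψ hL⟩ : centB b) ∈ Cfsg.layer (centB b) := by
    obtain ⟨i, hi⟩ := Subgroup.mem_subgroupOf.1 (QuotientGroup.eq.1 (huz : (QuotientGroup.mk u : quoB b) = QuotientGroup.mk _).symm)
    change b ^ i = z⁻¹ * (u : G) at hi
    have hu7 : (u : G) ^ 7 = z := by
      have hzb' : Commute z (b ^ i) :=
        (show Commute z b from (mem_centralizer_singleton_iff.1 hL.mem).symm).zpow_right i
      rw [show (u : G) = z * b ^ i by rw [hi]; group, hzb'.mul_pow, ← zpow_natCast (b ^ i), ← zpow_mul,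
        mul_comm, zpow_mul, zpow_natCast, show b ^ 7 = 1 from hL.order ▸ pow_orderOf_eq_one b, one_zpow,
        mul_one, pow_succ, show (6 : ℕ) = 2 * 3 from rfl, pow_mul, pow_two, (ctr_bigQ hS).zz, one_pow, one_mul]
    have : u ^ 7 = (⟨z, z_mem_centB hS hψ hL⟩ : centB b) := Subtype.ext (by simpa using hu7)
    rw [← this]
    exact pow_mem hu 7
  refine fixQ_le hS hψ hL ⟨_, hzE, rfl⟩ fun x hx hxc hxz => ?_
  obtain ⟨k, hk, hke⟩ := exists_fuse hS hψ hL hx hxc hxz
  exact ⟨⟨k, hk⟩ * ⟨z, z_mem_centB hS hψ hL⟩ * ⟨k, hk⟩⁻¹,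
    Subgroup.Normal.conj_mem inferInstance _ hzE _, hke⟩

/-- An element inverting `b` does not centralise the layer. -/
theorem not_centralise {s : G} (hs : s ∈ fixQ Q b) (hsc : IsConj z s) (hsz : s ≠ z) {u : G}
    (hu : u * b * u⁻¹ = b⁻¹)
    (huE : ∀ x ∈ (Cfsg.layer ↥(centB b)).map (centB b).subtype, u * x * u⁻¹ = x) : False := by
  have hle := fixQ_le_layer hS hψ hL hs hsc hsz
  have hfix : ∀ x ∈ fixQ Q b, u * x * u⁻¹ = x := fun x hx => huE x (hle hx)
  have huz := hfix z (z_mem_fixQ hS hψ hL)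
  have huC : u ∈ Subgroup.centralizer ({z} : Set G) :=
    mem_centralizer_singleton_iff.2 (mul_inv_eq_iff_eq_mul.1 huz)
  obtain ⟨k, hk⟩ := QuotientGroup.mk_surjective (s := Subgroup.center Cfsg.Co0)
    (e (QuotientGroup.mk ⟨u, huC⟩))
  have hfixk : ∀ v : Cfsg.leechLattice, cls (sig • v) = cls v → cls (k • v) = cls v := by
    intro v hv
    obtain ⟨q, hq⟩ := exists_of_class hψ (cls v)
    have hqF : up q ∈ fixQ Q b := (fix_iff hS hψ hL q hq).2 hv
    have h3 := hψ.2.2.2 ⟨u, huC⟩ k hk v q (psi_of_kap hψ hq)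
    rw [← kap_eq hψ h3, ← hq]
    exact congrArg (kap hψ) (Subtype.ext (Subtype.ext (hfix _ hqF)))
  have hsig : k * sig * k⁻¹ = sig ^ 6 := by
    have h1 : toCo1 (k * sig * k⁻¹) = toCo1 (sig ^ 6) := by
      rw [map_mul, map_mul, map_inv, map_pow, show toCo1 k = e (QuotientGroup.mk ⟨u, huC⟩) from hk,
        ← hL.img, ← map_inv, ← map_mul, ← map_mul, ← map_pow, ← QuotientGroup.mk_inv,
        ← QuotientGroup.mk_mul, ← QuotientGroup.mk_mul, ← QuotientGroup.mk_pow]
      refine congrArg (fun w => e (QuotientGroup.mk w)) (Subtype.ext ?_)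
      show u * b * u⁻¹ = b ^ 6
      rw [hu, inv_eq_iff_mul_eq_one, ← pow_succ']
      rw [show 6 + 1 = orderOf b from hL.order.symm, pow_orderOf_eq_one]
    have h2 : (k * sig * k⁻¹)⁻¹ * sig ^ 6 ∈ Subgroup.center Cfsg.Co0 := QuotientGroup.eq.1 h1
    rcases Cfsg.Agent.LeechAut.Cross.center_eq _ h2 with e1 | e1
    · exact inv_mul_eq_one.1 e1
    · exfalso
      rw [inv_mul_eq_iff_eq_mul] at e1
      have h7 : (k * sig * k⁻¹) ^ 7 = 1 := by rw [conj_pow, sig_pow_seven]; group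
      have h6 : (sig ^ 6 : Cfsg.Co0) ^ 7 = 1 := by rw [← pow_mul, mul_comm, pow_mul, sig_pow_seven, one_pow]
      rw [e1, (show Commute (k * sig * k⁻¹) negOne from negOne_comm _).mul_pow, h7, one_mul] at h6
      have hn2 : negOne ^ 2 = (1 : Cfsg.Co0) := by
        refine ext' fun v => ?_
        rw [pow_two, mul_smul, negOne_smul, negOne_smul, neg_neg, one_smul]
      rw [pow_succ, show (6 : ℕ) = 2 * 3 from rfl, pow_mul, hn2, one_pow, one_mul] at h6
      exact Cfsg.Agent.LeechAut.Cross.negOne_ne_one h6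
  refine no_six (g := k) ?_ (mul_inv_eq_iff_eq_mul.1 hsig)
  rw [← clsStab_frame]
  exact hfixk _ (phi_fixed (unit 0) _ frame_class)

/-- The index of the centralizer in the normalizer. -/
theorem relIndex_six :
    (centB b).relIndex (Subgroup.normalizer ((Subgroup.zpowers b : Subgroup G) : Set G)) = 6 := by
  set B := Subgroup.zpowers b
  have h7 : Nat.card B = 7 := by rw [Nat.card_zpowers, hL.order]
  haveI : Fact (Nat.Prime 7) := ⟨by norm_num⟩
  let N := Subgroup.normalizer (B : Set G)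
  let f : N →* MulAut B := B.normalizerMonoidHom
  have hf : Function.Surjective f := by
    intro φ
    obtain ⟨i, hi⟩ := (φ ⟨b, mem_zpowers b⟩).2
    change b ^ i = _ at hi
    set k := (i % 7).toNat with hk
    have hki : b ^ i = b ^ k := by
      have h0 : (0 : ℤ) ≤ i % 7 := Int.emod_nonneg i (by norm_num)
      rw [← zpow_natCast, hk, Int.toNat_of_nonneg h0, ← zpow_mod_orderOf b i, hL.order]
      rfl
    have hk7 : ¬ 7 ∣ k := by
      rintro ⟨j, hj⟩
      have h1 : φ ⟨b, mem_zpowers b⟩ = 1 := Subtype.ext (by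
        rw [← hi, hki, hj, pow_mul, show b ^ 7 = 1 from hL.order ▸ pow_orderOf_eq_one b, one_pow]; rfl)
      rw [map_eq_one_iff φ φ.injective] at h1
      have hb1 : b = 1 := congrArg Subtype.val h1
      have := hL.order
      rw [hb1, orderOf_one] at this
      norm_num at this
    obtain ⟨m, -, hmb⟩ := exists_inner_pow hS hψ hL hk7
    have hmB : B.map (MulAut.conj m).toMonoidHom = B := by
      refine Subgroup.eq_of_le_of_card_ge ?_ (Subgroup.card_map_of_injective (MulAut.conj m).injective).ge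
      rintro _ ⟨_, ⟨j, rfl⟩, rfl⟩
      show m * b ^ j * m⁻¹ ∈ B
      rw [← conj_zpow, hmb]
      exact Subgroup.zpow_mem _ (Subgroup.pow_mem _ (mem_zpowers b) k) j
    refine ⟨⟨m, Subgroup.mem_normalizer_iff_map_conj_eq.2 hmB⟩, ?_⟩
    refine MulEquiv.ext fun x => ?_
    obtain ⟨_, j, rfl⟩ := x
    have hbase : f ⟨m, Subgroup.mem_normalizer_iff_map_conj_eq.2 hmB⟩ ⟨b, mem_zpowers b⟩ = φ ⟨b, mem_zpowers b⟩ :=
      Subtype.ext (show m * b * m⁻¹ = _ by rw [hmb, ← hki, hi])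
    refine (congrArg _ (show (⟨_, _⟩ : B) = (⟨b, mem_zpowers b⟩ : B) ^ j from Subtype.ext (by simp))).trans ?_
    rw [map_zpow, hbase, ← map_zpow]
    exact congrArg φ (Subtype.ext (by simp))
  have hker : f.ker = (centB b).subgroupOf N := Subgroup.normalizerMonoidHom_ker B
  rw [Subgroup.relIndex, ← hker, Subgroup.index_ker, MonoidHom.range_eq_top.2 hf, Subgroup.card_top]
  haveI : IsCyclic B := isCyclic_of_prime_card h7
  rw [IsCyclic.card_mulAut, h7, Nat.totient_prime (by norm_num)]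

end

end Cfsg.Agent.LargeExtra.MonsterCent.Seven
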