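import Cfsg.Agent.Lib.LargeExtra.MonsterCent.SevenStab
import Cfsg.Agent.Lib.LargeExtra.Fischer.GLThree

/-!
The centralizer in the simple quotient of the image of the element of order seven is an extension of
the group it generates by the special linear group of dimension three over two elements, and every
automorphism of that cyclic group is induced.
-/

set_option autoImplicit false
set_option maxRecDepth 100000
set_option maxHeartbeats 4000000

namespace Cfsg.Agent.LargeExtra.MonsterCent.Seven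

open Cfsg Cfsg.Agent.Golay.Basic Cfsg.Agent.Leech.Basic Cfsg.Agent.Leech.Classes Cfsg.Agent.Leech.Mod2
  Cfsg.Agent.Leech.Index Cfsg.Agent.LeechAut.Gens Cfsg.Agent.LeechAut.Basic Cfsg.Agent.LeechAut.Cross
  Cfsg.Agent.LeechAut.Co1 Cfsg.Agent.LeechAut.Maximal
open scoped Pointwise Matrix

/-! ### The action on classes -/

/-- The action on classes. -/
def actC (g : Cfsg.Co0) : Cl →+ Cl :=
  QuotientAddGroup.map _ _ (actHom g) (by
    rintro _ ⟨u, rfl⟩
    exact ⟨g • u, (map_nsmul (actHom g) 2 u).symm⟩)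

theorem actC_cls (g : Cfsg.Co0) (v : leechLattice) : actC g (cls v) = cls (g • v) := rfl

theorem actC_mul (g h : Cfsg.Co0) (c : Cl) : actC (g * h) c = actC g (actC h c) := by
  induction c using QuotientAddGroup.induction_on with
  | H v => exact congrArg cls (mul_smul g h v)

theorem actC_one (c : Cl) : actC 1 c = c := by
  induction c using QuotientAddGroup.induction_on with
  | H v => exact congrArg cls (one_smul _ v)

theorem actC_inv (g : Cfsg.Co0) (c : Cl) : actC g⁻¹ (actC g c) = c := by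
  rw [← actC_mul, inv_mul_cancel, actC_one]

/-- The first triple. -/
def wv : (Fin 3 → ZMod 2) →+ (Fin 6 → ZMod 2) :=
  AddMonoidHom.mk' (fun y k => if h : k.1 < 3 then y ⟨k.1, h⟩ else 0) fun a b => by
    funext k
    by_cases h : k.1 < 3 <;> simp [h]

/-- The second triple. -/
def uv : (Fin 3 → ZMod 2) →+ (Fin 6 → ZMod 2) :=
  AddMonoidHom.mk' (fun y k => if h : 3 ≤ k.1 then y ⟨k.1 - 3, by omega⟩ else 0) fun a b => by
    funext k
    by_cases h : 3 ≤ k.1 <;> simp [h]

/-- The classes of the first span. -/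
def psiW : (Fin 3 → ZMod 2) →+ Cl := phi.comp wv

/-- The classes of the second span. -/
def psiU : (Fin 3 → ZMod 2) →+ Cl := phi.comp uv

theorem psiW_injective : Function.Injective psiW := by
  refine phi_injective.comp ?_
  intro a b h
  funext k
  have := congrFun h ⟨k.1, by omega⟩
  simpa [wv, AddMonoidHom.mk'_apply] using this

/-- The first unit vector. -/
def e0 : Fin 3 → ZMod 2 := ![1, 0, 0]

theorem wv_e0 : wv e0 = unit 0 := by decide +kernel

theorem frame_psiW : cls (frame none) = psiW e0 := by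
  rw [frame_class]
  show phi (unit 0) = phi (wv e0)
  rw [wv_e0]

/-- The matrix of `hEl`. -/
def hM : Matrix (Fin 3) (Fin 3) (ZMod 2) := !![1, 1, 1; 1, 0, 1; 1, 0, 0]
/-- The matrix of `er3`. -/
def r3M : Matrix (Fin 3) (Fin 3) (ZMod 2) := !![1, 0, 0; 0, 0, 1; 0, 1, 1]
/-- The matrix of `er2`. -/
def r2M : Matrix (Fin 3) (Fin 3) (ZMod 2) := !![1, 0, 0; 0, 0, 1; 0, 1, 0]
/-- The matrix of `ec1`. -/
def c1M : Matrix (Fin 3) (Fin 3) (ZMod 2) := !![1, 0, 1; 0, 1, 0; 0, 0, 1]
/-- The matrix of `tau` from the first triple to the second. -/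
def tauM : Matrix (Fin 3) (Fin 3) (ZMod 2) := !![1, 1, 0; 0, 0, 1; 0, 1, 1]

theorem act_test : ∀ y : Fin 3 → ZMod 2,
    half (hFun (repFun (wv y))) (repFun (wv (hM *ᵥ y))) = true ∧
    half (r3Fun (repFun (wv y))) (repFun (wv (r3M *ᵥ y))) = true ∧
    half (r2Fun (repFun (wv y))) (repFun (wv (r2M *ᵥ y))) = true ∧
    half (c1Fun (repFun (wv y))) (repFun (wv (c1M *ᵥ y))) = true ∧
    half (tauFun (repFun (wv y))) (repFun (uv (tauM *ᵥ y))) = true := by decide +kernel

theorem act_of_test {g : Cfsg.Co0} {F : Vec → Vec}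
    (hF : ∀ v : leechLattice, ((g • v : leechLattice) : Vec) = F (v : Vec))
    {x x' : Fin 6 → ZMod 2} (h : half (F (repFun x)) (repFun x') = true) :
    actC g (phi x) = phi x' := by
  rw [phi_eq, phi_eq, actC_cls]
  refine cls_of_half ?_
  rw [hF]
  exact h

theorem act_h (y : Fin 3 → ZMod 2) : actC hEl (psiW y) = psiW (hM *ᵥ y) :=
  act_of_test h_smul (act_test y).1
theorem act_r3 (y : Fin 3 → ZMod 2) : actC er3 (psiW y) = psiW (r3M *ᵥ y) :=
  act_of_test r3_smul (act_test y).2.1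
theorem act_r2 (y : Fin 3 → ZMod 2) : actC er2 (psiW y) = psiW (r2M *ᵥ y) :=
  act_of_test r2_smul (act_test y).2.2.1
theorem act_c1 (y : Fin 3 → ZMod 2) : actC ec1 (psiW y) = psiW (c1M *ᵥ y) :=
  act_of_test c1_smul (act_test y).2.2.2.1
theorem act_tau (y : Fin 3 → ZMod 2) : actC tau (psiW y) = psiU (tauM *ᵥ y) :=
  act_of_test tau_smul (act_test y).2.2.2.2

theorem orbit_h : ∀ y : Fin 3 → ZMod 2, y ≠ 0 → ∃ i : Fin 7, (hM ^ (i : ℕ)) *ᵥ e0 = y := by
  decide +kernel

theorem tauM_onto : ∀ y : Fin 3 → ZMod 2, y ≠ 0 → ∃ y', y' ≠ 0 ∧ tauM *ᵥ y' = y := by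
  decide +kernel

theorem act_h_pow (i : ℕ) : actC (hEl ^ i) (psiW e0) = psiW ((hM ^ i) *ᵥ e0) := by
  induction i with
  | zero => rw [pow_zero, actC_one, pow_zero, Matrix.one_mulVec]
  | succ i ih => rw [pow_succ', actC_mul, ih, act_h, pow_succ', Matrix.mulVec_mulVec]

theorem exists_h {y : Fin 3 → ZMod 2} (hy : y ≠ 0) :
    ∃ g : Cfsg.Co0, g * sig = sig * g ∧ actC g (psiW e0) = psiW y := by
  obtain ⟨i, hi⟩ := orbit_h y hy
  refine ⟨hEl ^ (i : ℕ), (Commute.pow_left h_sig _).eq, ?_⟩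
  rw [act_h_pow, hi]

theorem front_or_back : ∀ x : Fin 6 → ZMod 2,
    ((x 3 = 0 ∧ x 4 = 0 ∧ x 5 = 0) → ∃ y, wv y = x) ∧
    ((x 0 = 0 ∧ x 1 = 0 ∧ x 2 = 0) → ∃ y, uv y = x) := by decide +kernel

theorem clsStab_mem {g : Cfsg.Co0} (h : actC g (psiW e0) = psiW e0) : g ∈ crossStab := by
  rw [← MonsterPair.clsStab_frame]
  show cls (g • frame none) = cls (frame none)
  rw [← actC_cls, frame_psiW, h]

theorem sig_fix (y : Fin 3 → ZMod 2) : actC sig (psiW y) = psiW y := by
  show actC sig (phi (wv y)) = phi (wv y)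
  rw [phi_eq, actC_cls]
  exact phi_fixed (wv y) _ (phi_eq _).symm

/-- The orbit of the standard frame under the centralizer stays in the first span. -/
theorem orbit_first {g : Cfsg.Co0} (hg : g * sig = sig * g) : ∃ y, actC g (psiW e0) = psiW y := by
  have hfix : cls (sig • (g • frame none)) = cls (g • frame none) := by
    rw [← mul_smul, ← hg, mul_smul]
    refine MonsterPair.cls_smul g ?_
    rw [← actC_cls, frame_psiW, sig_fix]
  obtain ⟨x, hx⟩ := exists_phi hfix
  obtain ⟨hx0, h⟩ := (sixty_four_iff x).1 ⟨g • frame none, by rw [sqNorm_smul, sqNorm_frame], hx⟩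
  rcases h with h | h
  · obtain ⟨y, rfl⟩ := (front_or_back x).1 h
    exact ⟨y, by rw [← frame_psiW, actC_cls, hx]; rfl⟩
  · exfalso
    obtain ⟨y, rfl⟩ := (front_or_back x).2 h
    have hy : y ≠ 0 := fun e => hx0 (by rw [e, map_zero])
    obtain ⟨y', hy', hT⟩ := tauM_onto y hy
    obtain ⟨a, ha, hay⟩ := exists_h hy'
    have hk : actC ((tau * a)⁻¹ * g) (psiW e0) = psiW e0 := by
      have e : actC g (psiW e0) = actC (tau * a) (psiW e0) := by
        rw [actC_mul, hay, act_tau, hT, ← frame_psiW, actC_cls, hx]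
        rfl
      rw [actC_mul, e, actC_inv]
    refine no_three (clsStab_mem hk) ?_
    have ht : tau⁻¹ * sig = sig ^ 3 * tau⁻¹ := by
      rw [inv_mul_eq_iff_eq_mul, ← mul_assoc, tau_sig, mul_inv_cancel_right]
    have ha3 : a⁻¹ * sig ^ 3 = sig ^ 3 * a⁻¹ := ((Commute.pow_right ha 3).inv_left).eq
    calc (tau * a)⁻¹ * g * sig = a⁻¹ * (tau⁻¹ * sig) * g := by rw [mul_inv_rev, mul_assoc _ g, hg]; group
      _ = (a⁻¹ * sig ^ 3) * tau⁻¹ * g := by rw [ht]; group
      _ = sig ^ 3 * ((tau * a)⁻¹ * g) := by rw [ha3, mul_inv_rev]; group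

/-- The centralizer of the element. -/
abbrev C0 : Subgroup Cfsg.Co0 := Subgroup.centralizer ({sig} : Set Cfsg.Co0)

theorem exists_image (g : C0) (y : Fin 3 → ZMod 2) : ∃ y', actC g (psiW y) = psiW y' := by
  by_cases hy : y = 0
  · exact ⟨0, by rw [hy, map_zero, map_zero]⟩
  obtain ⟨a, ha, hay⟩ := exists_h hy
  obtain ⟨y', hy'⟩ := orbit_first (g := (g : Cfsg.Co0) * a) (by
    rw [mul_assoc, ha, ← mul_assoc, Subgroup.mem_centralizer_singleton_iff.1 g.2, mul_assoc])
  exact ⟨y', by rw [← hay, ← actC_mul, hy']⟩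

/-- The image on the first span. -/
noncomputable def imW (g : C0) : (Fin 3 → ZMod 2) →+ (Fin 3 → ZMod 2) :=
  AddMonoidHom.mk' (fun y => (exists_image g y).choose) fun a b => psiW_injective (by
    rw [← (exists_image g (a + b)).choose_spec, map_add psiW (exists_image g a).choose,
      ← (exists_image g a).choose_spec, ← (exists_image g b).choose_spec, map_add, map_add])

theorem imW_spec (g : C0) (y : Fin 3 → ZMod 2) : psiW (imW g y) = actC g (psiW y) :=
  (exists_image g y).choose_spec.symm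

/-- The matrix of an element of the centralizer. -/
noncomputable def matW (g : C0) : Matrix (Fin 3) (Fin 3) (ZMod 2) :=
  LinearMap.toMatrix' ((imW g).toZModLinearMap 2)

theorem matW_mulVec (g : C0) (y : Fin 3 → ZMod 2) : matW g *ᵥ y = imW g y := by
  rw [matW, LinearMap.toMatrix'_mulVec]
  rfl

theorem matW_eq {g : C0} {M : Matrix (Fin 3) (Fin 3) (ZMod 2)}
    (h : ∀ y, actC g (psiW y) = psiW (M *ᵥ y)) : matW g = M := by
  refine Matrix.ext_of_mulVec_single fun i => psiW_injective ?_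
  rw [matW_mulVec, imW_spec, h]

theorem matW_mul (g h : C0) : matW (g * h) = matW g * matW h := by
  refine matW_eq fun y => ?_
  rw [← Matrix.mulVec_mulVec, matW_mulVec g, imW_spec, matW_mulVec, imW_spec, ← actC_mul]
  rfl

theorem matW_one : matW 1 = 1 := matW_eq fun y => by
  rw [Matrix.one_mulVec]
  exact actC_one _

/-- The action on the first span. -/
noncomputable def rho : C0 →* Matrix.SpecialLinearGroup (Fin 3) (ZMod 2) :=
  MonoidHom.mk' (fun g => ⟨matW g, by
    have h : (matW g).det * (matW g⁻¹).det = 1 := by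
      rw [← Matrix.det_mul, ← matW_mul, mul_inv_cancel, matW_one, Matrix.det_one]
    have h2 : ∀ a b : ZMod 2, a * b = 1 → a = 1 := by decide
    exact h2 _ _ h⟩) fun g h => Subtype.ext (matW_mul g h)

theorem rho_coe (g : C0) : (rho g : Matrix (Fin 3) (Fin 3) (ZMod 2)) = matW g := rfl

theorem mem_C0 {g : Cfsg.Co0} (h : g * sig = sig * g) : g ∈ C0 :=
  Subgroup.mem_centralizer_singleton_iff.2 h

theorem orders :
    (hM ^ 7 = 1 ∧ hM ≠ 1) ∧ (r3M ^ 3 = 1 ∧ r3M ≠ 1) ∧
    ((r2M * c1M) ^ 4 = 1 ∧ (r2M * c1M) ^ 2 ≠ 1) := by decide +kernel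

theorem rho_surjective : Function.Surjective rho := by
  haveI := Fischer.sl3_simple
  rw [← MonoidHom.range_eq_top]
  set R := rho.range
  have key : ∀ (g : C0) (n : ℕ), orderOf (rho g) = n → n ∣ Nat.card R := by
    intro g n hn
    rw [← hn]
    have h := orderOf_injective R.subtype R.subtype_injective ⟨rho g, g, rfl⟩
    rw [Subgroup.coe_subtype] at h
    rw [h]
    exact orderOf_dvd_natCard _
  obtain ⟨⟨h7, h7'⟩, ⟨h3, h3'⟩, h4, h4'⟩ := orders
  have hord : ∀ {g : C0} {M : Matrix (Fin 3) (Fin 3) (ZMod 2)}, matW g = M →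
      ∀ k, rho g ^ k = 1 ↔ M ^ k = 1 := by
    intro g M hM k
    constructor
    · intro h
      have := congrArg (fun A : Matrix.SpecialLinearGroup (Fin 3) (ZMod 2) =>
        (A : Matrix (Fin 3) (Fin 3) (ZMod 2))) h
      simpa [rho_coe, hM] using this
    · intro h
      refine Subtype.ext ?_
      simpa [rho_coe, hM] using h
  have d7 : 7 ∣ Nat.card R := by
    have hm : matW ⟨hEl, mem_C0 h_sig⟩ = hM := matW_eq act_h
    refine key ⟨hEl, mem_C0 h_sig⟩ 7 (orderOf_eq_prime (hp := ⟨by norm_num⟩) ((hord hm 7).2 h7) fun e => ?_)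
    refine h7' ?_
    rw [← pow_one hM]
    exact (hord hm 1).1 (by rw [e, pow_one])
  have d3 : 3 ∣ Nat.card R := by
    have hm : matW ⟨er3, mem_C0 mono_sig.1⟩ = r3M := matW_eq act_r3
    refine key ⟨er3, mem_C0 mono_sig.1⟩ 3 (orderOf_eq_prime (hp := ⟨by norm_num⟩) ((hord hm 3).2 h3) fun e => ?_)
    refine h3' ?_
    rw [← pow_one r3M]
    exact (hord hm 1).1 (by rw [e, pow_one])
  have d4 : 4 ∣ Nat.card R := by
    let g : C0 := ⟨er2, mem_C0 mono_sig.2.1⟩ * ⟨ec1, mem_C0 mono_sig.2.2.1⟩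
    have hm : matW g = r2M * c1M := by
      rw [matW_mul, matW_eq (g := ⟨er2, _⟩) act_r2, matW_eq (g := ⟨ec1, _⟩) act_c1]
    refine key g 4 ?_
    exact orderOf_eq_prime_pow (p := 2) (n := 1) (hp := ⟨Nat.prime_two⟩)
      (fun e => h4' ((hord hm (2 ^ 1)).1 e)) ((hord hm (2 ^ (1 + 1))).2 h4)
  have hc : Nat.card (Matrix.SpecialLinearGroup (Fin 3) (ZMod 2)) = 168 := by
    rw [Nat.card_eq_fintype_card]
    decide +kernel
  have hdvd : Nat.card R ∣ 168 := hc ▸ Subgroup.card_subgroup_dvd_card R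
  have h84 : 84 ∣ Nat.card R := by omega
  have hmul := R.card_mul_index
  rw [hc] at hmul
  obtain ⟨m, hm⟩ := h84
  have hi : R.index = 1 ∨ R.index = 2 := by
    have : m * R.index = 2 := by nlinarith [hmul, hm]
    have hle : R.index ≤ 2 := Nat.le_of_dvd (by norm_num) ⟨m, by rw [mul_comm]; exact this.symm⟩
    have : R.index ≠ 0 := fun e => by rw [e, mul_zero] at this; norm_num at this
    omega
  rcases hi with hi | hi
  · exact Subgroup.index_eq_one.1 hi
  · haveI := Subgroup.normal_of_index_eq_two hi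
    rcases (IsSimpleGroup.eq_bot_or_eq_top_of_normal R inferInstance) with e | e
    · rw [e, Subgroup.card_bot] at d7
      norm_num at d7
    · exact e

theorem rho_eq_one {g : C0} (h : ∀ y, actC g (psiW y) = psiW y) : rho g = 1 :=
  Subtype.ext (matW_eq (M := 1) fun y => by rw [h, Matrix.one_mulVec])

theorem wv_units : wv ![0, 1, 0] = unit 1 ∧ wv ![0, 0, 1] = unit 2 := by decide +kernel

/-- The kernel of the action. -/
theorem rho_ker {g : C0} (h : rho g = 1) :
    ∃ i : ℕ, (g : Cfsg.Co0) = sig ^ i ∨ (g : Cfsg.Co0) = negOne * sig ^ i := by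
  have hfix : ∀ y, actC g (psiW y) = psiW y := by
    intro y
    rw [← imW_spec, ← matW_mulVec, ← rho_coe, h, Matrix.SpecialLinearGroup.coe_one, Matrix.one_mulVec]
  have h2 : ∀ (k : Fin 6) (y : Fin 3 → ZMod 2), wv y = unit k →
      cls ((g : Cfsg.Co0) • rep (unit k)) = cls (rep (unit k)) := by
    intro k y hy
    rw [← actC_cls, ← phi_eq, ← hy]
    exact hfix y
  exact stab_kernel (clsStab_mem (hfix e0)) (Subgroup.mem_centralizer_singleton_iff.1 g.2)
    (h2 1 _ wv_units.1) (h2 2 _ wv_units.2)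

/-! ### In the simple quotient -/

/-- The image of the element. -/
def sig1 : Cfsg.Spor.Co1 := MonsterPair.toCo1 sig

theorem orderOf_sig1 : orderOf sig1 = 7 := by
  haveI : Fact (Nat.Prime 7) := ⟨by norm_num⟩
  refine orderOf_eq_prime ?_ fun e => ?_
  · rw [sig1, ← map_pow, sig_pow_seven, map_one]
  · rcases center_eq sig ((QuotientGroup.eq_one_iff _).1 e) with h | h
    · exact sig_ne_one h
    · have := orderOf_sig
      rw [h] at this
      have h2 : negOne ^ 2 = (1 : Cfsg.Co0) := by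
        refine ext' fun v => ?_
        rw [pow_two, mul_smul, negOne_smul, negOne_smul, neg_neg, one_smul]
      have := this ▸ orderOf_dvd_of_pow_eq_one h2
      norm_num at this

theorem commute_of_commute {g : Cfsg.Co0}
    (h : MonsterPair.toCo1 g * sig1 = sig1 * MonsterPair.toCo1 g) : g * sig = sig * g := by
  rw [sig1, ← map_mul, ← map_mul] at h
  have hm : (g * sig)⁻¹ * (sig * g) ∈ Subgroup.center Cfsg.Co0 := (QuotientGroup.eq).1 h
  rcases center_eq _ hm with e | e
  · exact inv_mul_eq_one.1 e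
  · exfalso
    have e2 : g⁻¹ * sig * g = sig * negOne := by
      rw [inv_mul_eq_iff_eq_mul] at e
      calc g⁻¹ * sig * g = g⁻¹ * (sig * g) := by group
        _ = g⁻¹ * (g * sig * negOne) := by rw [e]
        _ = sig * negOne := by group
    have e3 : (g⁻¹ * sig * g) ^ 7 = 1 := by
      rw [show g⁻¹ * sig * g = g⁻¹ * sig * g⁻¹⁻¹ by rw [inv_inv], conj_pow, sig_pow_seven]
      group
    rw [e2, (show Commute sig negOne from negOne_comm sig).mul_pow, sig_pow_seven, one_mul] at e3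
    have h2 : negOne ^ 2 = (1 : Cfsg.Co0) := by
      refine ext' fun v => ?_
      rw [pow_two, mul_smul, negOne_smul, negOne_smul, neg_neg, one_smul]
    rw [pow_succ, show (6 : ℕ) = 2 * 3 from rfl, pow_mul, h2, one_pow, one_mul] at e3
    exact negOne_ne_one e3

/-- The centralizer of the image. -/
abbrev C1 : Subgroup Cfsg.Spor.Co1 := Subgroup.centralizer ({sig1} : Set Cfsg.Spor.Co1)

/-- The map onto the centralizer of the image. -/
def toC1 : C0 →* C1 :=
  (MonsterPair.toCo1.comp C0.subtype).codRestrict C1 fun g => by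
    rw [Subgroup.mem_centralizer_singleton_iff]
    show MonsterPair.toCo1 (g : Cfsg.Co0) * MonsterPair.toCo1 sig = MonsterPair.toCo1 sig * MonsterPair.toCo1 g
    rw [← map_mul, ← map_mul, Subgroup.mem_centralizer_singleton_iff.1 g.2]

theorem toC1_surjective : Function.Surjective toC1 := by
  rintro ⟨c, hc⟩
  obtain ⟨g, rfl⟩ := QuotientGroup.mk_surjective c
  exact ⟨⟨g, mem_C0 (commute_of_commute (Subgroup.mem_centralizer_singleton_iff.1 hc))⟩, rfl⟩

theorem negOne_fix (y : Fin 3 → ZMod 2) : actC negOne (psiW y) = psiW y := by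
  show actC negOne (phi (wv y)) = phi (wv y)
  rw [phi_eq, actC_cls, negOne_smul, cls_neg]

theorem toC1_ker : toC1.ker ≤ rho.ker := by
  intro g hg
  refine rho_eq_one fun y => ?_
  have : MonsterPair.toCo1 (g : Cfsg.Co0) = 1 := congrArg Subtype.val hg
  rcases center_eq _ ((QuotientGroup.eq_one_iff _).1 this) with e | e <;> rw [e]
  · exact actC_one _
  · exact negOne_fix y

/-- The action of the centralizer of the image. -/
noncomputable def rho1 : C1 →* Matrix.SpecialLinearGroup (Fin 3) (ZMod 2) :=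
  toC1.liftOfSurjective toC1_surjective ⟨rho, toC1_ker⟩

theorem rho1_toC1 (g : C0) : rho1 (toC1 g) = rho g :=
  MonoidHom.liftOfRightInverse_comp_apply toC1 _ (Function.rightInverse_surjInv toC1_surjective)
    ⟨rho, toC1_ker⟩ g

theorem rho1_surjective : Function.Surjective rho1 := by
  intro A
  obtain ⟨g, rfl⟩ := rho_surjective A
  exact ⟨toC1 g, rho1_toC1 g⟩

theorem rho1_ker (c : C1) : rho1 c = 1 ↔ (c : Cfsg.Spor.Co1) ∈ Subgroup.zpowers sig1 := by
  obtain ⟨g, rfl⟩ := toC1_surjective c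
  rw [rho1_toC1]
  constructor
  · intro h
    obtain ⟨i, e | e⟩ := rho_ker h
    · exact ⟨i, by show sig1 ^ (i : ℤ) = MonsterPair.toCo1 (g : Cfsg.Co0); rw [e, map_pow, zpow_natCast]; rfl⟩
    · refine ⟨i, ?_⟩
      show sig1 ^ (i : ℤ) = MonsterPair.toCo1 (g : Cfsg.Co0)
      rw [e, map_mul, map_pow, zpow_natCast,
        show MonsterPair.toCo1 negOne = 1 from (QuotientGroup.eq_one_iff _).2 negOne_central, one_mul]
      rfl
  · intro h
    obtain ⟨k, hk⟩ := h
    have hs : rho ⟨sig, mem_C0 rfl⟩ = 1 := rho_eq_one sig_fix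
    have e : toC1 g = toC1 (⟨sig, mem_C0 rfl⟩ ^ k) := by
      refine Subtype.ext ?_
      show MonsterPair.toCo1 (g : Cfsg.Co0) = MonsterPair.toCo1 ((⟨sig, mem_C0 rfl⟩ ^ k : C0) : Cfsg.Co0)
      rw [Subgroup.coe_zpow, map_zpow]
      exact hk.symm
    rw [← rho1_toC1, e, rho1_toC1, map_zpow, hs, one_zpow]

/-- An element fixing all the fixed classes acts trivially. -/
theorem rho1_of_fix (c : C1) (g : Cfsg.Co0) (hg : MonsterPair.toCo1 g = (c : Cfsg.Spor.Co1))
    (h : ∀ v : leechLattice, cls (sig • v) = cls v → cls (g • v) = cls v) : rho1 c = 1 := by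
  have hgC : g ∈ C0 := mem_C0 (commute_of_commute (by
    rw [hg]; exact Subgroup.mem_centralizer_singleton_iff.1 c.2))
  rw [show c = toC1 ⟨g, hgC⟩ from Subtype.ext hg.symm, rho1_toC1]
  refine rho_eq_one fun y => ?_
  show actC g (phi (wv y)) = phi (wv y)
  rw [phi_eq, actC_cls]
  exact h _ (phi_fixed (wv y) _ (phi_eq _).symm)

/-- Every automorphism of the cyclic group is induced. -/
theorem exists_conj_pow (k : ℕ) (hk : ¬ 7 ∣ k) :
    ∃ m : Cfsg.Spor.Co1, m * sig1 * m⁻¹ = sig1 ^ k := by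
  have h5 : tau * sig * tau⁻¹ = sig ^ 5 := by
    have e : tau * sig ^ 3 * tau⁻¹ = sig := by rw [tau_sig, mul_inv_cancel_right]
    calc tau * sig * tau⁻¹ = tau * (sig ^ 3) ^ 5 * tau⁻¹ := by
          rw [← pow_mul, pow_eq_pow_mod (3 * 5) sig_pow_seven]; norm_num
      _ = (tau * sig ^ 3 * tau⁻¹) ^ 5 := (conj_pow (i := 5)).symm
      _ = sig ^ 5 := by rw [e]
  have hn : ∀ n : ℕ, tau ^ n * sig * (tau ^ n)⁻¹ = sig ^ (5 ^ n) := by
    intro n
    induction n with
    | zero => simp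
    | succ n ih =>
      calc tau ^ (n + 1) * sig * (tau ^ (n + 1))⁻¹ = tau * (tau ^ n * sig * (tau ^ n)⁻¹) * tau⁻¹ := by
            rw [pow_succ']; group
        _ = tau * sig ^ (5 ^ n) * tau⁻¹ := by rw [ih]
        _ = (tau * sig * tau⁻¹) ^ (5 ^ n) := (conj_pow).symm
        _ = sig ^ (5 ^ (n + 1)) := by rw [h5, ← pow_mul, pow_succ']
  obtain ⟨n, hn7⟩ : ∃ n : ℕ, 5 ^ n % 7 = k % 7 := by
    have hlt : k % 7 < 7 := Nat.mod_lt _ (by norm_num)
    have hne : k % 7 ≠ 0 := fun e => hk (Nat.dvd_of_mod_eq_zero e)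
    have hall : ∀ r : ℕ, r < 7 → r ≠ 0 → ∃ n : Fin 6, 5 ^ (n : ℕ) % 7 = r := by decide +kernel
    obtain ⟨n, hn⟩ := hall _ hlt hne
    exact ⟨n, hn⟩
  refine ⟨MonsterPair.toCo1 (tau ^ n), ?_⟩
  rw [sig1, ← map_inv, ← map_mul, ← map_mul, hn, ← map_pow,
    pow_eq_pow_mod (5 ^ n) sig_pow_seven, hn7, ← pow_eq_pow_mod k sig_pow_seven]

end Cfsg.Agent.LargeExtra.MonsterCent.Seven
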