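import Cfsg.Agent.Lib.LargeExtra.MonsterCent.SevenQuot
import Cfsg.Agent.Lib.LargeExtra.MonsterCent.Section

/-!
A Sylow 7-subgroup of the centralizer of the involution and of a conjugate of it in the extraspecial
group: it is generated by a lift of the element of order seven, and its centralizer fuses the
involution with every conjugate of it in the centralised part of that group.
-/

set_option autoImplicit false
set_option maxRecDepth 10000
set_option linter.unusedSectionVars false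

namespace Cfsg.Agent.LargeExtra.MonsterCent.Seven

open Subgroup Cfsg.Agent.Leech.Classes Cfsg.Agent.MonsterOrbits Cfsg.Agent.LargeExtra
  Cfsg.Agent.LeechAut.Basic Cfsg.Agent.LeechAut.Cross Cfsg.Agent.LeechAut.Maximal
  Cfsg.Agent.LeechAut.Co1 Cfsg.Agent.MonsterPair
open scoped commutatorElement Pointwise

variable {G : Type*} [Group G] [Finite G] {z : G}
  {Q : Subgroup (Subgroup.centralizer ({z} : Set G))} [Q.Normal]
  {e : (Subgroup.centralizer ({z} : Set G)) ⧸ Q ≃* Cfsg.Spor.Co1}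
  {ψ : Cfsg.leechLattice → Q ⧸ Subgroup.center Q}

/-- Change of the identifications by an automorphism of the lattice. -/
theorem twist (hψ : Cfsg.IsLeechModTwoIso Q e ψ) (k₀ : Cfsg.Co0) :
    Cfsg.IsLeechModTwoIso Q (e.trans (MulAut.conj (toCo1 k₀))) (fun u => ψ (k₀⁻¹ • u)) := by
  refine ⟨fun a b => ?_, fun q => ?_, fun a => ?_, fun h k hk u q hq => ?_⟩
  · show ψ (k₀⁻¹ • (a + b)) = _
    rw [smul_add', hψ.1]
  · obtain ⟨u, hu⟩ := hψ.2.1 q
    exact ⟨k₀ • u, by show ψ (k₀⁻¹ • (k₀ • u)) = q; rw [inv_smul_smul, hu]⟩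
  · show ψ (k₀⁻¹ • a) = 1 ↔ _
    rw [hψ.2.2.1]
    constructor
    · rintro ⟨u, hu⟩
      exact ⟨k₀ • u, by rw [← smul_add', ← hu, smul_inv_smul]⟩
    · rintro ⟨u, rfl⟩
      exact ⟨k₀⁻¹ • u, smul_add' _ _ _⟩
  · have hk' : (QuotientGroup.mk (k₀⁻¹ * k * k₀) : Cfsg.Spor.Co1) = e (QuotientGroup.mk h) := by
      rw [QuotientGroup.mk_mul, QuotientGroup.mk_mul, hk, QuotientGroup.mk_inv]
      show _ * (toCo1 k₀ * e (QuotientGroup.mk h) * (toCo1 k₀)⁻¹) * _ = _
      simp [mul_assoc]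
    have := hψ.2.2.2 h (k₀⁻¹ * k * k₀) hk' (k₀⁻¹ • u) q hq
    show ψ (k₀⁻¹ • (k • u)) = _
    rw [← this, mul_smul, mul_smul, smul_inv_smul]

/-- The stabiliser of the cross in the simple quotient. -/
abbrev crossOne : Subgroup Cfsg.Spor.Co1 := crossStab.map toCo1

theorem card_crossOne : 2 * Nat.card crossOne = 4096 * 244823040 := by
  haveI := finite_Co0
  have hc : Nat.card crossStab = 4096 * 244823040 := by
    rw [← card_fixesCross]
    exact Nat.card_congr (Equiv.subtypeEquivRight fun g => Iff.rfl)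
  let f := toCo1.comp crossStab.subtype
  have hr : f.range = crossOne := by rw [MonoidHom.range_comp, Subgroup.range_subtype]
  have hk : Nat.card f.ker = 2 := by
    rw [← card_center]
    refine Nat.card_congr
      { toFun := fun x => ⟨(x.1 : Cfsg.Co0), (QuotientGroup.eq_one_iff _).1 x.2⟩
        invFun := fun x => ⟨⟨x.1, signSub_le (center_le_signSub x.2)⟩, (QuotientGroup.eq_one_iff _).2 x.2⟩
        left_inv := fun x => rfl
        right_inv := fun x => rfl }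
  have h2 := Subgroup.card_mul_index f.ker
  rw [Subgroup.index_ker, hr, hk, hc] at h2
  exact h2

theorem seven_crossOne : 7 ∣ Nat.card crossOne ∧ ¬ 49 ∣ Nat.card crossOne := by
  have h : Nat.card crossOne = 2048 * 244823040 := by have := card_crossOne; omega
  rw [h]
  norm_num

theorem factorization_seven {n : ℕ} (h : 7 ∣ n) (h' : ¬ 49 ∣ n) : n.factorization 7 = 1 := by
  have hn : n ≠ 0 := fun e => h' (e ▸ dvd_zero _)
  have h1 : 1 ≤ n.factorization 7 :=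
    (Nat.Prime.pow_dvd_iff_le_factorization (by norm_num) hn).1 (by simpa using h)
  have h2 : ¬ 2 ≤ n.factorization 7 := fun h2 =>
    h' (by simpa using (Nat.Prime.pow_dvd_iff_le_factorization (p := 7) (by norm_num) hn).2 h2)
  omega

theorem exists_frame (hS : Cfsg.IsExtraspecialCentralizerSetting z Q 12)
    (hψ : Cfsg.IsLeechModTwoIso Q e ψ) {x : G} (hxQ : x ∈ bigQ Q) (hx : IsConj z x) (hxz : x ≠ z) :
    ∃ (e' : (Subgroup.centralizer ({z} : Set G)) ⧸ Q ≃* Cfsg.Spor.Co1)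
      (ψ' : Cfsg.leechLattice → Q ⧸ Subgroup.center Q),
      Cfsg.IsLeechModTwoIso Q e' ψ' ∧ (imgC Q x).map e'.toMonoidHom = crossOne := by
  obtain ⟨hC, hQ⟩ := mem_bigQ.1 hxQ
  set xQ : Q := ⟨⟨x, hC⟩, hQ⟩
  obtain ⟨v, hv, hvx⟩ := ty_conj hS hψ (x := xQ) hx hxz
  obtain ⟨k, hk⟩ := Cfsg.Agent.LeechAut.Shells.transitive64 v (frame none) hv (sqNorm_frame none)
  refine ⟨_, _, twist hψ k, ?_⟩
  rw [show crossOne = (clsStab (frame none)).map toCo1 by rw [clsStab_frame]]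
  refine imgC_eq hS (twist hψ k) (x := xQ) (Ty.notMem_center hψ ⟨v, hv, hvx⟩ (by norm_num) le_rfl) ?_
  show ψ (k⁻¹ • frame none) = _
  rw [← hk, inv_smul_smul, hvx]

/-- The map of the centralizer of the pair onto the stabiliser of the cross. -/
theorem pair_map (e' : (Subgroup.centralizer ({z} : Set G)) ⧸ Q ≃* Cfsg.Spor.Co1) {x : G}
    (himg : (imgC Q x).map e'.toMonoidHom = crossOne) :
    ∃ f : ↥(Subgroup.centralizer ({z, x} : Set G)) →* crossOne, Function.Surjective f ∧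
      ∀ y : ↥(Subgroup.centralizer ({z, x} : Set G)), ∀ hy : (y : G) ∈ Subgroup.centralizer ({z} : Set G),
        (f y : Cfsg.Spor.Co1) = e' (QuotientGroup.mk ⟨y, hy⟩) := by
  have hle : Subgroup.centralizer ({z, x} : Set G) ≤ Subgroup.centralizer ({z} : Set G) :=
    Subgroup.centralizer_le (by simp)
  have hlx : Subgroup.centralizer ({z, x} : Set G) ≤ Subgroup.centralizer ({x} : Set G) :=
    Subgroup.centralizer_le (by simp)
  let f0 := (e'.toMonoidHom.comp (QuotientGroup.mk' Q)).comp (Subgroup.inclusion hle)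
  have hr : ∀ y, f0 y ∈ crossOne := fun y => by
    rw [← himg]
    exact ⟨_, ⟨⟨(y : G), hle y.2⟩, Subgroup.mem_subgroupOf.2 ⟨hle y.2, hlx y.2⟩, rfl⟩, rfl⟩
  refine ⟨f0.codRestrict _ hr, fun c => ?_, fun y hy => rfl⟩
  obtain ⟨c, hc⟩ := c
  rw [← himg] at hc
  obtain ⟨_, ⟨y, hy, rfl⟩, rfl⟩ := hc
  obtain ⟨hy1, hy2⟩ := Subgroup.mem_subgroupOf.1 hy
  refine ⟨⟨(y : G), mem_centralizer_iff.2 ?_⟩, Subtype.ext rfl⟩
  rintro u (rfl | rfl)
  · exact (mem_centralizer_singleton_iff.1 hy1).symm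
  · exact (mem_centralizer_singleton_iff.1 hy2).symm

theorem seven_pair (hS : Cfsg.IsExtraspecialCentralizerSetting z Q 12)
    (hψ : Cfsg.IsLeechModTwoIso Q e ψ) {x : G} (hxQ : x ∈ bigQ Q) (hx : IsConj z x) (hxz : x ≠ z) :
    (Nat.card ↥(Subgroup.centralizer ({z, x} : Set G))).factorization 7 = 1 := by
  obtain ⟨e', ψ', -, himg⟩ := exists_frame hS hψ hxQ hx hxz
  obtain ⟨f, hf, hfe⟩ := pair_map e' himg
  have h2 : IsPGroup 2 f.ker := by
    intro y
    have hC : ((y : ↥(Subgroup.centralizer ({z, x} : Set G))) : G) ∈ Subgroup.centralizer ({z} : Set G) :=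
      Subgroup.centralizer_le (by simp) y.1.2
    have h1 : e' (QuotientGroup.mk ⟨_, hC⟩) = 1 := by
      rw [← hfe y.1 hC, show f y.1 = 1 from y.2]; rfl
    rw [map_eq_one_iff e' e'.injective, QuotientGroup.eq_one_iff] at h1
    obtain ⟨k, hk⟩ := hS.2.2.1.1.1 ⟨_, h1⟩
    refine ⟨k, Subtype.ext (Subtype.ext ?_)⟩
    exact congrArg (fun u : Q => up u) hk
  haveI : Fact (Nat.Prime 2) := ⟨Nat.prime_two⟩
  obtain ⟨n, hn⟩ := IsPGroup.iff_card.1 h2
  have hc := Subgroup.card_mul_index f.ker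
  rw [Subgroup.index_ker, MonoidHom.range_eq_top.2 hf, Subgroup.card_top, hn] at hc
  have hpos : Nat.card crossOne ≠ 0 := fun e => seven_crossOne.2 (e ▸ dvd_zero _)
  have h7 : (2 ^ n).factorization 7 = 0 := by
    refine Nat.factorization_eq_zero_of_not_dvd fun h => ?_
    have := (Nat.prime_dvd_prime_iff_eq (by norm_num) Nat.prime_two).1
      ((by norm_num : Nat.Prime 7).dvd_of_dvd_pow h)
    norm_num at this
  rw [← hc, Nat.factorization_mul (by positivity) hpos, Finsupp.add_apply, h7,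
    factorization_seven seven_crossOne.1 seven_crossOne.2]

theorem not_dvd_pow {j : ℕ} (h : j % 7 ≠ 0) : ¬ 7 ∣ j := fun hd => h (Nat.mod_eq_zero_of_dvd hd)

/-- The identifications can be chosen so that the subgroup lies over the element of order seven. -/
theorem exists_lifts (hS : Cfsg.IsExtraspecialCentralizerSetting z Q 12)
    (hψ : Cfsg.IsLeechModTwoIso Q e ψ) {x : G} (hxQ : x ∈ bigQ Q) (hx : IsConj z x) (hxz : x ≠ z)
    {B : Subgroup G} (hB : B ≤ Subgroup.centralizer ({z, x} : Set G)) (hB7 : Nat.card B = 7) :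
    ∃ (e' : (Subgroup.centralizer ({z} : Set G)) ⧸ Q ≃* Cfsg.Spor.Co1)
      (ψ' : Cfsg.leechLattice → Q ⧸ Subgroup.center Q) (b : G),
      Cfsg.IsLeechModTwoIso Q e' ψ' ∧ Lifts e' b sig 7 ∧ B = Subgroup.zpowers b := by
  haveI : Fact (Nat.Prime 7) := ⟨by norm_num⟩
  obtain ⟨e₁, ψ₁, hψ₁, himg⟩ := exists_frame hS hψ hxQ hx hxz
  obtain ⟨f, -, hfe⟩ := pair_map e₁ himg
  obtain ⟨b₀, hb₀⟩ := exists_prime_orderOf_dvd_card' (G := B) 7 (by rw [hB7])
  have hbo : orderOf (b₀ : G) = 7 := (Subgroup.orderOf_coe b₀).trans hb₀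
  have hBz : B = Subgroup.zpowers (b₀ : G) := by
    symm
    exact Subgroup.eq_of_le_of_card_ge (Subgroup.zpowers_le.2 b₀.2) (by rw [hB7, Nat.card_zpowers, hbo])
  have hbC : (b₀ : G) ∈ Subgroup.centralizer ({z} : Set G) :=
    Subgroup.centralizer_le (by simp) (hB b₀.2)
  set c : crossOne := f ⟨b₀, hB b₀.2⟩ with hc
  have hce : (c : Cfsg.Spor.Co1) = e₁ (QuotientGroup.mk ⟨b₀, hbC⟩) := hfe _ hbC
  have hco : orderOf c = 7 := by
    rw [← Subgroup.orderOf_coe, hce]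
    have h7 : (e₁ (QuotientGroup.mk ⟨(b₀ : G), hbC⟩)) ^ 7 = 1 := by
      rw [← map_pow, ← QuotientGroup.mk_pow]
      have : (⟨(b₀ : G), hbC⟩ : Subgroup.centralizer ({z} : Set G)) ^ 7 = 1 :=
        Subtype.ext (by show (b₀ : G) ^ 7 = 1; rw [← hbo, pow_orderOf_eq_one])
      rw [this, QuotientGroup.mk_one, map_one]
    refine orderOf_eq_prime h7 fun e1 => ?_
    rw [map_eq_one_iff e₁ e₁.injective, QuotientGroup.eq_one_iff] at e1
    exact not_mem_Q hS (by norm_num) (by norm_num) hbo hbC e1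
  haveI := finite_Co0
  haveI : Finite crossOne := inferInstance
  let s : crossOne := ⟨sig1, Subgroup.mem_map_of_mem toCo1 mem_crossStab_sig⟩
  have hso : orderOf s = 7 := (Subgroup.orderOf_coe s).symm.trans orderOf_sig1
  have hsyl : ∀ u : crossOne, orderOf u = 7 →
      ∃ P : Sylow 7 crossOne, (P : Subgroup crossOne) = Subgroup.zpowers u := by
    intro u hu
    refine ⟨Sylow.ofCard (Subgroup.zpowers u) ?_, rfl⟩
    rw [Nat.card_zpowers, hu, factorization_seven seven_crossOne.1 seven_crossOne.2, pow_one]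
  obtain ⟨P, hP⟩ := hsyl s hso
  obtain ⟨P', hP'⟩ := hsyl c hco
  obtain ⟨k, hkP⟩ := MulAction.exists_smul_eq crossOne P' P
  have hmem : s ∈ Subgroup.zpowers (k * c * k⁻¹) := by
    have h1 : s ∈ (P : Subgroup crossOne) := by rw [hP]; exact mem_zpowers s
    rw [← hkP, Sylow.coe_subgroup_smul, hP', Subgroup.mem_pointwise_smul_iff_inv_smul_mem, ← map_inv,
      MulAut.smul_def, MulAut.conj_apply] at h1
    obtain ⟨i, hi⟩ := h1
    refine ⟨i, ?_⟩
    show (k * c * k⁻¹) ^ i = s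
    rw [conj_zpow]
    change c ^ i = _ at hi
    rw [hi]; group
  obtain ⟨i, hi⟩ := hmem
  obtain ⟨k₀, hk₀⟩ := QuotientGroup.mk_surjective (s := Subgroup.center Cfsg.Co0) (k : Cfsg.Spor.Co1)
  refine ⟨_, _, (b₀ : G) ^ i, twist hψ₁ k₀, ⟨by norm_num, by norm_num, ?_, zpow_mem hbC i, ?_⟩, ?_⟩
  · have hne : (b₀ : G) ^ i ≠ 1 := by
      intro e1
      have hd : (7 : ℤ) ∣ i := by
        have := orderOf_dvd_iff_zpow_eq_one.2 e1
        rwa [hbo] at this
      have h1 : c ^ i = 1 := orderOf_dvd_iff_zpow_eq_one.1 (by rw [hco]; exact_mod_cast hd)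
      have hs1 : s = 1 := by
        rw [← hi]
        show (k * c * k⁻¹) ^ i = 1
        rw [conj_zpow, h1]; group
      rw [hs1, orderOf_one] at hso
      norm_num at hso
    refine orderOf_eq_prime ?_ hne
    have h7 : (b₀ : G) ^ 7 = 1 := by rw [← hbo, pow_orderOf_eq_one]
    rw [← zpow_natCast, ← zpow_mul, mul_comm, zpow_mul, zpow_natCast, h7, one_zpow]
  · show toCo1 k₀ * e₁ (QuotientGroup.mk ⟨(b₀ : G) ^ i, _⟩) * (toCo1 k₀)⁻¹ = toCo1 sig
    have e1 : e₁ (QuotientGroup.mk (⟨(b₀ : G) ^ i, zpow_mem hbC i⟩ : Subgroup.centralizer ({z} : Set G))) =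
        (c : Cfsg.Spor.Co1) ^ i := by
      rw [hce, ← map_zpow, ← QuotientGroup.mk_zpow]
      exact congrArg (fun u => e₁ (QuotientGroup.mk u)) (Subtype.ext (by simp))
    rw [e1, show toCo1 k₀ = (k : Cfsg.Spor.Co1) from hk₀, ← conj_zpow]
    exact (congrArg (fun u : crossOne => (u : Cfsg.Spor.Co1)) hi)
  · refine hBz.trans ?_
    refine (Subgroup.eq_of_le_of_card_ge (Subgroup.zpowers_le.2 (Subgroup.zpow_mem _ (mem_zpowers (b₀ : G)) i)) ?_).symm
    rw [Nat.card_zpowers, Nat.card_zpowers, hbo]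
    have hne : orderOf ((b₀ : G) ^ i) ≠ 1 := by
      intro e1
      have h1 : (b₀ : G) ^ i = 1 := orderOf_eq_one_iff.1 e1
      have hd : (7 : ℤ) ∣ i := by
        have := orderOf_dvd_iff_zpow_eq_one.2 h1
        rwa [hbo] at this
      have h2 : c ^ i = 1 := orderOf_dvd_iff_zpow_eq_one.1 (by rw [hco]; exact_mod_cast hd)
      have hs1 : s = 1 := by
        rw [← hi]
        show (k * c * k⁻¹) ^ i = 1
        rw [conj_zpow, h2]; group
      rw [hs1, orderOf_one] at hso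
      norm_num at hso
    have hd : orderOf ((b₀ : G) ^ i) ∣ 7 := by
      refine orderOf_dvd_of_pow_eq_one ?_
      have h7 : (b₀ : G) ^ 7 = 1 := by rw [← hbo, pow_orderOf_eq_one]
      rw [← zpow_natCast, ← zpow_mul, mul_comm, zpow_mul, zpow_natCast, h7, one_zpow]
    rcases (Nat.dvd_prime (by norm_num : Nat.Prime 7)).1 hd with h | h <;> omega

section

variable (hS : Cfsg.IsExtraspecialCentralizerSetting z Q 12)
  (hψ : Cfsg.IsLeechModTwoIso Q e ψ) {b : G} (hL : Lifts e b sig 7)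

include hS hψ hL

/-- All automorphisms of the group generated by `b` are induced in the centralizer of `z`. -/
theorem exists_inner_pow {k : ℕ} (hk : ¬ 7 ∣ k) :
    ∃ m ∈ Subgroup.centralizer ({z} : Set G), m * b * m⁻¹ = b ^ k := by
  obtain ⟨m, hm⟩ := exists_conj_pow k hk
  obtain ⟨c, rfl⟩ := e.surjective m
  obtain ⟨h, hh, -, hhb⟩ := exists_lift hS hL.prime hL.odd hL.order hL.mem hk (c := c) (by
    apply e.injective
    rw [map_mul, map_mul, map_inv, map_pow, hL.img]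
    exact hm)
  exact ⟨h, hh, hhb⟩

/-- The centralizer of `b` moves `z` to every conjugate of it in the centralised part. -/
theorem exists_fuse {x : G} (hx : x ∈ fixQ Q b) (hxc : IsConj z x) (hxz : x ≠ z) :
    ∃ d ∈ centB b, d * z * d⁻¹ = x := by
  haveI : Fact (Nat.Prime 7) := ⟨by norm_num⟩
  have H := ctr_bigQ hS
  obtain ⟨g, hg⟩ := isConj_iff.1 hxc
  have hgQ : g * z * g⁻¹ ∈ bigQ Q := hg.symm ▸ hx.1
  have P := Pair.mk' H hgQ (by rw [hg]; exact hxz)
  have h32 : 32 ≤ Nat.card (bigQ Q) := by rw [card_bigQ, hS.2.2.2.1]; norm_num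
  obtain ⟨y, hy, hye⟩ := P.z_mem' h32
  have hye' : g * y * g⁻¹ = z := hye
  have hy' : y = g⁻¹ * z * g := by rw [← hye']; group
  have hyz : y ≠ z := by
    intro e1
    rw [e1] at hye'
    exact hxz (hg.symm.trans hye')
  obtain ⟨hyC, hyQ⟩ := mem_bigQ.1 hy
  obtain ⟨hxC, hxQ⟩ := mem_bigQ.1 hx.1
  have hyc : IsConj z y := isConj_iff.2 ⟨g⁻¹, by rw [inv_inv, hy']⟩
  obtain ⟨h, hh, hhe⟩ := conj_of_ty hS hψ (x := ⟨⟨y, hyC⟩, hyQ⟩) (y := ⟨⟨x, hxC⟩, hxQ⟩)
    (Or.inr (Or.inr rfl)) (ty_conj hS hψ (x := ⟨⟨y, hyC⟩, hyQ⟩) hyc hyz)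
    (ty_conj hS hψ (x := ⟨⟨x, hxC⟩, hxQ⟩) hxc hxz)
  change h * y * h⁻¹ = x at hhe
  set t := g * h⁻¹ with ht
  have htz : t * z * t⁻¹ = x := by
    have hz' : h⁻¹ * z * h = z := by
      rw [mul_assoc, ← mem_centralizer_singleton_iff.1 hh, inv_mul_cancel_left]
    calc t * z * t⁻¹ = g * (h⁻¹ * z * h) * g⁻¹ := by rw [ht]; group
      _ = x := by rw [hz', hg]
  have htx : t * x * t⁻¹ = z := by
    calc t * x * t⁻¹ = g * (h⁻¹ * x * h) * g⁻¹ := by rw [ht]; group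
      _ = g * y * g⁻¹ := by rw [← hhe]; group
      _ = z := hye'
  set L := Subgroup.centralizer ({z, x} : Set G)
  have hbL : b ∈ L := by
    refine mem_centralizer_iff.2 ?_
    rintro u (rfl | rfl)
    · exact (mem_centralizer_singleton_iff.1 hL.mem).symm
    · exact mem_centralizer_singleton_iff.1 hx.2
  have hbL' : t * b * t⁻¹ ∈ L := by
    refine mem_centralizer_iff.2 ?_
    rintro u (rfl | rfl)
    · rw [← htx]
      calc t * x * t⁻¹ * (t * b * t⁻¹) = t * (x * b) * t⁻¹ := by group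
        _ = t * (b * x) * t⁻¹ := by rw [mem_centralizer_singleton_iff.1 hx.2]
        _ = t * b * t⁻¹ * (t * x * t⁻¹) := by group
    · rw [← htz]
      calc t * z * t⁻¹ * (t * b * t⁻¹) = t * (z * b) * t⁻¹ := by group
        _ = t * (b * z) * t⁻¹ := by rw [mem_centralizer_singleton_iff.1 hL.mem]
        _ = t * b * t⁻¹ * (t * z * t⁻¹) := by group
  have hsyl : ∀ u : L, orderOf u = 7 → ∃ P : Sylow 7 L, (P : Subgroup L) = Subgroup.zpowers u := by
    intro u hu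
    refine ⟨Sylow.ofCard (Subgroup.zpowers u) ?_, rfl⟩
    rw [Nat.card_zpowers, hu, seven_pair hS hψ hx.1 hxc hxz, pow_one]
  have hob : orderOf (t * b * t⁻¹) = 7 := by
    rw [← hL.order]
    exact orderOf_injective (MulAut.conj t).toMonoidHom (MulAut.conj t).injective b
  obtain ⟨P₁, hP₁⟩ := hsyl ⟨b, hbL⟩ ((Subgroup.orderOf_coe _).symm.trans hL.order)
  obtain ⟨P₂, hP₂⟩ := hsyl ⟨_, hbL'⟩ ((Subgroup.orderOf_coe _).symm.trans hob)
  obtain ⟨l, hlP⟩ := MulAction.exists_smul_eq L P₂ P₁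
  have hmem : l * ⟨t * b * t⁻¹, hbL'⟩ * l⁻¹ ∈ (P₁ : Subgroup L) := by
    rw [← hlP, Sylow.coe_subgroup_smul, Subgroup.mem_pointwise_smul_iff_inv_smul_mem, ← map_inv,
      MulAut.smul_def, MulAut.conj_apply, hP₂]
    convert mem_zpowers (⟨t * b * t⁻¹, hbL'⟩ : L) using 1
    group
  rw [hP₁] at hmem
  obtain ⟨i, hi⟩ := hmem
  set n := (l : G) * t with hn
  have hnb : n * b * n⁻¹ = b ^ i := by
    have := congrArg (fun u : L => (u : G)) hi
    simp only [Subgroup.coe_zpow, Subgroup.coe_mul, Subgroup.coe_inv] at this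
    rw [this, hn]; group
  obtain ⟨hlz, hlx⟩ : (l : G) * z = z * l ∧ (l : G) * x = x * l :=
    ⟨(mem_centralizer_iff.1 l.2 z (by simp)).symm, (mem_centralizer_iff.1 l.2 x (by simp)).symm⟩
  have hnz : n * z * n⁻¹ = x := by
    calc n * z * n⁻¹ = (l : G) * (t * z * t⁻¹) * (l : G)⁻¹ := by rw [hn]; group
      _ = x := by rw [htz, hlx, mul_inv_cancel_right]
  -- compensate the automorphism
  set k := (i % 7).toNat with hk
  have hki : b ^ i = b ^ k := by
    have h0 : (0 : ℤ) ≤ i % 7 := Int.emod_nonneg i (by norm_num)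
    rw [← zpow_natCast, hk, Int.toNat_of_nonneg h0, ← zpow_mod_orderOf b i, hL.order]
    rfl
  have hk0 : ¬ 7 ∣ k := by
    intro hd
    obtain ⟨j, hj⟩ := hd
    have h1 : b ^ i = 1 := by
      rw [hki, hj, pow_mul, show b ^ 7 = 1 from hL.order ▸ pow_orderOf_eq_one b, one_pow]
    rw [h1, mul_inv_eq_one] at hnb
    have hb1 : b = 1 := mul_eq_left.1 hnb
    have := hL.order
    rw [hb1, orderOf_one] at this
    norm_num at this
  have hlt : k % 7 < 7 := Nat.mod_lt _ (by norm_num)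
  obtain ⟨j, hjk⟩ : ∃ j : Fin 7, k * (j : ℕ) % 7 = 1 := by
    have hall : ∀ r : ℕ, r < 7 → r ≠ 0 → ∃ j : Fin 7, r * (j : ℕ) % 7 = 1 := by decide
    obtain ⟨j, hj⟩ := hall _ hlt (fun e1 => hk0 (Nat.dvd_of_mod_eq_zero e1))
    exact ⟨j, by rw [Nat.mul_mod]; rwa [Nat.mul_mod, Nat.mod_mod] at hj⟩
  obtain ⟨m, hm, hmb⟩ := exists_inner_pow hS hψ hL (k := j) (fun hd => by
    obtain ⟨q, hq⟩ := hd
    rw [hq, show k * (7 * q) = 7 * (k * q) by ring] at hjk
    omega)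
  refine ⟨n * m, mem_centB.2 (mul_inv_eq_iff_eq_mul.1 ?_), ?_⟩
  · calc n * m * b * (n * m)⁻¹ = n * (m * b * m⁻¹) * n⁻¹ := by group
      _ = (n * b * n⁻¹) ^ (j : ℕ) := by rw [hmb, conj_pow]
      _ = b := by
        rw [hnb, hki, ← pow_mul, ← pow_mod_orderOf, hL.order, hjk, pow_one]
  · calc n * m * z * (n * m)⁻¹ = n * (m * z * m⁻¹) * n⁻¹ := by group
      _ = x := by rw [mem_centralizer_singleton_iff.1 hm, mul_inv_cancel_right, hnz]

/-- The fixed classes, as a set of 64 elements. -/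
theorem card_fixed : Nat.card {c : MonsterCent.Cls // ∃ v, cls v = c ∧ cls (sig • v) = cls v} = 2 ^ (2 * 3) := by
  let f : (Fin 6 → ZMod 2) → {c : MonsterCent.Cls // ∃ v, cls v = c ∧ cls (sig • v) = cls v} := fun x =>
    ⟨phi x, rep x, (phi_eq x).symm, phi_fixed x _ (phi_eq x).symm⟩
  rw [← Nat.card_eq_of_bijective f ⟨fun a b h => phi_injective (congrArg Subtype.val h), ?_⟩,
    Nat.card_eq_fintype_card, Fintype.card_fun, Fintype.card_fin, ZMod.card]
  rintro ⟨c, v, rfl, hv⟩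
  obtain ⟨x, hx⟩ := exists_phi hv
  exact ⟨x, Subtype.ext hx.symm⟩

theorem class_iff (x : Q) :
    (up x ∈ fixQ Q b ∧ IsConj z (up x) ∧ up x ≠ z) ↔
      kap hψ x ∈ phi '' {y | y ≠ 0 ∧ ((y 3 = 0 ∧ y 4 = 0 ∧ y 5 = 0) ∨ (y 0 = 0 ∧ y 1 = 0 ∧ y 2 = 0))} := by
  constructor
  · rintro ⟨h1, h2, h3⟩
    obtain ⟨v, hv, hvx⟩ := ty_conj hS hψ (x := x) h2 h3
    have hk := kap_eq hψ hvx
    obtain ⟨y, hy⟩ := exists_phi ((fix_iff hS hψ hL x hk).1 h1)
    exact ⟨y, (sixty_four_iff y).1 ⟨v, hv, hy⟩, by rw [hk, hy]⟩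
  · rintro ⟨y, hy, he⟩
    obtain ⟨v, hv, hc⟩ := (sixty_four_iff y).2 hy
    have hk : kap hψ x = cls v := he.symm.trans hc.symm
    refine ⟨(fix_iff hS hψ hL x hk).2 (phi_fixed y v hc), ?_, ?_⟩
    · obtain ⟨g, ⟨hgc, hgQ⟩, hgz⟩ := hS.2.2.2.2
      obtain ⟨h, -, he'⟩ := conj_of_ty hS hψ (x := ⟨⟨g * z * g⁻¹, hgc⟩, hgQ⟩) (y := x) (Or.inr (Or.inr rfl))
        (ty_conj hS hψ (x := ⟨⟨g * z * g⁻¹, hgc⟩, hgQ⟩) (isConj_iff.2 ⟨g, rfl⟩) hgz) ⟨v, hv, psi_of_kap hψ hk⟩
      show IsConj z ((x : Subgroup.centralizer ({z} : Set G)) : G)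
      rw [← he']
      exact (isConj_iff.2 ⟨g, rfl⟩).trans (isConj_iff.2 ⟨h, rfl⟩)
    · intro e1
      exact Ty.notMem_center hψ ⟨v, hv, psi_of_kap hψ hk⟩ (by norm_num) le_rfl
        ((mem_center_iff' hS).2 (Or.inr e1))

end

end Cfsg.Agent.LargeExtra.MonsterCent.Seven
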