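import Cfsg.Agent.Lib.LargeExtra.MonsterCent.SevenFixed

/-!
The normaliser of the element of order seven inside the stabiliser of the standard cross: no element
raises it to the third power, and an element centralising it that fixes the first triple of fixed
classes is a power of it, up to sign.
-/

set_option autoImplicit false
set_option maxRecDepth 100000
set_option maxHeartbeats 4000000

namespace Cfsg.Agent.LargeExtra.MonsterCent.Seven

open Cfsg Cfsg.Agent.Golay.Basic Cfsg.Agent.Leech.Basic Cfsg.Agent.Leech.Classes Cfsg.Agent.Leech.Mod2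
  Cfsg.Agent.Leech.Index Cfsg.Agent.LeechAut.Gens Cfsg.Agent.LeechAut.Basic Cfsg.Agent.LeechAut.Cross
  Cfsg.Agent.LeechAut.Co1 Cfsg.Agent.LeechAut.Maximal
open scoped Pointwise

/-- The three orbits of length seven, each followed by the fixed point completing it to an octad. -/
def pointTab : List ℕ :=
  [0, 4, 20, 6, 14, 2, 1, 8, 5, 12, 11, 9, 15, 22, 13, 3, 7, 23, 10, 19, 18, 16, 17, 21]

/-- The positions in the table. -/
def locTab : List ℕ :=
  [0, 6, 5, 15, 1, 8, 3, 16, 7, 11, 18, 10, 9, 14, 4, 12, 21, 22, 20, 19, 2, 23, 13, 17]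

/-- The point in position `(k, t)`; `t = 7` is the fixed point. -/
def pointAt (k t : ℕ) : GolayPt := pt (pointTab.getD (8 * k + t) 0)

/-- The octads made by an orbit and a fixed point. -/
def octMask : List ℕ := [0x104157, 0x40ba28, 0xaf0480]

/-- The fixed code words. -/
def fixList : List ℕ := [0, 0x104157, 0x40ba28, 0x50fb7f, 0xaf0480, 0xbf45d7, 0xefbea8, 0xffffff]

/-- The permutations of three letters. -/
def threeList : List (List ℕ) := [[0, 1, 2], [0, 2, 1], [1, 0, 2], [1, 2, 0], [2, 0, 1], [2, 1, 0]]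

theorem sigma_point : ∀ k : Fin 3, (∀ t : Fin 7, sigmaP (pointAt k t) = pointAt k ((t + 1) % 7)) ∧
    sigmaP (pointAt k 7) = pointAt k 7 := by decide +kernel

theorem loc_point : ∀ p : GolayPt,
    pointAt (locTab.getD (ix p) 0 / 8) (locTab.getD (ix p) 0 % 8) = p ∧
    locTab.getD (ix p) 0 / 8 < 3 := by decide +kernel

/-- The candidate for the inverse of a permutation part: `π` on the three rows, shifts `a`, `b` on
the second and third row, exponent `j`. -/
def cand (π : List ℕ) (j a b : ℕ) (p : GolayPt) : GolayPt :=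
  let l := locTab.getD (ix p) 0
  pointAt (π.getD (l / 8) 0)
    (if l % 8 = 7 then 7 else (j * (l % 8) + [0, a, b].getD (l / 8) 0) % 7)

/-- The code test for a candidate. -/
def candCode (f : GolayPt → GolayPt) : Bool :=
  basisMasks.all fun b => isCode (Nat.ofBits fun i : Fin 24 => b.testBit (ix (f (pt i.1))))

theorem mask_smul (τ : Equiv.Perm GolayPt) (m : ℕ) :
    mask (τ • maskSet m) = Nat.ofBits fun i : Fin 24 => m.testBit (ix (τ.symm (pt i.1))) := by
  rw [mask]
  congr 1
  funext i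
  have h : pt i.1 ∈ τ • maskSet m ↔ m.testBit (ix (τ.symm (pt i.1))) = true := by
    rw [Finset.mem_smul_finset]
    constructor
    · rintro ⟨y, hy, e⟩
      rw [← e]
      simpa using hy
    · intro h'
      exact ⟨τ.symm (pt i.1), mem_maskSet.2 h', τ.apply_symm_apply _⟩
  by_cases hb : m.testBit (ix (τ.symm (pt i.1))) = true
  · rw [hb]; exact decide_eq_true (h.2 hb)
  · rw [Bool.not_eq_true] at hb
    rw [hb]; exact decide_eq_false fun e => by simp [h.1 e] at hb

theorem candCode_of_mem {τ : Equiv.Perm GolayPt} (hτ : τ ∈ Cfsg.M24) {f : GolayPt → GolayPt}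
    (hf : ∀ p, τ.symm p = f p) : candCode f = true := by
  simp only [candCode, List.all_eq_true]
  intro b hb
  have hbc : maskSet b ∈ codeSets := by
    refine mem_supports_iff.2 ?_
    revert b
    decide +kernel
  have := mem_supports_iff.1 (Cfsg.Agent.Golay.M24.smul_mem_supports hτ hbc)
  rw [mask_smul] at this
  simp only [hf] at this
  exact this

/-! ### Parts -/

theorem mono_mul (τ ρ : Cfsg.M24) (c d : codeSets) :
    ∃ hc : symmDiff c.1 ((τ : Equiv.Perm GolayPt) • d.1) ∈ codeSets,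
      mono (τ, c) * mono (ρ, d) = mono (τ * ρ, ⟨_, hc⟩) := by
  refine ⟨symmDiff_mem_supports c.2 (Cfsg.Agent.Golay.M24.smul_mem_supports τ.2 d.2), ?_⟩
  have e : ∀ (τ : Cfsg.M24) (c : codeSets), mono (τ, c) = sign c.1 c.2 * permHom τ := fun _ _ => rfl
  rw [e, e, e, map_mul, ← sign_mul c.2 (Cfsg.Agent.Golay.M24.smul_mem_supports τ.2 d.2),
    ← conj_sign τ d.1 d.2]
  group

theorem sig_eq : sig = mono (⟨sigmaP, sigma_mem⟩, ⟨∅, empty_mem⟩) := by
  rw [sig, mEl]
  congr 1

theorem permHom_sig : permHom ⟨sigmaP, sigma_mem⟩ = sig := by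
  rw [sig_eq, MonsterPair.permHom_eq_mono]

theorem mem_crossStab_sig : sig ∈ crossStab := permHom_sig ▸ permHom_mem _

theorem sigma_pow : sigmaP ^ 7 = 1 := by
  refine Equiv.ext fun p => ?_
  simp only [pow_succ, pow_zero, one_mul, Equiv.Perm.mul_apply, Equiv.Perm.one_apply]
  revert p
  decide +kernel

theorem commute_parts {g : Cfsg.Co0} (hg : g ∈ crossStab) {j : ℕ} (hj : j < 7) (hj0 : 0 < j)
    (h : g * sig = sig ^ j * g) :
    ∃ (τ : Cfsg.M24) (c : codeSets), g = mono (τ, c) ∧
      (τ : Equiv.Perm GolayPt) * sigmaP = sigmaP ^ j * τ ∧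
      ∀ p, (sigmaP p ∈ c.1 ↔ p ∈ c.1) := by
  obtain ⟨⟨τ, c⟩, rfl⟩ := exists_mono g hg
  refine ⟨τ, c, rfl, ?_⟩
  let σ : Cfsg.M24 := ⟨sigmaP, sigma_mem⟩
  have hp : sig ^ j = mono (σ ^ j, ⟨∅, empty_mem⟩) := by
    rw [← MonsterPair.permHom_eq_mono, map_pow, permHom_sig]
  rw [hp, sig_eq] at h
  obtain ⟨h1, e1⟩ := mono_mul τ σ c ⟨∅, empty_mem⟩
  obtain ⟨h2, e2⟩ := mono_mul (σ ^ j) τ ⟨∅, empty_mem⟩ c
  rw [e1, e2] at h
  have := mono_injective h
  simp only [Prod.mk.injEq, Subtype.mk.injEq] at this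
  obtain ⟨ha, hb⟩ := this
  refine ⟨congrArg (fun u : Cfsg.M24 => (u : Equiv.Perm GolayPt)) ha, fun p => ?_⟩
  have hb' : c.1 = (sigmaP ^ j) • c.1 := by
    have hd : ∀ t : Finset GolayPt, symmDiff t ∅ = t ∧ symmDiff ∅ t = t := fun t =>
      ⟨by ext; simp [Finset.mem_symmDiff], by ext; simp [Finset.mem_symmDiff]⟩
    simpa [σ, Finset.smul_finset_empty, hd] using hb
  have hpow : ∀ k : ℕ, (sigmaP ^ j) ^ k • c.1 = c.1 := by
    intro k
    induction k with
    | zero => rw [pow_zero, one_smul]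
    | succ k ih => rw [pow_succ, mul_smul, ← hb', ih]
  obtain ⟨k, hk⟩ : ∃ k : ℕ, j * k % 7 = 1 := by
    interval_cases j
    exacts [⟨1, rfl⟩, ⟨4, rfl⟩, ⟨5, rfl⟩, ⟨2, rfl⟩, ⟨3, rfl⟩, ⟨6, rfl⟩]
  have hσ : sigmaP • c.1 = c.1 := by
    have := hpow k
    rwa [← pow_mul, pow_eq_pow_mod (j * k) sigma_pow, hk, pow_one] at this
  conv_lhs => rw [← hσ]
  rw [show sigmaP p = sigmaP • p from rfl, Finset.smul_mem_smul_finset_iff]

/-! ### The fixed code words -/

/-- A union of orbits. -/
def orbMask (b : Fin 6 → Bool) : ℕ := Nat.ofBits fun i : Fin 24 =>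
  let l := locTab.getD i.1 0
  if l % 8 = 7 then b ⟨(3 + l / 8) % 6, Nat.mod_lt _ (by norm_num)⟩
  else b ⟨(l / 8) % 6, Nat.mod_lt _ (by norm_num)⟩

theorem orbMask_code : ∀ b : Fin 6 → Bool, isCode (orbMask b) = true → orbMask b ∈ fixList := by
  decide +kernel

theorem mask_mem_fixList {c : Finset GolayPt} (hc : c ∈ codeSets)
    (hinv : ∀ p, (sigmaP p ∈ c ↔ p ∈ c)) : mask c ∈ fixList := by
  classical
  let b : Fin 6 → Bool := fun q =>
    if q.1 < 3 then decide (pointAt q.1 0 ∈ c) else decide (pointAt (q.1 - 3) 7 ∈ c)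
  have horb : ∀ k : Fin 3, ∀ t : ℕ, t < 7 → (pointAt k t ∈ c ↔ pointAt k 0 ∈ c) := by
    intro k t
    induction t with
    | zero => intro _; rfl
    | succ t ih =>
      intro ht
      rw [← ih (by omega), ← hinv (pointAt k t), (sigma_point k).1 ⟨t, by omega⟩]
      rw [show ((t : ℕ) + 1) % 7 = t + 1 from Nat.mod_eq_of_lt ht]
  have he : orbMask b = mask c := by
    rw [orbMask, mask]
    congr 1
    funext i
    obtain ⟨h1, h2⟩ := loc_point (pt i.1)
    rw [ix_pt i.2] at h1 h2
    simp only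
    set l := locTab.getD i.1 0
    split_ifs with h7
    · show (if (3 + l / 8) % 6 < 3 then _ else _) = _
      rw [if_neg (by rw [Nat.mod_eq_of_lt (by omega)]; omega)]
      simp only [Nat.mod_eq_of_lt (show 3 + l / 8 < 6 by omega), Nat.add_sub_cancel_left]
      rw [h7] at h1
      exact decide_eq_decide.2 (by
        rw [show ((3 + locTab.getD i.1 0 / 8) % 6 - 3) = l / 8 by show _ = locTab.getD i.1 0 / 8; change locTab.getD i.1 0 / 8 < 3 at h2; omega, h1])
    · show (if (l / 8) % 6 < 3 then _ else _) = _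
      rw [if_pos (by rw [Nat.mod_eq_of_lt (by omega)]; omega)]
      simp only [Nat.mod_eq_of_lt (show l / 8 < 6 by omega)]
      refine decide_eq_decide.2 ?_
      rw [show locTab.getD i.1 0 / 8 % 6 = l / 8 by show _ = locTab.getD i.1 0 / 8; change locTab.getD i.1 0 / 8 < 3 at h2; omega]
      rw [← horb ⟨l / 8, h2⟩ (l % 8) (by omega), h1]
  rw [← he]
  refine orbMask_code b ?_
  rw [he]
  exact mem_supports_iff.1 hc

theorem oct_facts : ∀ k : Fin 3, isCode (mask (maskSet (octMask.getD k 0))) = true ∧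
    (maskSet (octMask.getD k 0)).card = 8 ∧
    (∀ t : Fin 8, pointAt k t ∈ maskSet (octMask.getD k 0)) ∧
    (∀ p, p ∈ maskSet (octMask.getD k 0) → sigmaP p ∈ maskSet (octMask.getD k 0)) ∧
    (∀ p, p ∈ maskSet (octMask.getD k 0) → sigmaP p ≠ p → ∃ t : Fin 7, p = pointAt k t) ∧
    ∀ m ∈ fixList, (maskSet m).card = 8 → pointAt k 7 ∈ maskSet m → m = octMask.getD k 0 := by
  decide +kernel

theorem fixed_points : ∀ p : GolayPt,
    ((sigmaP (sigmaP (sigmaP p)) = p → sigmaP p = p) ∧
      (sigmaP p = p → ∃ k : Fin 3, p = pointAt k 7)) := by decide +kernel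

theorem sigma_moves : ∀ (k : Fin 3) (t : Fin 7), sigmaP (pointAt k t) ≠ pointAt k t := by
  decide +kernel

theorem point_inj : ∀ k k' : Fin 3, pointAt k 7 = pointAt k' 7 → k = k' := by decide +kernel

/-! ### The candidates -/

/-- The inverse of the exponent. -/
def expInv (j : ℕ) : ℕ := if j = 1 then 1 else if j = 3 then 5 else 6

/-- The shape of a permutation part `τ` with `τ σ = σ ^ j τ`. -/
theorem perm_shape {τ : Equiv.Perm GolayPt} (hτ : τ ∈ Cfsg.M24) {j : ℕ} (hj : j = 1 ∨ j = 3 ∨ j = 6)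
    (h : τ * sigmaP = sigmaP ^ j * τ) :
    ∃ π ∈ threeList, ∃ a b i, a < 7 ∧ b < 7 ∧
      (∀ p, (τ * sigmaP ^ i).symm p = cand π (expInv j) a b p) := by
  set ω := τ.symm with hω
  -- `ω` turns `σ ^ j` into `σ`
  have hstep : ∀ p, ω ((sigmaP ^ j) p) = sigmaP (ω p) := by
    intro p
    apply τ.injective
    rw [hω, τ.apply_symm_apply]
    have := congrArg (fun u : Equiv.Perm GolayPt => u (τ.symm p)) h
    simp only [Equiv.Perm.mul_apply] at this
    rw [this, τ.apply_symm_apply]
  have hfix : ∀ q : Fin 3, ∃ k : Fin 3, ω (pointAt q 7) = pointAt k 7 := by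
    intro q
    have h1 : (sigmaP ^ j) (pointAt q 7) = pointAt q 7 := by
      rcases hj with rfl | rfl | rfl <;>
        simp [pow_succ, Equiv.Perm.mul_apply, (sigma_point q).2]
    have h2 := hstep (pointAt q 7)
    rw [h1] at h2
    exact (fixed_points _).2 h2.symm
  choose π hπ using hfix
  have horb : ∀ q : Fin 3, ∃ a : Fin 7, ω (pointAt q 0) = pointAt (π q) a := by
    intro q
    obtain ⟨hO, hO8, hmem, hinv, -, -⟩ := oct_facts q
    set O := maskSet (octMask.getD q 0)
    have hinj : τ⁻¹ • O = O.image ω := rfl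
    have hc : τ⁻¹ • O ∈ codeSets :=
      Cfsg.Agent.Golay.M24.smul_mem_supports (Cfsg.M24.inv_mem hτ) (mem_supports_iff.2 hO)
    have hinvO : ∀ p, (sigmaP p ∈ τ⁻¹ • O ↔ p ∈ τ⁻¹ • O) := by
      have hfwd : ∀ p ∈ τ⁻¹ • O, sigmaP p ∈ τ⁻¹ • O := by
        intro p hp
        rw [hinj, Finset.mem_image] at hp ⊢
        obtain ⟨y, hy, rfl⟩ := hp
        refine ⟨(sigmaP ^ j) y, ?_, hstep y⟩
        have hpw : ∀ n : ℕ, (sigmaP ^ n) y ∈ O := by
          intro n
          induction n with
          | zero => exact hy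
          | succ n ih => rw [pow_succ', Equiv.Perm.mul_apply]; exact hinv _ ih
        exact hpw j
      intro p
      refine ⟨fun hp => ?_, hfwd p⟩
      have h6 := hfwd _ (hfwd _ (hfwd _ (hfwd _ (hfwd _ (hfwd _ hp)))))
      have e7 := congrArg (fun u : Equiv.Perm GolayPt => u p) sigma_pow
      simp only [pow_succ, pow_zero, one_mul, Equiv.Perm.mul_apply, Equiv.Perm.one_apply] at e7
      rwa [e7] at h6
    have hm := mask_mem_fixList hc hinvO
    obtain ⟨-, -, -, -, hsplit, huniq⟩ := oct_facts (π q)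
    have heq := huniq _ hm (by rw [maskSet_mask, Finset.card_smul_finset, hO8])
      (by
        rw [maskSet_mask, hinj, Finset.mem_image]
        exact ⟨_, hmem ⟨7, by norm_num⟩, hπ q⟩)
    have h0 : ω (pointAt q 0) ∈ maskSet (octMask.getD (π q) 0) := by
      rw [← heq, maskSet_mask, hinj]
      exact Finset.mem_image_of_mem _ (hmem ⟨0, by norm_num⟩)
    refine hsplit _ h0 fun e => sigma_moves q ⟨0, by norm_num⟩ ?_
    have e' := (fixed_points _).2 e
    obtain ⟨k, hk⟩ := e'
    have hτk : pointAt q 0 = τ (pointAt k 7) := by rw [← hk, hω, τ.apply_symm_apply]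
    show sigmaP (pointAt q 0) = pointAt q 0
    have hj3 : (sigmaP ^ j) (pointAt q 0) = pointAt q 0 := by
      have := congrArg (fun u : Equiv.Perm GolayPt => u (pointAt k 7)) h
      simp only [Equiv.Perm.mul_apply, (sigma_point k).2] at this
      rw [hτk]; exact this.symm
    rcases hj with rfl | rfl | rfl
    · simpa using hj3
    · exact (fixed_points _).1 (by simpa [pow_succ, Equiv.Perm.mul_apply] using hj3)
    · have h7 := congrArg (fun u : Equiv.Perm GolayPt => u (pointAt q 0)) sigma_pow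
      simp only [Equiv.Perm.one_apply] at h7
      rw [pow_succ', Equiv.Perm.mul_apply, hj3] at h7
      exact h7
  choose a ha using horb
  have hπi : Function.Injective π := fun q q' e => by
    have : ω (pointAt q 7) = ω (pointAt q' 7) := by rw [hπ q, hπ q', e]
    exact point_inj q q' (ω.injective this)
  have hlist : [(π 0).1, (π 1).1, (π 2).1] ∈ threeList := by
    have key : ∀ x y w : Fin 3, x ≠ y → x ≠ w → y ≠ w → [x.1, y.1, w.1] ∈ threeList := by decide +kernel
    exact key _ _ _ (hπi.ne (by decide)) (hπi.ne (by decide)) (hπi.ne (by decide))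
  -- the shift removed
  refine ⟨_, hlist, ((a 1).1 + 7 - (a 0).1) % 7, ((a 2).1 + 7 - (a 0).1) % 7, (a 0).1,
    Nat.mod_lt _ (by norm_num), Nat.mod_lt _ (by norm_num), fun p => ?_⟩
  set e := expInv j with he
  have hje : j * e % 7 = 1 := by rcases hj with rfl | rfl | rfl <;> simp [he, expInv]
  have hsh : ∀ (k : Fin 3) (t n : ℕ), t < 7 → (sigmaP ^ n) (pointAt k t) = pointAt k ((t + n) % 7) := by
    intro k t n ht
    induction n with
    | zero => rw [pow_zero, Nat.add_zero, Nat.mod_eq_of_lt ht]; rfl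
    | succ n ih =>
      rw [pow_succ', Equiv.Perm.mul_apply, ih, (sigma_point k).1 ⟨_, Nat.mod_lt _ (by norm_num)⟩]
      congr 1
      simp only
      omega
  have hω' : ∀ (n : ℕ) p, ω ((sigmaP ^ (j * n)) p) = (sigmaP ^ n) (ω p) := by
    intro n
    induction n with
    | zero => intro p; simp
    | succ n ih =>
      intro p
      rw [Nat.mul_succ, add_comm, pow_add, Equiv.Perm.mul_apply, hstep, ih, pow_succ',
        Equiv.Perm.mul_apply]
  have hgen : ∀ (q : Fin 3) (t : ℕ), t < 7 →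
      ω (pointAt q t) = pointAt (π q) (((a q).1 + e * t) % 7) := by
    intro q t ht
    have h1 : pointAt q t = (sigmaP ^ (j * (e * t))) (pointAt q 0) := by
      rw [hsh q 0 _ (by norm_num), Nat.zero_add, ← Nat.mul_assoc, Nat.mul_mod, hje, Nat.one_mul,
        Nat.mod_mod, Nat.mod_eq_of_lt ht]
    rw [h1, hω', ha, hsh _ _ _ (a q).2]
  have hsymm : (τ * sigmaP ^ (a 0).1).symm p = (sigmaP ^ (7 - (a 0).1)) (ω p) := by
    rw [Equiv.symm_apply_eq, Equiv.Perm.mul_apply, ← Equiv.Perm.mul_apply (sigmaP ^ _) (sigmaP ^ _),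
      ← pow_add, show (a 0).1 + (7 - (a 0).1) = 7 by have := (a 0).2; omega, sigma_pow,
      Equiv.Perm.one_apply, hω, τ.apply_symm_apply]
  rw [hsymm, cand]
  obtain ⟨h1, h2⟩ := loc_point p
  set l := locTab.getD (ix p) 0
  obtain ⟨q, hq⟩ : ∃ q : Fin 3, l / 8 = q.1 := ⟨⟨l / 8, h2⟩, rfl⟩
  conv_lhs => rw [← h1, hq]
  have hπq : [(π 0).1, (π 1).1, (π 2).1].getD (l / 8) 0 = (π q).1 := by
    rw [hq]; fin_cases q <;> rfl
  rw [hπq]
  split_ifs with h7
  · rw [h7, hπ]
    have : ∀ n, (sigmaP ^ n) (pointAt (π q) 7) = pointAt (π q) 7 := by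
      intro n
      induction n with
      | zero => rfl
      | succ n ih => rw [pow_succ', Equiv.Perm.mul_apply, ih, (sigma_point _).2]
    exact this _
  · rw [hgen q _ (by omega), hsh _ _ _ (Nat.mod_lt _ (by norm_num)), hq]
    congr 1
    have := (a q).2
    have := (a 0).2
    fin_cases q <;> simp <;> omega

theorem three_none : ∀ π ∈ threeList, ∀ a b : Fin 7, candCode (cand π 5 a b) = false := by
  decide +kernel

/-- The image of a representative under a candidate. -/
def candFun (π : List ℕ) (a b m : ℕ) (x : Vec) : Vec := fun p =>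
  if m.testBit (ix p) then -x (cand π 1 a b p) else x (cand π 1 a b p)

theorem one_kernel : ∀ π ∈ threeList, ∀ a b : Fin 7, candCode (cand π 1 a b) = true →
    ∀ m ∈ fixList,
      half (candFun π a b m (repFun (unit 1))) (repFun (unit 1)) = true →
      half (candFun π a b m (repFun (unit 2))) (repFun (unit 2)) = true →
      π = [0, 1, 2] ∧ (a : ℕ) = 0 ∧ (b : ℕ) = 0 ∧ (m = 0 ∨ m = 0xffffff) := by
  decide +kernel

/-- No element of the stabiliser raises the element to the third power. -/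
theorem no_three {g : Cfsg.Co0} (hg : g ∈ crossStab) : g * sig ≠ sig ^ 3 * g := by
  intro h
  obtain ⟨τ, c, -, hτ, -⟩ := commute_parts hg (by norm_num) (by norm_num) h
  obtain ⟨π, hπ, a, b, i, ha, hb, hc⟩ := perm_shape τ.2 (Or.inr (Or.inl rfl)) hτ
  have h1 := candCode_of_mem (Cfsg.M24.mul_mem τ.2 (pow_mem sigma_mem i)) hc
  rw [show expInv 3 = 5 from rfl] at h1
  have h2 := three_none π hπ ⟨a, ha⟩ ⟨b, hb⟩
  rw [h2] at h1
  exact absurd h1 (by simp)

theorem six_none : ∀ π ∈ threeList, ∀ a b : Fin 7, candCode (cand π 6 a b) = false := by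
  decide +kernel

/-- No element of the stabiliser inverts the element. -/
theorem no_six {g : Cfsg.Co0} (hg : g ∈ crossStab) : g * sig ≠ sig ^ 6 * g := by
  intro h
  obtain ⟨τ, c, -, hτ, -⟩ := commute_parts hg (by norm_num) (by norm_num) h
  obtain ⟨π, hπ, a, b, i, ha, hb, hc⟩ := perm_shape τ.2 (Or.inr (Or.inr rfl)) hτ
  have h1 := candCode_of_mem (Cfsg.M24.mul_mem τ.2 (pow_mem sigma_mem i)) hc
  rw [show expInv 6 = 6 from rfl] at h1
  rw [six_none π hπ ⟨a, ha⟩ ⟨b, hb⟩] at h1
  exact absurd h1 (by simp)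

/-- An element of the stabiliser centralising the element and fixing two further classes. -/
theorem stab_kernel {g : Cfsg.Co0} (hg : g ∈ crossStab) (h : g * sig = sig * g)
    (h1 : cls (g • rep (unit 1)) = cls (rep (unit 1)))
    (h2 : cls (g • rep (unit 2)) = cls (rep (unit 2))) :
    ∃ i : ℕ, g = sig ^ i ∨ g = negOne * sig ^ i := by
  obtain ⟨τ, c, rfl, hτ, hc⟩ := commute_parts hg (j := 1) (by norm_num) (by norm_num) (by rw [pow_one]; exact h)
  obtain ⟨π, hπ, a, b, i, ha, hb, hsh⟩ := perm_shape τ.2 (Or.inl rfl) hτ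
  rw [show expInv 1 = 1 from rfl] at hsh
  let σ : Cfsg.M24 := ⟨sigmaP, sigma_mem⟩
  have hcode := candCode_of_mem (Cfsg.M24.mul_mem τ.2 (pow_mem sigma_mem i)) hsh
  have hm := mask_mem_fixList c.2 hc
  have hact : ∀ v : leechLattice, ((mono (τ * σ ^ i, c) • v : leechLattice) : Vec) =
      candFun π a b (mask c.1) (v : Vec) := by
    intro v
    rw [mono_smul]
    funext p
    simp only [signedPerm, candFun, testBit_mask, decide_eq_true_eq]
    have hp : ((τ * σ ^ i : Cfsg.M24) : Equiv.Perm GolayPt).symm p = cand π 1 a b p := hsh p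
    rw [hp]
  have hmul : mono (τ, c) * sig ^ i = mono (τ * σ ^ i, c) := by
    have e : ∀ (τ : Cfsg.M24) (c : codeSets), mono (τ, c) = sign c.1 c.2 * permHom τ := fun _ _ => rfl
    rw [e, e, map_mul, map_pow, permHom_sig, mul_assoc]
  have hfx : ∀ n : ℕ, ∀ k : Fin 6, cls (sig ^ n • rep (unit k)) = cls (rep (unit k)) := by
    intro n k
    induction n with
    | zero => rw [pow_zero, one_smul]
    | succ n ih =>
      rw [pow_succ', mul_smul, MonsterPair.cls_smul sig ih]
      exact phi_fixed (unit k) _ (phi_eq _).symm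
  have hw : ∀ k : Fin 6, cls (mono (τ, c) • rep (unit k)) = cls (rep (unit k)) →
      half (candFun π a b (mask c.1) (repFun (unit k))) (repFun (unit k)) = true := by
    intro k hk
    have e1 : cls (mono (τ * σ ^ i, c) • rep (unit k)) = cls (rep (unit k)) := by
      rw [← hmul, mul_smul, MonsterPair.cls_smul _ (hfx i k), hk]
    have := half_of_cls e1
    rwa [hact] at this
  obtain ⟨rfl, e1, e2, e3⟩ := one_kernel π hπ ⟨a, ha⟩ ⟨b, hb⟩ hcode _ hm (hw 1 h1) (hw 2 h2)
  obtain rfl : a = 0 := e1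
  obtain rfl : b = 0 := e2
  have hτ1 : τ * σ ^ i = 1 := by
    refine Subtype.ext (Equiv.ext fun p => ?_)
    have hid : ∀ p, cand [0, 1, 2] 1 0 0 p = p := by decide +kernel
    have := hsh p
    rw [hid] at this
    show (τ.1 * sigmaP ^ i) p = p
    conv_lhs => rw [← this]
    exact Equiv.apply_symm_apply _ p
  have hg' : mono (τ, c) * sig ^ i = mono (1, c) := by rw [hmul, hτ1]
  obtain ⟨n, hn⟩ : ∃ n : ℕ, (sig ^ i)⁻¹ = sig ^ n := ⟨6 * i, by
    rw [inv_eq_iff_mul_eq_one, ← pow_add, show i + 6 * i = 7 * i by ring, pow_mul, sig_pow_seven, one_pow]⟩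
  refine ⟨n, ?_⟩
  have hfin : mono (τ, c) = mono (1, c) * sig ^ n := by rw [← hn, ← hg', mul_inv_cancel_right]
  rcases e3 with e3 | e3
  · left
    have hc0 : c = ⟨∅, empty_mem⟩ := Subtype.ext (mask_injective (by rw [e3]; decide +kernel))
    rw [hfin, hc0, ← MonsterPair.permHom_eq_mono, map_one, one_mul]
  · right
    have hcu : c.1 = Finset.univ := mask_injective (by rw [e3]; decide +kernel)
    rw [hfin]
    refine congrArg (fun u : Cfsg.Co0 => u * sig ^ n) ?_
    refine ext' fun v => Subtype.ext ?_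
    rw [mono_smul, negOne_smul, AddSubgroup.coe_neg]
    funext p
    show (if p ∈ c.1 then _ else _) = -(v : Vec) p
    rw [if_pos (by rw [hcu]; exact Finset.mem_univ p)]
    rfl

end Cfsg.Agent.LargeExtra.MonsterCent.Seven
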